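import Cfsg.Agent.Lib.Block.Tri9
import Cfsg.Agent.Lib.Transfer.HallWielandt

/-! A group whose `3³` has normaliser `3³ : A₄` containing all centralisers. -/

set_option autoImplicit false
set_option synthInstance.maxSize 4096
set_option maxRecDepth 4096

namespace Cfsg.Lib.Mc3

open Subgroup Cfsg.Lib.Block.Tri Cfsg.Lib.Transfer SemidirectProduct

variable {X : Type*} [Group X]

/-- The cyclic group of order 3 on `x`. -/
def a4c3 {x : X} (hx : x ^ 3 = 1) : C3 →* X := (em hx (one_pow 3) (Commute.one_right x)).comp (MonoidHom.inl _ _)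

theorem a4c3_γ {x : X} (hx : x ^ 3 = 1) : a4c3 hx γ = x := by
  show x ^ 1 * 1 ^ _ = x
  simp

/-- The cyclic group of order 2 on `a`. -/
def a4c2 {a : X} (ha : a * a = 1) : C2 →* X := MonoidHom.mk' (fun i => if i = 1 then 1 else a) fun i j => by
  rcases (by decide : ∀ i : C2, i = 1 ∨ i = ν) i with rfl | rfl <;>
    rcases (by decide : ∀ i : C2, i = 1 ∨ i = ν) j with rfl | rfl <;>
    simp [(by decide : ν ≠ 1), (by decide : ν * ν = 1), ha]

theorem a4c2_ν {a : X} (ha : a * a = 1) : a4c2 ha ν = a := by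
  show (if ν = 1 then 1 else a) = a
  exact if_neg (by decide)

theorem a4_gen {f g : A3 →* X} (h1 : f (γ, 1, 1) = g (γ, 1, 1)) (h2 : f (1, γ, 1) = g (1, γ, 1)) (h3 : f (1, 1, γ) = g (1, 1, γ)) :
    f = g := MonoidHom.ext fun x => by
  rw [(by decide +kernel : ∀ x : A3, x = (γ, 1, 1) ^ x.1.toAdd.val * (1, γ, 1) ^ x.2.1.toAdd.val * (1, 1, γ) ^ x.2.2.toAdd.val) x]
  simp only [map_mul, map_pow, h1, h2, h3]

theorem a4_kappa {T : Subgroup X} {e1 e2 e3 a b : X} (cT : Nat.card T = 27)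
    (hT : T = closure {e1, e2, e3}) (m1 : e1 ∈ T) (m2 : e2 ∈ T) (m3 : e3 ∈ T)
    (ab : ∀ x ∈ T, ∀ y ∈ T, x * y = y * x) (t3 : ∀ x ∈ T, x ^ 3 = 1) (aa : a * a = 1) (bb : b * b = 1) (c : a * b = b * a)
    (a1 : a * e1 * a⁻¹ = e1⁻¹) (a2 : a * e2 * a⁻¹ = e2⁻¹) (a3 : a * e3 * a⁻¹ = e3)
    (b1 : b * e1 * b⁻¹ = e1⁻¹) (b2 : b * e2 * b⁻¹ = e2) (b3 : b * e3 * b⁻¹ = e3⁻¹) :
    ∃ κ : W3 →* X, Function.Injective κ ∧ (κ.comp inl).range = T ∧ a ∈ κ.range ∧ b ∈ κ.range ∧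
      κ (inl (γ, 1, 1)) = e1 ∧ κ (inl (1, γ, 1)) = e2 ∧ κ (inl (1, 1, γ)) = e3 := by
  have cm : ∀ {x y : X} (hx : x ^ 3 = 1) (hy : y ^ 3 = 1), Commute x y → ∀ i j, Commute (a4c3 hx i) (a4c3 hy j) := fun hx hy h i j => by
    rw [(by decide : ∀ i : C3, i = γ ^ i.toAdd.val) i, (by decide : ∀ i : C3, i = γ ^ i.toAdd.val) j, map_pow, map_pow, a4c3_γ, a4c3_γ]
    exact h.pow_pow _ _
  let f2 : A2 →* X := (a4c3 (t3 _ m2)).noncommCoprod (a4c3 (t3 _ m3)) (cm _ _ (ab _ m2 _ m3))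
  let fN : A3 →* X := (a4c3 (t3 _ m1)).noncommCoprod f2 fun i j => (cm _ _ (ab _ m1 _ m2) i j.1).mul_right (cm _ _ (ab _ m1 _ m3) i j.2)
  have nn : ∀ i j k, fN (i, j, k) = a4c3 (t3 _ m1) i * (a4c3 (t3 _ m2) j * a4c3 (t3 _ m3) k) := fun _ _ _ => rfl
  have n1 : fN (γ, 1, 1) = e1 := by simp [nn, a4c3_γ]
  have n2 : fN (1, γ, 1) = e2 := by simp [nn, a4c3_γ]
  have n3 : fN (1, 1, γ) = e3 := by simp [nn, a4c3_γ]
  let fK : K4 →* X := (a4c2 aa).noncommCoprod (a4c2 bb) fun i j => by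
    rcases (by decide : ∀ i : C2, i = 1 ∨ i = ν) i with rfl | rfl <;>
      rcases (by decide : ∀ i : C2, i = 1 ∨ i = ν) j with rfl | rfl <;> simp [a4c2_ν]
    exact c
  have k1 : fK (ν, 1) = a := by simp [fK, a4c2_ν]
  have k2 : fK (1, ν) = b := by simp [fK, a4c2_ν]
  have ci : ∀ g x : X, g * x⁻¹ * g⁻¹ = (g * x * g⁻¹)⁻¹ := fun g x => by group
  have ha : fN.comp (φ3 (ν, 1)).toMonoidHom = (MulAut.conj (fK (ν, 1))).toMonoidHom.comp fN := a4_gen
    (by show fN (φ3 (ν, 1) (γ, 1, 1)) = fK _ * fN _ * (fK _)⁻¹; rw [k1, n1, a1, ← n1, ← map_inv]; congr 1)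
    (by show fN (φ3 (ν, 1) (1, γ, 1)) = fK _ * fN _ * (fK _)⁻¹; rw [k1, n2, a2, ← n2, ← map_inv]; congr 1)
    (by show fN (φ3 (ν, 1) (1, 1, γ)) = fK _ * fN _ * (fK _)⁻¹; rw [k1, n3, a3, ← n3]; congr 1)
  have hb : fN.comp (φ3 (1, ν)).toMonoidHom = (MulAut.conj (fK (1, ν))).toMonoidHom.comp fN := a4_gen
    (by show fN (φ3 (1, ν) (γ, 1, 1)) = fK _ * fN _ * (fK _)⁻¹; rw [k2, n1, b1, ← n1, ← map_inv]; congr 1)
    (by show fN (φ3 (1, ν) (1, γ, 1)) = fK _ * fN _ * (fK _)⁻¹; rw [k2, n2, b2, ← n2]; congr 1)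
    (by show fN (φ3 (1, ν) (1, 1, γ)) = fK _ * fN _ * (fK _)⁻¹; rw [k2, n3, b3, ← n3, ← map_inv]; congr 1)
  have hall : ∀ d : K4, fN.comp (φ3 d).toMonoidHom = (MulAut.conj (fK d)).toMonoidHom.comp fN := fun d => by
    rcases (by decide : ∀ d : K4, d = 1 ∨ d = (ν, 1) ∨ d = (1, ν) ∨ d = (ν, 1) * (1, ν)) d with rfl | rfl | rfl | rfl
    · ext x <;> simp
    · exact ha
    · exact hb
    · refine MonoidHom.ext fun x => ?_
      have p := DFunLike.congr_fun ha (φ3 (1, ν) x)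
      have q := DFunLike.congr_fun hb x
      simp only [MonoidHom.comp_apply, MulEquiv.coe_toMonoidHom, MulAut.conj_apply, map_mul, MulAut.mul_apply] at p q ⊢
      rw [p, q]; group
  have rN : fN.range = T := by
    refine le_antisymm ?_ (hT.le.trans ((closure_le _).2 ?_))
    · rintro _ ⟨x, rfl⟩
      rw [(by decide +kernel : ∀ x : A3, x = (γ, 1, 1) ^ x.1.toAdd.val * (1, γ, 1) ^ x.2.1.toAdd.val * (1, 1, γ) ^ x.2.2.toAdd.val) x]
      simp only [map_mul, map_pow, n1, n2, n3]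
      exact mul_mem (mul_mem (pow_mem m1 _) (pow_mem m2 _)) (pow_mem m3 _)
    · rintro _ (rfl | rfl | rfl)
      exacts [⟨_, n1⟩, ⟨_, n2⟩, ⟨_, n3⟩]
  have iN : Function.Injective fN := by
    rw [← MonoidHom.ker_eq_bot_iff, ← card_eq_one]
    have p := fN.ker.card_mul_index
    rw [index_ker, rN, cT, Nat.card_eq_fintype_card (α := A3), (by decide +kernel : Fintype.card A3 = 27)] at p
    omega
  refine ⟨lift fN fK hall, (injective_iff_map_eq_one _).2 fun w hw => ?_, by rw [lift_comp_inl, rN],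
    ⟨inr (ν, 1), (lift_inr _ _ _ _).trans k1⟩, ⟨inr (1, ν), (lift_inr _ _ _ _).trans k2⟩,
    (lift_inl _ _ _ _).trans n1, (lift_inl _ _ _ _).trans n2, (lift_inl _ _ _ _).trans n3⟩
  · have e : fN w.left * fK w.right = 1 := hw
    have mK : fK w.right ∈ T := by
      rw [eq_inv_of_mul_eq_one_right e]; exact inv_mem (rN.le ⟨_, rfl⟩)
    have d1 : w.right = 1 := (by decide +kernel : ∀ d : K4, (∀ x, φ3 d x = x) → d = 1) _ fun x => iN (by
      have p := DFunLike.congr_fun (hall w.right) x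
      simp only [MonoidHom.comp_apply, MulEquiv.coe_toMonoidHom, MulAut.conj_apply] at p
      rw [p, ab _ mK _ (rN.le ⟨_, rfl⟩), mul_inv_cancel_right])
    rw [d1, map_one, mul_one] at e
    exact SemidirectProduct.ext (iN (e.trans (map_one _).symm)) d1

theorem a4_core [Finite X] {T : Subgroup X} (κ : W3 →* X) (hi : Function.Injective κ) (hTH : T ≤ κ.range) (cT : Nat.card T = 27)
    (cm : ∀ x ∈ T, ∀ y ∈ T, x * y = y * x) (HN : κ.range ≤ normalizer (T : Set X))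
    (hN : ∀ g ∈ normalizer (T : Set X), (orderOf g).Coprime 3 → g ∈ κ.range)
    (wc : ∀ g, cj g T ≤ normalizer (T : Set X) → cj g T = T)
    (hC : ∀ x ∈ T, x ≠ 1 → centralizer ({x} : Set X) ≤ normalizer (T : Set X)) : normalizer (T : Set X) = ⊤ := by
  obtain ⟨P, hP⟩ := (IsPGroup.of_card (p := 3) (n := 3) cT).exists_le_sylow
  have pN : (P : Subgroup X) ≤ normalizer (T : Set X) := by
    by_contra n
    have l := lt_inf_normalizer P.isPGroup' (inf_lt_left.2 n)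
    refine l.not_ge fun g hg => ⟨hg.1, cj_eq_iff.1 (wc g ?_)⟩
    exact ((cj_mono g (le_inf hP le_normalizer)).trans (cj_eq_iff.2 hg.2).le).trans inf_le_right
  have hw := hall_wielandt_comm (p := 3) (by norm_num) P (W := T) ⟨hP, fun g h => wc g (h.trans pN)⟩
    ⟨⟨fun x y => Subtype.ext (cm _ x.2 _ y.2)⟩⟩
  have iv : ∀ s : W3, s * s = 1 → κ s ∈ pResidual 3 X := fun s hs => subset_closure
    (Nat.Coprime.coprime_dvd_left (orderOf_dvd_of_pow_eq_one (n := 2) (by rw [sq, ← map_mul, hs, map_one])) (by norm_num))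
  have pr : ∀ s t : W3, (s * t) * (s * t) = 1 → t⁻¹ * t⁻¹ = 1 → κ s ∈ pResidual 3 X := fun s t h1 h2 => by
    simpa using mul_mem (iv _ h1) (iv _ h2)
  have H0 : ∀ w, κ w ∈ pResidual 3 X := fun w => by
    rw [(by decide +kernel : ∀ w : W3, w = g3 0 ^ w.left.1.toAdd.val * g3 1 ^ w.left.2.1.toAdd.val * g3 2 ^ w.left.2.2.toAdd.val *
      inr (ν, 1) ^ w.right.1.toAdd.val * inr (1, ν) ^ w.right.2.toAdd.val) w]
    simp only [map_mul, map_pow]
    exact mul_mem (mul_mem (mul_mem (mul_mem (pow_mem (pr _ (inr (ν, 1)) (by decide +kernel) (by decide +kernel)) _)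
      (pow_mem (pr _ (inr (ν, 1)) (by decide +kernel) (by decide +kernel)) _))
      (pow_mem (pr _ (inr (1, ν)) (by decide +kernel) (by decide +kernel)) _)) (pow_mem (iv _ (by decide +kernel)) _))
      (pow_mem (iv _ (by decide +kernel)) _)
  have T0 : T ≤ pResidual 3 X := fun x hx => by obtain ⟨w, rfl⟩ := hTH hx; exact H0 w
  let κ0 := κ.codRestrict _ H0
  have i0 : Function.Injective κ0 := fun a b h => hi (congrArg Subtype.val h)
  have up : ∀ x : pResidual 3 X, x.1 ∈ normalizer (T : Set X) → x ∈ κ0.range := fun x hx => by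
    obtain ⟨w, e⟩ := resOf_le_iff.2 hN (hw.ge ⟨x.2, hx⟩)
    exact ⟨w, Subtype.ext e⟩
  have top := eq_top27 (T := T.subgroupOf (pResidual 3 X)) ((MonoidHom.ofInjective i0).symm.trans (MonoidHom.ofInjective ψ3_inj))
    (fun x hx => up x (le_normalizer hx)) ((Nat.card_congr (subgroupOfEquivOfLe T0).toEquiv).trans cT)
    (by rw [← subgroupOf_normalizer_eq T0]; exact le_antisymm up (by rintro _ ⟨w, rfl⟩; exact HN ⟨w, rfl⟩))
    fun t ht t1 g hg => up g (hC t ht (fun e => t1 (Subtype.ext e))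
      (mem_centralizer_singleton_iff.2 (congrArg Subtype.val (mem_centralizer_singleton_iff.1 hg))))
  haveI := pResidual_normal (p := 3) (G := X)
  refine top_le_iff.1 fun g _ => cj_eq_iff.1 (wc g ((cj_mono g T0).trans ((cj_eq_of_normal g _).le.trans fun x hx => ?_)))
  obtain ⟨w, e⟩ := top.ge (mem_top (⟨x, hx⟩ : pResidual 3 X))
  exact HN ⟨w, congrArg Subtype.val e⟩

theorem a4_dec {H : Subgroup X} {ρ : X} (hn : ρ ∈ normalizer (H : Set X)) (h3 : ρ ^ 3 ∈ H) :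
    ∀ g ∈ H ⊔ zpowers ρ, ∃ i < 3, g * (ρ ^ i)⁻¹ ∈ H := by
  let M : Subgroup X :=
    { carrier := {g | ∃ i : ℕ, g * (ρ ^ i)⁻¹ ∈ H}
      one_mem' := ⟨0, by simp⟩
      mul_mem' := by
        rintro g h ⟨i, p⟩ ⟨j, q⟩
        refine ⟨i + j, ?_⟩
        convert mul_mem p (conj_mem_of_mem_normalizer (pow_mem hn i) q) using 1
        group
      inv_mem' := by
        rintro g ⟨i, p⟩
        refine ⟨2 * i, ?_⟩
        convert mul_mem (conj_mem_of_mem_normalizer (inv_mem (pow_mem hn i)) (inv_mem p)) (inv_mem (pow_mem h3 i)) using 1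
        group }
  intro g hg
  obtain ⟨i, p⟩ := (sup_le (fun h hh => ⟨0, by simpa using hh⟩) (zpowers_le.2 ⟨1, by simp⟩) : H ⊔ zpowers ρ ≤ M) hg
  refine ⟨i % 3, Nat.mod_lt _ (by norm_num), ?_⟩
  convert mul_mem p (pow_mem h3 (i / 3)) using 1
  conv_rhs => rw [← Nat.div_add_mod i 3, pow_add, pow_mul, Nat.div_add_mod]
  group

theorem a4_dih {u v : X} (hu : u * u = 1) (hv : v * v = 1) (hc : u * v * (u * v) * (u * v) * (u * v * (u * v) * (u * v)) = 1) :
    u * v * (u * v) * (u * v) * v = v * (u * v * (u * v) * (u * v)) := by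
  conv_rhs => rw [← inv_eq_of_mul_eq_one_right hc]
  simp only [mul_inv_rev, inv_eq_of_mul_eq_one_right hu, inv_eq_of_mul_eq_one_right hv, mul_assoc, hv, mul_one]
  simp only [← mul_assoc, hv, one_mul]

/-- The cyclic shift of coordinates. -/
def a4σ : A3 →* A3 := MonoidHom.mk' (fun v => (v.2.2, v.1, v.2.1)) fun _ _ => rfl

theorem a4c [Finite X] {T : Subgroup X} {e1 e2 e3 a b r : X} (hT : T = closure {e1, e2, e3}) (cT : Nat.card T = 27)
    (cm : ∀ x ∈ T, ∀ y ∈ T, x * y = y * x) (x3 : ∀ x ∈ T, x ^ 3 = 1) (CT : centralizer (T : Set X) ≤ T)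
    (a1 : a * e1 * a⁻¹ = e1) (a2 : a * e2 * a⁻¹ = e2⁻¹) (a3 : a * e3 * a⁻¹ = e3⁻¹)
    (b1 : b * e1 * b⁻¹ = e1⁻¹) (b2 : b * e2 * b⁻¹ = e2) (b3 : b * e3 * b⁻¹ = e3⁻¹)
    (r1 : r * e1 * r⁻¹ = e2) (r2 : r * e2 * r⁻¹ = e3) (r3 : r * e3 * r⁻¹ = e1)
    (hN : normalizer (T : Set X) ≤ closure {e1, e2, e3, a, b, r})
    (hC : ∀ x ∈ T, x ≠ 1 → centralizer ({x} : Set X) ≤ normalizer (T : Set X)) : normalizer (T : Set X) = ⊤ := by
  have m1 : e1 ∈ T := hT.ge (subset_closure (by simp))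
  have m2 : e2 ∈ T := hT.ge (subset_closure (by simp))
  have m3 : e3 ∈ T := hT.ge (subset_closure (by simp))
  have cen : ∀ g : X, MulAut.conj g e1 = e1 → MulAut.conj g e2 = e2 → MulAut.conj g e3 = e3 → g ∈ T := fun g h1 h2 h3 => by
    have : T ≤ centralizer {g} := hT.le.trans ((closure_le _).2 (by
      rintro _ (rfl | rfl | rfl)
      exacts [mem_centralizer_singleton_iff.2 (mul_inv_eq_iff_eq_mul.1 h1).symm,
        mem_centralizer_singleton_iff.2 (mul_inv_eq_iff_eq_mul.1 h2).symm,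
        mem_centralizer_singleton_iff.2 (mul_inv_eq_iff_eq_mul.1 h3).symm]))
    exact CT (mem_centralizer_iff.2 fun x hx => mem_centralizer_singleton_iff.1 (this hx))
  have A1 : MulAut.conj a e1 = e1 := a1
  have A2 : MulAut.conj a e2 = e2⁻¹ := a2
  have A3' : MulAut.conj a e3 = e3⁻¹ := a3
  have B1 : MulAut.conj b e1 = e1⁻¹ := b1
  have B2 : MulAut.conj b e2 = e2 := b2
  have B3 : MulAut.conj b e3 = e3⁻¹ := b3
  have R1 : MulAut.conj r e1 = e2 := r1
  have R2 : MulAut.conj r e2 = e3 := r2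
  have R3 : MulAut.conj r e3 = e1 := r3
  have i3 : ∀ g : X, g * g ∈ T → g * g * g * (g * g * g) = 1 := fun g hg => by
    rw [← x3 _ hg]; simp only [pow_succ, pow_zero, one_mul, mul_assoc]
  have aa : a * a ∈ T := by apply cen <;> simp only [map_mul, MulAut.mul_apply, map_inv, inv_inv, A1, A2, A3']
  have bb : b * b ∈ T := by apply cen <;> simp only [map_mul, MulAut.mul_apply, map_inv, inv_inv, B1, B2, B3]
  have cc : a * a * a * (b * b * b) * (a * a * a * (b * b * b)) ∈ T := by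
    apply cen <;> simp only [map_mul, MulAut.mul_apply, map_inv, inv_inv, A1, A2, A3', B1, B2, B3]
  have rr : r ^ 3 ∈ T := by
    rw [pow_three]; apply cen <;> simp only [map_mul, MulAut.mul_apply, R1, R2, R3]
  obtain ⟨κ, hi, hr, hc, hb, k1, k2, k3⟩ := a4_kappa cT hT m1 m2 m3 cm x3 (i3 _ cc) (i3 _ bb) (a4_dih (i3 _ aa) (i3 _ bb) (i3 _ cc))
    (show MulAut.conj _ e1 = _ by simp only [map_mul, MulAut.mul_apply, map_inv, inv_inv, A1, B1])
    (show MulAut.conj _ e2 = _ by simp only [map_mul, MulAut.mul_apply, map_inv, inv_inv, A2, B2])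
    (show MulAut.conj _ e3 = _ by simp only [map_mul, MulAut.mul_apply, map_inv, inv_inv, A3', B3])
    (show MulAut.conj _ e1 = _ by simp only [map_mul, MulAut.mul_apply, map_inv, inv_inv, B1])
    (show MulAut.conj _ e2 = _ by simp only [map_mul, MulAut.mul_apply, map_inv, inv_inv, B2])
    (show MulAut.conj _ e3 = _ by simp only [map_mul, MulAut.mul_apply, map_inv, inv_inv, B3])
  have TH : T ≤ κ.range := fun x hx => by obtain ⟨v, rfl⟩ := hr.ge hx; exact ⟨inl v, rfl⟩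
  have mT : ∀ v, κ (inl v) ∈ T := fun v => hr.le ⟨v, rfl⟩
  have bH : b ∈ κ.range := (mul_mem_cancel_left (TH bb)).1 hb
  have aH : a ∈ κ.range := (mul_mem_cancel_left (TH aa)).1 ((mul_mem_cancel_right hb).1 ((mul_mem_cancel_left (TH cc)).1 hc))
  have act : ∀ w v, κ w * κ (inl v) * (κ w)⁻¹ = κ (inl (φ3 w.right v)) := fun w v => by
    rw [← map_inv, ← map_mul, ← map_mul, (by decide +kernel : ∀ (w : W3) v, w * inl v * w⁻¹ = inl (φ3 w.right v))]
  have hσ : ∀ v, r * κ (inl v) * r⁻¹ = κ (inl (a4σ v)) := DFunLike.congr_fun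
    (a4_gen (f := (MulAut.conj r).toMonoidHom.comp (κ.comp inl)) (g := (κ.comp inl).comp a4σ)
      (by show r * κ _ * r⁻¹ = κ (inl (1, γ, 1)); rw [k1, k2, r1]) (by show r * κ _ * r⁻¹ = κ (inl (1, 1, γ)); rw [k2, k3, r2])
      (by show r * κ _ * r⁻¹ = κ (inl (γ, 1, 1)); rw [k3, k1, r3]))
  have HN : κ.range ≤ normalizer (T : Set X) := by
    rintro _ ⟨w, rfl⟩
    refine mem_normalizer_of_cj_le (cj_le_iff.2 fun x hx => ?_)
    obtain ⟨v, rfl⟩ := hr.ge hx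
    exact (act w v).symm ▸ mT _
  have rH : r ∈ normalizer (κ.range : Set X) := by
    refine mem_normalizer_of_cj_le (cj_le_iff.2 ?_)
    rintro _ ⟨w, rfl⟩
    obtain ⟨d, hd⟩ := (by decide +kernel : ∀ c : K4, ∃ d : K4, ∀ v, a4σ (φ3 c v) = φ3 d (a4σ v)) w.right
    refine (mul_mem_cancel_left (inv_mem (⟨inr d, rfl⟩ : κ (inr d) ∈ κ.range))).1 (TH (CT (mem_centralizer_iff.2 fun x hx => ?_)))
    obtain ⟨u, rfl⟩ := hr.ge hx
    obtain ⟨v, rfl⟩ : ∃ v, a4σ v = u := ⟨a4σ (a4σ u), rfl⟩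
    refine (mul_inv_eq_iff_eq_mul.1 ?_).symm
    calc _ = (κ (inr d))⁻¹ * (r * (κ w * (r⁻¹ * κ (inl (a4σ v)) * r) * (κ w)⁻¹) * r⁻¹) * κ (inr d) := by
          simp only [MonoidHom.comp_apply]; group
      _ = (κ (inr d))⁻¹ * (r * (κ w * κ (inl v) * (κ w)⁻¹) * r⁻¹) * κ (inr d) := by rw [← hσ v]; group
      _ = (κ (inr d))⁻¹ * (κ (inr d) * κ (inl (a4σ v)) * (κ (inr d))⁻¹) * κ (inr d) := by rw [act, hσ, hd, act]; rfl
      _ = _ := by simp only [MonoidHom.comp_apply]; group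
  have NM : normalizer (T : Set X) ≤ κ.range ⊔ zpowers r := hN.trans ((closure_le _).2 (by
    rintro _ (rfl | rfl | rfl | rfl | rfl | rfl)
    exacts [mem_sup_left (TH m1), mem_sup_left (TH m2), mem_sup_left (TH m3), mem_sup_left aH, mem_sup_left bH,
      mem_sup_right (mem_zpowers _)]))
  refine a4_core κ hi TH cT cm HN (fun g hg co => mem_of_pow_mem_of_coprime co ?_) (fun g hg => ?_) hC
  · obtain ⟨i, -, p⟩ := a4_dec rH (TH rr) g (NM hg)
    have q := conj_mem_of_mem_normalizer (pow_mem rH i) p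
    convert mul_mem (mul_mem (mul_mem p q) (conj_mem_of_mem_normalizer (pow_mem rH i) q)) (pow_mem (TH rr) i) using 1
    rw [pow_three]; group
  have c3 : ∀ y ∈ cj g T, y ^ 3 = 1 := by
    rintro _ ⟨y, hy, rfl⟩; rw [← map_pow, x3 y hy, map_one]
  have cc' : ∀ y ∈ cj g T, ∀ z ∈ cj g T, y * z = z * y := by
    rintro _ ⟨y, hy, rfl⟩ _ ⟨z, hz, rfl⟩; rw [← map_mul, cm y hy z hz, map_mul]
  have t3 : ∀ y ∈ cj g T, y ∈ κ.range → ∃ v, κ (inl v) = y := by
    rintro _ hy ⟨w, rfl⟩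
    exact ⟨w.left, congrArg κ ((by decide +kernel : ∀ w : W3, w ^ 3 = 1 → inl w.left = w) w
      (hi (by rw [map_pow, map_one, c3 _ hy])))⟩
  refine eq_of_le_of_card_ge (fun x hx => by_contra fun xT => ?_) (card_cj g T).ge
  obtain ⟨i, i3', w, hw⟩ := a4_dec rH (TH rr) x (NM (hg hx))
  have ex : x = κ w * r ^ i := by rw [hw]; group
  have i0 : i ≠ 0 := by
    rintro rfl
    obtain ⟨v, e⟩ := t3 x hx ⟨w, by rw [ex]; simp⟩
    exact xT (e ▸ mT v)
  have hσ' : ∀ j v, r ^ j * κ (inl v) * (r ^ j)⁻¹ = κ (inl (a4σ^[j] v)) := fun j => by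
    induction j with
    | zero => simp
    | succ j ih => intro v; rw [Function.iterate_succ_apply', ← hσ, ← ih]; group
  have xH : x ∈ normalizer (κ.range : Set X) := (sup_le le_normalizer (zpowers_le.2 rH)) (NM (hg hx))
  have ri : r ^ i ∈ κ.range ⊔ zpowers x :=
    (mul_mem_cancel_left (mem_sup_left (⟨w, rfl⟩ : κ w ∈ κ.range))).1 (ex ▸ mem_sup_right (mem_zpowers x))
  have rx : r ∈ κ.range ⊔ zpowers x := by
    obtain rfl | rfl : i = 1 ∨ i = 2 := by omega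
    · rwa [pow_one] at ri
    · exact (mul_mem_cancel_left ri).1 (pow_succ r 2 ▸ mem_sup_left (TH rr))
  let F := Finset.univ.filter fun v : A3 => φ3 w.right (a4σ^[i] v) = v
  have cF : F.card ≤ 3 := (by decide +kernel : ∀ (d : K4) (i : Fin 3), i.1 ≠ 0 →
    (Finset.univ.filter fun v : A3 => φ3 d (a4σ^[i.1] v) = v).card ≤ 3) w.right ⟨i, i3'⟩ i0
  have sub : (cj g T : Set X) ⊆ (fun p : A3 × ℕ => κ (inl p.1) * x ^ p.2) '' ↑(F ×ˢ Finset.range 3) := fun y hy => by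
    obtain ⟨j, j3, p⟩ := a4_dec xH (c3 x hx ▸ one_mem _) y (sup_le le_sup_left (zpowers_le.2 rx) (NM (hg hy)))
    have m := mul_mem hy (inv_mem (pow_mem hx j))
    obtain ⟨v, e⟩ := t3 _ m p
    refine ⟨(v, j), Finset.mem_coe.2 (Finset.mem_product.2 ⟨Finset.mem_filter.2 ⟨Finset.mem_univ _, ?_⟩, Finset.mem_range.2 j3⟩),
      by simp [e]⟩
    refine inl_injective (hi ?_)
    rw [← act, ← hσ']
    calc _ = x * κ (inl v) * x⁻¹ := by rw [ex]; group
      _ = _ := by rw [cc' x hx _ (e ▸ m), mul_inv_cancel_right]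
  have le := (Set.ncard_le_ncard sub).trans (Set.ncard_image_le (Finset.finite_toSet _))
  rw [Set.ncard_coe_finset, Finset.card_product, Finset.card_range, ← Nat.card_coe_set_eq] at le
  have := (card_cj g T).trans cT
  change Nat.card (cj g T) ≤ _ at le
  omega

end Cfsg.Lib.Mc3
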