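import Mathlib

/-! Passing from `C(y)` to `C(y)/<y>` for a monomial `3^4`. -/

set_option autoImplicit false

namespace Cfsg.Lib.Mc3
open Subgroup

universe u

/-- the abstract statement for `3^3:S4` -/
def S4C : Prop := ∀ {X : Type u} [Group X] [Finite X] {T : Subgroup X} {e1 e2 e3 a b r c : X},
  T = closure {e1, e2, e3} → Nat.card T = 27 → (∀ x ∈ T, ∀ y ∈ T, x * y = y * x) → (∀ x ∈ T, x ^ 3 = 1) →
  centralizer (T : Set X) ≤ T → (a * e1 * a⁻¹ = e1 ∧ a * e2 * a⁻¹ = e2⁻¹ ∧ a * e3 * a⁻¹ = e3⁻¹) →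
  (b * e1 * b⁻¹ = e1⁻¹ ∧ b * e2 * b⁻¹ = e2 ∧ b * e3 * b⁻¹ = e3⁻¹) →
  (r * e1 * r⁻¹ = e2 ∧ r * e2 * r⁻¹ = e3 ∧ r * e3 * r⁻¹ = e1) →
  (c * e1 * c⁻¹ = e1 ∧ c * e2 * c⁻¹ = e3 ∧ c * e3 * c⁻¹ = e2⁻¹) →
  normalizer (T : Set X) ≤ closure {e1, e2, e3, a, b, r, c} →
  (∀ x ∈ T, x ≠ 1 → centralizer {x} ≤ normalizer (T : Set X)) → normalizer (T : Set X) = ⊤

/-- the abstract statement for `3^3:A4` -/
def A4C : Prop := ∀ {X : Type u} [Group X] [Finite X] {T : Subgroup X} {e1 e2 e3 a b r : X},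
  T = closure {e1, e2, e3} → Nat.card T = 27 → (∀ x ∈ T, ∀ y ∈ T, x * y = y * x) → (∀ x ∈ T, x ^ 3 = 1) →
  centralizer (T : Set X) ≤ T → (a * e1 * a⁻¹ = e1 ∧ a * e2 * a⁻¹ = e2⁻¹ ∧ a * e3 * a⁻¹ = e3⁻¹) →
  (b * e1 * b⁻¹ = e1⁻¹ ∧ b * e2 * b⁻¹ = e2 ∧ b * e3 * b⁻¹ = e3⁻¹) →
  (r * e1 * r⁻¹ = e2 ∧ r * e2 * r⁻¹ = e3 ∧ r * e3 * r⁻¹ = e1) →
  normalizer (T : Set X) ≤ closure {e1, e2, e3, a, b, r} →
  (∀ x ∈ T, x ≠ 1 → centralizer {x} ≤ normalizer (T : Set X)) → normalizer (T : Set X) = ⊤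

variable {G : Type u} [Group G] [Finite G]

theorem qc_nor {e1 e2 e3 s : G} (h1 : s * e1 * s⁻¹ ∈ closure ({e1, e2, e3} : Set G))
    (h2 : s * e2 * s⁻¹ ∈ closure ({e1, e2, e3} : Set G)) (h3 : s * e3 * s⁻¹ ∈ closure ({e1, e2, e3} : Set G)) :
    s ∈ normalizer ((closure {e1, e2, e3} : Subgroup G) : Set G) := by
  refine mem_normalizer_fintype fun x hx => ?_
  have : closure ({e1, e2, e3} : Set G) ≤ (closure ({e1, e2, e3} : Set G)).comap (MulAut.conj s).toMonoidHom := by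
    rw [closure_le]
    rintro _ (rfl | rfl | rfl) <;> assumption
  exact this hx

theorem qc_core {J : Subgroup G} {y e1 e2 e3 a b : G} {S : Set G} (hJ : J = closure {y, e1, e2, e3})
    (cJ : Nat.card J = 81) (cm : ∀ x ∈ J, ∀ y ∈ J, x * y = y * x) (x3 : ∀ x ∈ J, x ^ 3 = 1) (y1 : y ≠ 1)
    (CJ : centralizer (J : Set G) ≤ J) (ha : a * e1 * a⁻¹ = e1 ∧ a * e2 * a⁻¹ = e2⁻¹ ∧ a * e3 * a⁻¹ = e3⁻¹)
    (hb : b * e1 * b⁻¹ = e1⁻¹ ∧ b * e2 * b⁻¹ = e2 ∧ b * e3 * b⁻¹ = e3⁻¹) (ay : a * y = y * a) (bY : b * y = y * b)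
    (hS : ∀ s ∈ S, s ∈ normalizer ((closure {e1, e2, e3} : Subgroup G) : Set G)) (Sy : ∀ s ∈ S, s * y = y * s)
    (hN : normalizer (J : Set G) ⊓ centralizer {y} ≤ closure (insert y S))
    (hC : ∀ x ∈ J, x ∉ zpowers y → ∀ g, g * y = y * g → g * x * g⁻¹ * x⁻¹ ∈ zpowers y → g ∈ normalizer (J : Set G))
    (H : ∀ {X : Type u} [Group X] [Finite X] (π : centralizer ({y} : Set G) →* X) (T : Subgroup X)
      (f1 f2 f3 : centralizer ({y} : Set G)), f1.1 = e1 → f2.1 = e2 → f3.1 = e3 → T = closure {π f1, π f2, π f3} →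
      Nat.card T = 27 → (∀ x ∈ T, ∀ y ∈ T, x * y = y * x) → (∀ x ∈ T, x ^ 3 = 1) → centralizer (T : Set X) ≤ T →
      (∀ K : Subgroup X, (∀ s : centralizer ({y} : Set G), s.1 ∈ S → π s ∈ K) → normalizer (T : Set X) ≤ K) →
      (∀ x ∈ T, x ≠ 1 → centralizer {x} ≤ normalizer (T : Set X)) → normalizer (T : Set X) = ⊤) :
    centralizer {y} ≤ normalizer (J : Set G) := by
  have yJ : y ∈ J := hJ ▸ subset_closure (by simp)
  have m1 : e1 ∈ J := hJ ▸ subset_closure (by simp)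
  have m2 : e2 ∈ J := hJ ▸ subset_closure (by simp)
  have m3 : e3 ∈ J := hJ ▸ subset_closure (by simp)
  have WJ : closure ({e1, e2, e3} : Set G) ≤ J := by
    rw [closure_le]; rintro _ (rfl | rfl | rfl) <;> assumption
  have JC : J ≤ centralizer {y} := fun x hx => mem_centralizer_singleton_iff.2 (cm x hx y yJ)
  have w1 : e1 ∈ closure ({e1, e2, e3} : Set G) := subset_closure (by simp)
  have w2 : e2 ∈ closure ({e1, e2, e3} : Set G) := subset_closure (by simp)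
  have w3 : e3 ∈ closure ({e1, e2, e3} : Set G) := subset_closure (by simp)
  have na : a ∈ normalizer ((closure {e1, e2, e3} : Subgroup G) : Set G) :=
    qc_nor (by rw [ha.1]; exact w1) (by rw [ha.2.1]; exact inv_mem w2) (by rw [ha.2.2]; exact inv_mem w3)
  have nb : b ∈ normalizer ((closure {e1, e2, e3} : Subgroup G) : Set G) :=
    qc_nor (by rw [hb.1]; exact inv_mem w1) (by rw [hb.2.1]; exact w2) (by rw [hb.2.2]; exact inv_mem w3)
  have nrm : ∀ w ∈ closure ({e1, e2, e3} : Set G), w * (a * w * a⁻¹) * (b * w * b⁻¹) * (a * (b * w * b⁻¹) * a⁻¹) = 1 := by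
    intro w hw
    induction hw using closure_induction'' with
    | one => simp
    | mem x hx => rcases hx with rfl | rfl | rfl <;> simp [ha.1, ha.2.1, ha.2.2, hb.1, hb.2.1, hb.2.2, ← conj_inv]
    | inv_mem x hx => rcases hx with rfl | rfl | rfl <;> simp [ha.1, ha.2.1, ha.2.2, hb.1, hb.2.1, hb.2.2, ← conj_inv]
    | mul x z hx hz ix iz =>
      have a1 := fun {w} (h : w ∈ closure ({e1, e2, e3} : Set G)) => (mem_normalizer_iff.1 na w).1 h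
      have b1 := fun {w} (h : w ∈ closure ({e1, e2, e3} : Set G)) => (mem_normalizer_iff.1 nb w).1 h
      have c : ∀ {p q}, p ∈ closure ({e1, e2, e3} : Set G) → q ∈ closure ({e1, e2, e3} : Set G) → Commute p q :=
        fun hp hq => cm _ (WJ hp) _ (WJ hq)
      rw [← conj_mul (a := x), ← conj_mul (a := x), ← conj_mul (a := b * x * b⁻¹), (c hz (a1 hx)).mul_mul_mul_comm,
        (c (mul_mem hz (a1 hz)) (b1 hx)).mul_mul_mul_comm,
        (c (mul_mem (mul_mem hz (a1 hz)) (b1 hz)) (a1 (b1 hx))).mul_mul_mul_comm, ix, iz, mul_one]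
  have inf : ∀ w ∈ closure ({e1, e2, e3} : Set G), w ∈ zpowers y → w = 1 := by
    rintro _ hw ⟨k, rfl⟩
    have e := nrm _ hw
    have ca : a * y ^ k * a⁻¹ = y ^ k := by rw [((show Commute a y from ay).zpow_right k).eq, mul_inv_cancel_right]
    have cb : b * y ^ k * b⁻¹ = y ^ k := by rw [((show Commute b y from bY).zpow_right k).eq, mul_inv_cancel_right]
    have e3 := x3 _ (WJ hw)
    simp only [cb, ca] at e
    simp only [pow_succ, pow_zero, one_mul] at e3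
    rwa [e3, one_mul] at e
  let y' : centralizer ({y} : Set G) := ⟨y, JC yJ⟩
  have : (zpowers y').Normal := ⟨by
    rintro _ ⟨k, rfl⟩ g
    have : Commute g y' := Subtype.ext (mem_centralizer_singleton_iff.1 g.2)
    rw [(this.zpow_right k).eq, mul_inv_cancel_right]
    exact ⟨k, rfl⟩⟩
  let π := QuotientGroup.mk' (zpowers y')
  have hπ : Function.Surjective π := QuotientGroup.mk'_surjective _
  have k1 : ∀ g, π g = 1 ↔ g.1 ∈ zpowers y := fun g => by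
    rw [QuotientGroup.mk'_apply, QuotientGroup.eq_one_iff]
    exact ⟨fun ⟨k, e⟩ => ⟨k, by rw [← e]; simp [y']⟩, fun ⟨k, e⟩ => ⟨k, Subtype.ext (by simpa [y'] using e)⟩⟩
  have kJ : π.ker ≤ J.subgroupOf (centralizer {y}) := fun g hg => (zpowers_le.2 yJ) ((k1 g).1 hg)
  let T := (J.subgroupOf (centralizer {y})).map π
  have mT : ∀ g, π g ∈ T ↔ g.1 ∈ J := fun g => by
    rw [← mem_comap, comap_map_eq_self kJ, mem_subgroupOf]
  have nT : ∀ g, π g ∈ normalizer (T : Set _) ↔ g.1 ∈ normalizer (J : Set G) := fun g => by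
    refine ⟨fun h => mem_normalizer_fintype fun x hx => ?_, fun h => mem_normalizer_fintype ?_⟩
    · have := (mem_normalizer_iff.1 h (π ⟨x, JC hx⟩)).1 ((mT _).2 hx)
      rw [← map_mul, ← map_inv, ← map_mul] at this
      exact (mT _).1 this
    · rintro _ ⟨x, hx, rfl⟩
      rw [← map_mul, ← map_inv, ← map_mul]
      exact (mT _).2 ((mem_normalizer_iff.1 h x.1).1 hx)
  have key := H π T ⟨e1, JC m1⟩ ⟨e2, JC m2⟩ ⟨e3, JC m3⟩ rfl rfl rfl ?_ ?_ ?_ ?_ ?_ ?_ ?_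
  · intro g hg
    exact (nT ⟨g, hg⟩).1 (key ▸ mem_top _)
  · refine le_antisymm ?_ ((closure_le _).2 (by rintro _ (rfl | rfl | rfl) <;> exact (mT _).2 (by assumption)))
    rintro _ ⟨⟨x, hx'⟩, hx0, rfl⟩
    have hx : x ∈ closure ({y, e1, e2, e3} : Set G) := hJ ▸ hx0
    clear hx0
    induction hx using closure_induction with
    | one => exact (map_one π) ▸ one_mem _
    | mem x hx =>
      rcases hx with rfl | rfl | rfl | rfl
      · exact ((k1 ⟨_, hx'⟩).2 (mem_zpowers _)).symm ▸ one_mem _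
      all_goals exact subset_closure (by simp)
    | mul x z hx hz ix iz =>
      exact (map_mul π ⟨x, JC (hJ ▸ hx)⟩ ⟨z, JC (hJ ▸ hz)⟩) ▸ mul_mem (ix _) (iz _)
    | inv x hx ix => exact (map_inv π ⟨x, JC (hJ ▸ hx)⟩) ▸ inv_mem (ix _)
  · have := Fact.mk Nat.prime_three
    have c1 : Nat.card π.ker = 3 := by
      rw [QuotientGroup.ker_mk', Nat.card_zpowers]
      exact orderOf_eq_prime (Subtype.ext (x3 y yJ)) fun e => y1 (congrArg Subtype.val e)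
    have c2 : Nat.card (J.subgroupOf (centralizer {y})) = 81 := by
      rw [Nat.card_congr (subgroupOfEquivOfLe JC).toEquiv, cJ]
    have c3 := card_mul_index ((π.ker).subgroupOf (J.subgroupOf (centralizer {y})))
    rw [Nat.card_congr (subgroupOfEquivOfLe kJ).toEquiv, c1, c2, ← relIndex, relIndex_ker] at c3
    change 3 * Nat.card T = 81 at c3
    omega
  · rintro _ ⟨p, hp, rfl⟩ _ ⟨q, hq, rfl⟩
    rw [← map_mul, ← map_mul]
    exact congrArg π (Subtype.ext (cm _ hp _ hq))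
  · rintro _ ⟨p, hp, rfl⟩
    rw [← map_pow, show p ^ 3 = 1 from Subtype.ext (x3 _ hp), map_one]
  · intro g hg
    obtain ⟨g, rfl⟩ := hπ g
    have h1 : g.1 ∈ normalizer ((closure {e1, e2, e3} : Subgroup G) : Set G) := by
      refine ((closure_le _).2 ?_ : closure (insert y S) ≤ _)
        (hN ⟨(nT g).1 (centralizer_le_normalizer _ hg), g.2⟩)
      rintro s (rfl | hs)
      · exact mem_normalizer_fintype fun x hx => by rwa [cm _ yJ _ (WJ hx), mul_inv_cancel_right]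
      · exact hS s hs
    have h2 : ∀ w ∈ closure ({e1, e2, e3} : Set G), w * g.1 = g.1 * w := fun w hw => by
      have e := inf (g.1 * w * g.1⁻¹ * w⁻¹) (mul_mem ((mem_normalizer_iff.1 h1 w).1 hw) (inv_mem hw))
        ((k1 (g * ⟨w, JC (WJ hw)⟩ * g⁻¹ * ⟨w, JC (WJ hw)⟩⁻¹)).1 (by
          rw [map_mul, map_mul, map_mul, ← hg _ ((mT ⟨w, JC (WJ hw)⟩).2 (WJ hw))]; simp))
      rw [mul_inv_eq_one, mul_inv_eq_iff_eq_mul] at e
      exact e.symm
    refine (mT g).2 (CJ ?_)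
    have h3 : J ≤ centralizer {g.1} := by
      rw [hJ, closure_le]
      rintro x (rfl | rfl | rfl | rfl)
      exacts [mem_centralizer_singleton_iff.2 (mem_centralizer_singleton_iff.1 g.2).symm,
        mem_centralizer_singleton_iff.2 (h2 _ w1), mem_centralizer_singleton_iff.2 (h2 _ w2),
        mem_centralizer_singleton_iff.2 (h2 _ w3)]
    exact fun x hx => mem_centralizer_singleton_iff.1 (h3 hx)
  · intro K hK g hg
    obtain ⟨⟨g, hg'⟩, rfl⟩ := hπ g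
    have h1 := hN ⟨(nT _).1 hg, hg'⟩
    have h2 : closure (insert y S) ≤ (K.comap π).map (centralizer ({y} : Set G)).subtype := by
      rw [closure_le]
      rintro s (rfl | hs)
      · exact ⟨y', by rw [SetLike.mem_coe, mem_comap, (k1 _).2 (mem_zpowers _)]; exact one_mem _, rfl⟩
      · exact ⟨⟨s, mem_centralizer_singleton_iff.2 (Sy s hs)⟩, hK _ hs, rfl⟩
    obtain ⟨g2, h3, rfl⟩ := h2 h1
    exact h3
  · rintro _ ⟨x, hx, rfl⟩ x1 g hg
    obtain ⟨g, rfl⟩ := hπ g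
    refine (nT g).2 (hC x.1 hx (fun e => x1 ((k1 x).2 e)) g.1 (mem_centralizer_singleton_iff.1 g.2)
      ((k1 (g * x * g⁻¹ * x⁻¹)).1 ?_))
    rw [map_mul, map_mul, map_mul, mem_centralizer_singleton_iff.1 hg]; simp

theorem qc4 (h : S4C.{u}) {J : Subgroup G} {y e1 e2 e3 a b r c : G} (hJ : J = closure {y, e1, e2, e3})
    (cJ : Nat.card J = 81) (cm : ∀ x ∈ J, ∀ y ∈ J, x * y = y * x) (x3 : ∀ x ∈ J, x ^ 3 = 1) (y1 : y ≠ 1)
    (CJ : centralizer (J : Set G) ≤ J) (ha : a * e1 * a⁻¹ = e1 ∧ a * e2 * a⁻¹ = e2⁻¹ ∧ a * e3 * a⁻¹ = e3⁻¹)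
    (hb : b * e1 * b⁻¹ = e1⁻¹ ∧ b * e2 * b⁻¹ = e2 ∧ b * e3 * b⁻¹ = e3⁻¹)
    (hr : r * e1 * r⁻¹ = e2 ∧ r * e2 * r⁻¹ = e3 ∧ r * e3 * r⁻¹ = e1)
    (hc : c * e1 * c⁻¹ = e1 ∧ c * e2 * c⁻¹ = e3 ∧ c * e3 * c⁻¹ = e2⁻¹)
    (ay : a * y = y * a) (bY : b * y = y * b) (ry : r * y = y * r) (cy : c * y = y * c)
    (hN : normalizer (J : Set G) ⊓ centralizer {y} ≤ closure {y, e1, e2, e3, a, b, r, c})
    (hC : ∀ x ∈ J, x ∉ zpowers y → ∀ g, g * y = y * g → g * x * g⁻¹ * x⁻¹ ∈ zpowers y → g ∈ normalizer (J : Set G)) :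
    centralizer {y} ≤ normalizer (J : Set G) := by
  have w1 : e1 ∈ closure ({e1, e2, e3} : Set G) := subset_closure (by simp)
  have w2 : e2 ∈ closure ({e1, e2, e3} : Set G) := subset_closure (by simp)
  have w3 : e3 ∈ closure ({e1, e2, e3} : Set G) := subset_closure (by simp)
  have cy' : ∀ x ∈ ({y, e1, e2, e3} : Set G), x * y = y * x := fun x hx =>
    cm _ (hJ ▸ subset_closure hx) _ (hJ ▸ subset_closure (by simp))
  refine qc_core (S := {e1, e2, e3, a, b, r, c}) hJ cJ cm x3 y1 CJ ha hb ay bY ?_ ?_ hN hC ?_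
  · rintro _ (rfl | rfl | rfl | rfl | rfl | rfl | rfl)
    exacts [le_normalizer w1, le_normalizer w2, le_normalizer w3,
      qc_nor (ha.1.symm ▸ w1) (ha.2.1 ▸ inv_mem w2) (ha.2.2 ▸ inv_mem w3),
      qc_nor (hb.1 ▸ inv_mem w1) (hb.2.1.symm ▸ w2) (hb.2.2 ▸ inv_mem w3),
      qc_nor (hr.1 ▸ w2) (hr.2.1 ▸ w3) (hr.2.2 ▸ w1), qc_nor (hc.1.symm ▸ w1) (hc.2.1 ▸ w3) (hc.2.2 ▸ inv_mem w2)]
  · rintro _ (rfl | rfl | rfl | rfl | rfl | rfl | rfl)
    exacts [cy' _ (by simp), cy' _ (by simp), cy' _ (by simp), ay, bY, ry, cy]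
  · rintro X _ _ π T f1 f2 f3 rfl rfl rfl hT cT tm t3 tC tN tx
    have tr : ∀ s p q : centralizer ({y} : Set G), s.1 * p.1 * s.1⁻¹ = q.1 → π s * π p * (π s)⁻¹ = π q :=
      fun s p q e => by rw [← map_mul, ← map_inv, ← map_mul]; exact congrArg π (Subtype.ext e)
    let a' : centralizer ({y} : Set G) := ⟨a, mem_centralizer_singleton_iff.2 ay⟩
    let b' : centralizer ({y} : Set G) := ⟨b, mem_centralizer_singleton_iff.2 bY⟩
    let r' : centralizer ({y} : Set G) := ⟨r, mem_centralizer_singleton_iff.2 ry⟩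
    let c' : centralizer ({y} : Set G) := ⟨c, mem_centralizer_singleton_iff.2 cy⟩
    refine h (a := π a') (b := π b') (r := π r') (c := π c') hT cT tm t3 tC
      ⟨tr _ _ _ ha.1, map_inv π f2 ▸ tr _ _ _ ha.2.1, map_inv π f3 ▸ tr _ _ _ ha.2.2⟩
      ⟨map_inv π f1 ▸ tr _ _ _ hb.1, tr _ _ _ hb.2.1, map_inv π f3 ▸ tr _ _ _ hb.2.2⟩
      ⟨tr _ _ _ hr.1, tr _ _ _ hr.2.1, tr _ _ _ hr.2.2⟩
      ⟨tr _ _ _ hc.1, tr _ _ _ hc.2.1, map_inv π f2 ▸ tr _ _ _ hc.2.2⟩ (tN _ ?_) tx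
    rintro ⟨s, hs⟩ (rfl | rfl | rfl | rfl | rfl | rfl | rfl) <;> exact subset_closure (by simp [a', b', r', c'])

theorem qc3 (h : A4C.{u}) {J : Subgroup G} {y e1 e2 e3 a b r : G} (hJ : J = closure {y, e1, e2, e3})
    (cJ : Nat.card J = 81) (cm : ∀ x ∈ J, ∀ y ∈ J, x * y = y * x) (x3 : ∀ x ∈ J, x ^ 3 = 1) (y1 : y ≠ 1)
    (CJ : centralizer (J : Set G) ≤ J) (ha : a * e1 * a⁻¹ = e1 ∧ a * e2 * a⁻¹ = e2⁻¹ ∧ a * e3 * a⁻¹ = e3⁻¹)
    (hb : b * e1 * b⁻¹ = e1⁻¹ ∧ b * e2 * b⁻¹ = e2 ∧ b * e3 * b⁻¹ = e3⁻¹)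
    (hr : r * e1 * r⁻¹ = e2 ∧ r * e2 * r⁻¹ = e3 ∧ r * e3 * r⁻¹ = e1)
    (ay : a * y = y * a) (bY : b * y = y * b) (ry : r * y = y * r)
    (hN : normalizer (J : Set G) ⊓ centralizer {y} ≤ closure {y, e1, e2, e3, a, b, r})
    (hC : ∀ x ∈ J, x ∉ zpowers y → ∀ g, g * y = y * g → g * x * g⁻¹ * x⁻¹ ∈ zpowers y → g ∈ normalizer (J : Set G)) :
    centralizer {y} ≤ normalizer (J : Set G) := by
  have w1 : e1 ∈ closure ({e1, e2, e3} : Set G) := subset_closure (by simp)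
  have w2 : e2 ∈ closure ({e1, e2, e3} : Set G) := subset_closure (by simp)
  have w3 : e3 ∈ closure ({e1, e2, e3} : Set G) := subset_closure (by simp)
  have cy' : ∀ x ∈ ({y, e1, e2, e3} : Set G), x * y = y * x := fun x hx =>
    cm _ (hJ ▸ subset_closure hx) _ (hJ ▸ subset_closure (by simp))
  refine qc_core (S := {e1, e2, e3, a, b, r}) hJ cJ cm x3 y1 CJ ha hb ay bY ?_ ?_ hN hC ?_
  · rintro _ (rfl | rfl | rfl | rfl | rfl | rfl)
    exacts [le_normalizer w1, le_normalizer w2, le_normalizer w3,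
      qc_nor (ha.1.symm ▸ w1) (ha.2.1 ▸ inv_mem w2) (ha.2.2 ▸ inv_mem w3),
      qc_nor (hb.1 ▸ inv_mem w1) (hb.2.1.symm ▸ w2) (hb.2.2 ▸ inv_mem w3),
      qc_nor (hr.1 ▸ w2) (hr.2.1 ▸ w3) (hr.2.2 ▸ w1)]
  · rintro _ (rfl | rfl | rfl | rfl | rfl | rfl)
    exacts [cy' _ (by simp), cy' _ (by simp), cy' _ (by simp), ay, bY, ry]
  · rintro X _ _ π T f1 f2 f3 rfl rfl rfl hT cT tm t3 tC tN tx
    have tr : ∀ s p q : centralizer ({y} : Set G), s.1 * p.1 * s.1⁻¹ = q.1 → π s * π p * (π s)⁻¹ = π q :=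
      fun s p q e => by rw [← map_mul, ← map_inv, ← map_mul]; exact congrArg π (Subtype.ext e)
    let a' : centralizer ({y} : Set G) := ⟨a, mem_centralizer_singleton_iff.2 ay⟩
    let b' : centralizer ({y} : Set G) := ⟨b, mem_centralizer_singleton_iff.2 bY⟩
    let r' : centralizer ({y} : Set G) := ⟨r, mem_centralizer_singleton_iff.2 ry⟩
    refine h (a := π a') (b := π b') (r := π r') hT cT tm t3 tC
      ⟨tr _ _ _ ha.1, map_inv π f2 ▸ tr _ _ _ ha.2.1, map_inv π f3 ▸ tr _ _ _ ha.2.2⟩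
      ⟨map_inv π f1 ▸ tr _ _ _ hb.1, tr _ _ _ hb.2.1, map_inv π f3 ▸ tr _ _ _ hb.2.2⟩
      ⟨tr _ _ _ hr.1, tr _ _ _ hr.2.1, tr _ _ _ hr.2.2⟩ (tN _ ?_) tx
    rintro ⟨s, hs⟩ (rfl | rfl | rfl | rfl | rfl | rfl) <;> exact subset_closure (by simp [a', b', r'])

end Cfsg.Lib.Mc3
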