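import Mathlib
import Cfsg.Agent.Lib.Block.Nin4

/-! A group with a self-centralising `3³` whose automiser is the monomial `S₄`. -/

set_option autoImplicit false
set_option synthInstance.maxSize 100000
set_option maxRecDepth 100000

namespace Cfsg.Lib.Block.Nin

open Subgroup

variable {X : Type*} [Group X]

theorem s4_dig : (∀ x y : T27, (x * y).1 % 3 = (x.1 % 3 + y.1 % 3) % 3 ∧ (x * y).1 / 3 % 3 = (x.1 / 3 % 3 + y.1 / 3 % 3) % 3 ∧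
    (x * y).1 / 9 % 3 = (x.1 / 9 % 3 + y.1 / 9 % 3) % 3) ∧
    ∀ x : T27, ∃ i < 3, ∃ j < 3, ∃ k < 3, x = T27.el 1 ^ i * T27.el 3 ^ j * T27.el 9 ^ k := by decide +kernel

theorem s4_eps {e1 e2 e3 : X} (h1 : e1 ^ 3 = 1) (h2 : e2 ^ 3 = 1) (h3 : e3 ^ 3 = 1) (c1 : Commute e1 e2) (c2 : Commute e1 e3)
    (c3 : Commute e2 e3) : ∃ ε : T27 →* X, ε (T27.el 1) = e1 ∧ ε (T27.el 3) = e2 ∧ ε (T27.el 9) = e3 := by
  have m : ∀ {e : X}, e ^ 3 = 1 → ∀ n, e ^ (n % 3) = e ^ n := fun h n => (pow_eq_pow_mod n h).symm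
  refine ⟨MonoidHom.mk' (fun x => e1 ^ (x.1 % 3) * e2 ^ (x.1 / 3 % 3) * e3 ^ (x.1 / 9 % 3)) fun x y => ?_, ?_, ?_, ?_⟩
  · obtain ⟨a, b, c⟩ := s4_dig.1 x y
    simp only [a, b, c]
    rw [m h1, m h2, m h3, pow_add, pow_add, pow_add, ((c1.pow_pow _ _).mul_mul_mul_comm _ _),
      (((c2.pow_pow _ _).mul_left (c3.pow_pow _ _)).mul_mul_mul_comm _ _)]
  · show e1 ^ 1 * e2 ^ 0 * e3 ^ 0 = e1
    simp
  · show e1 ^ 0 * e2 ^ 1 * e3 ^ 0 = e2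
    simp
  · show e1 ^ 0 * e2 ^ 0 * e3 ^ 1 = e3
    simp

/-- `g` acts on the image of `ε` as `d`. -/
def SA (ε : T27 →* X) (g : X) (d : T24) : Prop := ∀ x, g * ε x * g⁻¹ = ε (φ d x)

theorem SA.mul {ε : T27 →* X} {g g' : X} {d d' : T24} (h : SA ε g d) (k : SA ε g' d') : SA ε (g * g') (d * d') := fun x => by
  rw [map_mul, MulAut.mul_apply, ← h, ← k]; group
theorem SA.inv {ε : T27 →* X} {g : X} {d : T24} (h : SA ε g d) : SA ε g⁻¹ d⁻¹ := fun x => by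
  have := h (φ d⁻¹ x)
  rw [← MulAut.mul_apply, ← map_mul, mul_inv_cancel, map_one, MulAut.one_apply] at this
  rw [← this]; group
theorem SA.one {ε : T27 →* X} : SA ε 1 1 := fun x => by simp
theorem SA.pow {ε : T27 →* X} {g : X} {d : T24} (h : SA ε g d) (n : ℕ) : SA ε (g ^ n) (d ^ n) := by
  induction n with
  | zero => simpa using SA.one
  | succ n ih => rw [pow_succ, pow_succ]; exact ih.mul h
theorem SA.of {ε : T27 →* X} {g : X} {d : T24} (h1 : g * ε (T27.el 1) * g⁻¹ = ε (φ d (T27.el 1)))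
    (h2 : g * ε (T27.el 3) * g⁻¹ = ε (φ d (T27.el 3))) (h3 : g * ε (T27.el 9) * g⁻¹ = ε (φ d (T27.el 9))) : SA ε g d := fun x => by
  obtain ⟨i, -, j, -, k, -, rfl⟩ := s4_dig.2 x
  simp only [map_mul, map_pow]
  rw [← h1, ← h2, ← h3, conj_pow, conj_pow, conj_pow, conj_mul, conj_mul]

theorem s4_fin : (∀ d : T24, ∃ i < 2, ∃ j < 2, ∃ k < 3, ∃ l < 2, d = T24.el 1 ^ i * T24.el 2 ^ j * T24.el 4 ^ k * T24.el 16 ^ l) ∧
    (∀ d : T24, (∀ x, act d x = x) → d = 1) ∧ (∀ x, act (T24.el 1) x = x → act (T24.el 2) x = x → x = 1) ∧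
    (∀ d : T24, ∀ v ∈ [T24.el 1, T24.el 2], d * v * d⁻¹ = T24.el 1 ∨ d * v * d⁻¹ = T24.el 2 ∨ d * v * d⁻¹ = T24.el 1 * T24.el 2) ∧
    T24.el 1 * T24.el 1 = 1 ∧ T24.el 2 * T24.el 2 = 1 ∧ T24.el 2 * T24.el 1 * (T24.el 2)⁻¹ = T24.el 1 ∧
    T24.el 1 ^ 3 = T24.el 1 ∧ T24.el 2 ^ 3 = T24.el 2 := by decide +kernel

theorem s4_act : (φ (T24.el 1) (T27.el 1) = T27.el 1 ∧ φ (T24.el 1) (T27.el 3) = (T27.el 3)⁻¹ ∧ φ (T24.el 1) (T27.el 9) = (T27.el 9)⁻¹) ∧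
    (φ (T24.el 2) (T27.el 1) = (T27.el 1)⁻¹ ∧ φ (T24.el 2) (T27.el 3) = T27.el 3 ∧ φ (T24.el 2) (T27.el 9) = (T27.el 9)⁻¹) ∧
    (φ (T24.el 4) (T27.el 1) = T27.el 3 ∧ φ (T24.el 4) (T27.el 3) = T27.el 9 ∧ φ (T24.el 4) (T27.el 9) = T27.el 1) ∧
    (φ (T24.el 16) (T27.el 1) = T27.el 1 ∧ φ (T24.el 16) (T27.el 3) = T27.el 9 ∧ φ (T24.el 16) (T27.el 9) = (T27.el 3)⁻¹) := by
  have e : ∀ d x, φ d x = act d x := fun _ _ => rfl
  simp only [e]; decide +kernel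

theorem s4_cj {a τ : X} (h1 : a * a = 1) (h2 : a * τ * (a * τ) = 1) (h3 : τ ^ 3 = 1) : τ * a * τ⁻¹ = a * τ := by
  have b : τ * a = a * τ⁻¹ := eq_mul_inv_of_mul_eq (mul_left_cancel (a := a) (by rw [h1, ← h2]; group))
  rw [b, mul_assoc, ← mul_inv_rev, inv_eq_of_mul_eq_one_right (by rw [← h3]; simp [pow_succ] : τ * τ * τ = 1)]

theorem s4_pair {T : Subgroup X} (x3 : ∀ x ∈ T, x ^ 3 = 1) {a b a' b' : X} (aa : a * a = 1) (bb : b * b = 1) (ab : Commute a b)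
    (aa' : a' * a' = 1) (bb' : b' * b' = 1) (ab' : Commute a' b') (h1 : a⁻¹ * a' ∈ T) (h2 : b⁻¹ * b' ∈ T)
    (nb : ∀ x ∈ T, b⁻¹ * x * b ∈ T) : ∃ τ ∈ T, τ * a * τ⁻¹ = a' ∧ τ * b * τ⁻¹ = b' := by
  have e1 := s4_cj (τ := a⁻¹ * a') aa (by rw [mul_inv_cancel_left, aa']) (x3 _ h1)
  rw [mul_inv_cancel_left] at e1
  generalize a⁻¹ * a' = τ at h1 e1
  have c1 : Commute a' (τ * b * τ⁻¹) := by
    rw [← e1]; show _ = _; rw [conj_mul, conj_mul, ab.eq]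
  have m : (τ * b * τ⁻¹)⁻¹ * b' ∈ T := by
    rw [show (τ * b * τ⁻¹)⁻¹ * b' = τ * (b⁻¹ * τ⁻¹ * b) * (b⁻¹ * b') by group]
    exact mul_mem (mul_mem h1 (nb _ (inv_mem h1))) h2
  have e2 := s4_cj (τ := (τ * b * τ⁻¹)⁻¹ * b') (a := τ * b * τ⁻¹) (by rw [conj_mul, bb]; simp)
    (by rw [mul_inv_cancel_left, bb']) (x3 _ m)
  rw [mul_inv_cancel_left] at e2
  have c2 : Commute a' ((τ * b * τ⁻¹)⁻¹ * b') := c1.inv_right.mul_right ab'
  generalize (τ * b * τ⁻¹)⁻¹ * b' = μ at m e2 c2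
  refine ⟨μ * τ, mul_mem m h1, ?_, ?_⟩
  · rw [show μ * τ * a * (μ * τ)⁻¹ = μ * (τ * a * τ⁻¹) * μ⁻¹ by group, e1, ← c2.eq, mul_inv_cancel_right]
  · rw [← e2]; group

theorem s4c [Finite X] {T : Subgroup X} {e1 e2 e3 a b r c : X} (hT : T = closure {e1, e2, e3}) (cT : Nat.card T = 27)
    (cm : ∀ x ∈ T, ∀ y ∈ T, x * y = y * x) (x3 : ∀ x ∈ T, x ^ 3 = 1) (CT : centralizer (T : Set X) ≤ T)
    (ha : a * e1 * a⁻¹ = e1 ∧ a * e2 * a⁻¹ = e2⁻¹ ∧ a * e3 * a⁻¹ = e3⁻¹)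
    (hb : b * e1 * b⁻¹ = e1⁻¹ ∧ b * e2 * b⁻¹ = e2 ∧ b * e3 * b⁻¹ = e3⁻¹)
    (hr : r * e1 * r⁻¹ = e2 ∧ r * e2 * r⁻¹ = e3 ∧ r * e3 * r⁻¹ = e1)
    (hc : c * e1 * c⁻¹ = e1 ∧ c * e2 * c⁻¹ = e3 ∧ c * e3 * c⁻¹ = e2⁻¹)
    (hN : normalizer (T : Set X) ≤ closure {e1, e2, e3, a, b, r, c})
    (hC : ∀ x ∈ T, x ≠ 1 → centralizer {x} ≤ normalizer (T : Set X)) : normalizer (T : Set X) = ⊤ := by
  have m1 : e1 ∈ T := hT ▸ subset_closure (by simp)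
  have m2 : e2 ∈ T := hT ▸ subset_closure (by simp)
  have m3 : e3 ∈ T := hT ▸ subset_closure (by simp)
  obtain ⟨ε, f1, f2, f3⟩ := s4_eps (x3 _ m1) (x3 _ m2) (x3 _ m3) (cm _ m1 _ m2) (cm _ m1 _ m3) (cm _ m2 _ m3)
  obtain ⟨gen, faith, fix, cv, a2, b2, ba, a3, b3⟩ := s4_fin
  have εT : ∀ x, ε x ∈ T := fun x => by
    obtain ⟨i, -, j, -, k, -, rfl⟩ := s4_dig.2 x
    simp only [map_mul, map_pow, f1, f2, f3]
    exact mul_mem (mul_mem (pow_mem m1 _) (pow_mem m2 _)) (pow_mem m3 _)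
  have Tε : ∀ y ∈ T, ∃ x, ε x = y := fun y hy => (show T ≤ ε.range from hT ▸ (closure_le _).2 (by
    rintro _ (rfl | rfl | rfl)
    exacts [⟨_, f1⟩, ⟨_, f2⟩, ⟨_, f3⟩])) hy
  have εi : Function.Injective ε := by
    have := (Nat.bijective_iff_surjective_and_card (fun x => (⟨ε x, εT x⟩ : T))).2
      ⟨fun y => let ⟨x, e⟩ := Tε y.1 y.2; ⟨x, Subtype.ext e⟩, by rw [cT, Nat.card_eq_fintype_card]; rfl⟩
    exact fun x y e => this.1 (Subtype.ext e)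
  have A1 : ∀ y ∈ T, SA ε y 1 := fun y hy x => by rw [cm y hy _ (εT x), mul_inv_cancel_right, map_one, MulAut.one_apply]
  have A1' : ∀ {y}, SA ε y 1 → y ∈ T := fun {y} h => CT (mem_centralizer_iff.2 fun w hw => by
    obtain ⟨x, rfl⟩ := Tε w hw
    have := h x
    rw [map_one, MulAut.one_apply, mul_inv_eq_iff_eq_mul] at this
    exact this.symm)
  have df : ∀ {g g' d}, SA ε g d → SA ε g' d → g⁻¹ * g' ∈ T := fun h k => A1' (by simpa using h.inv.mul k)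
  have nT : ∀ {g d}, SA ε g d → ∀ y ∈ T, g * y * g⁻¹ ∈ T := fun h y hy => by
    obtain ⟨x, rfl⟩ := Tε y hy
    rw [h]; exact εT _
  obtain ⟨⟨p1, p2, p3⟩, ⟨p4, p5, p6⟩, ⟨p7, p8, p9⟩, p10, p11, p12⟩ := s4_act
  have Aa : SA ε a (T24.el 1) := .of (by rw [p1, f1, ha.1]) (by rw [p2, map_inv, f2, ha.2.1]) (by rw [p3, map_inv, f3, ha.2.2])
  have Ab : SA ε b (T24.el 2) := .of (by rw [p4, map_inv, f1, hb.1]) (by rw [p5, f2, hb.2.1]) (by rw [p6, map_inv, f3, hb.2.2])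
  have Ar : SA ε r (T24.el 4) := .of (by rw [p7, f1, f2, hr.1]) (by rw [p8, f2, f3, hr.2.1]) (by rw [p9, f3, f1, hr.2.2])
  have Ac : SA ε c (T24.el 16) := .of (by rw [p10, f1, hc.1]) (by rw [p11, f2, f3, hc.2.1]) (by rw [p12, map_inv, f3, f2, hc.2.2])
  have six : ∀ {g d}, SA ε g d → d * d = 1 → g ^ 3 * g ^ 3 = 1 := fun {g d} h e => by
    rw [← (Commute.refl g).mul_pow]; exact x3 _ (A1' (e ▸ h.mul h))
  obtain ⟨a0, Aa0, aa⟩ : ∃ a0, SA ε a0 (T24.el 1) ∧ a0 * a0 = 1 := ⟨a ^ 3, a3 ▸ Aa.pow 3, six Aa a2⟩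
  obtain ⟨b0, Ab0, bb, ab⟩ : ∃ b0, SA ε b0 (T24.el 2) ∧ b0 * b0 = 1 ∧ Commute a0 b0 := by
    have k : SA ε (b * a0 * b⁻¹) (T24.el 1) := ba ▸ (Ab.mul Aa0).mul Ab.inv
    have m := df Aa0 k
    have e := s4_cj (τ := a0⁻¹ * (b * a0 * b⁻¹)) aa (by rw [mul_inv_cancel_left, conj_mul, aa]; simp) (x3 _ m)
    rw [mul_inv_cancel_left] at e
    generalize a0⁻¹ * (b * a0 * b⁻¹) = τ at m e
    have l : SA ε (τ⁻¹ * b) (T24.el 2) := by simpa using (A1 _ (inv_mem m)).mul Ab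
    refine ⟨(τ⁻¹ * b) ^ 3, b3 ▸ l.pow 3, six l b2, Commute.pow_right ?_ 3⟩
    show a0 * (τ⁻¹ * b) = τ⁻¹ * b * a0
    rw [show τ⁻¹ * b * a0 = τ⁻¹ * (b * a0 * b⁻¹) * b by group, ← e]; group
  let V0 := closure ({a0, b0} : Set X)
  have cV : ∀ x ∈ V0, ∀ y ∈ V0, Commute x y := fun x hx y hy => by
    refine closure_induction₂ (p := fun x y _ _ => Commute x y) ?_ (fun _ _ => .one_left _) (fun _ _ => .one_right _)
      (fun _ _ _ _ _ _ => .mul_left) (fun _ _ _ _ _ _ => .mul_right) (fun _ _ _ _ => .inv_left) (fun _ _ _ _ => .inv_right) hx hy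
    rintro _ _ (rfl | rfl) (rfl | rfl)
    exacts [.refl _, ab, ab.symm, .refl _]
  have sV : ∀ x ∈ V0, x * x = 1 := fun x hx => by
    induction hx using closure_induction with
    | mem x h => rcases h with rfl | rfl <;> assumption
    | one => simp
    | mul x y hx hy k l => rw [← pow_two, (cV x hx y hy).mul_pow, pow_two, pow_two, k, l, one_mul]
    | inv x _ k => rw [← mul_inv_rev, k, inv_one]
  have aV : a0 ∈ V0 := subset_closure (by simp)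
  have bV : b0 ∈ V0 := subset_closure (by simp)
  have ex : ∀ d, ∃ g, SA ε g d ∧ ∀ y ∈ V0, g * y * g⁻¹ ∈ V0 := fun d => by
    obtain ⟨g, hg⟩ : ∃ g, SA ε g d := by
      obtain ⟨i, -, j, -, k, -, l, -, rfl⟩ := gen d
      exact ⟨_, (((Aa.pow i).mul (Ab.pow j)).mul (Ar.pow k)).mul (Ac.pow l)⟩
    have q : ∀ v ∈ [T24.el 1, T24.el 2], ∃ y ∈ V0, SA ε y (d * v * d⁻¹) := fun v hv => by
      rcases cv d v hv with e | e | e <;> rw [e]
      exacts [⟨_, aV, Aa0⟩, ⟨_, bV, Ab0⟩, ⟨_, mul_mem aV bV, Aa0.mul Ab0⟩]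
    obtain ⟨a', ma, Aa'⟩ := q (T24.el 1) (by simp)
    obtain ⟨b', mb, Ab'⟩ := q (T24.el 2) (by simp)
    have kb := (hg.mul Ab0).mul hg.inv
    obtain ⟨τ, m, k1, k2⟩ := s4_pair x3 (a := g * a0 * g⁻¹) (b := g * b0 * g⁻¹) (by rw [conj_mul, aa]; simp) (by rw [conj_mul, bb]; simp)
      (by show _ = _; rw [conj_mul, conj_mul, ab.eq]) (sV _ ma) (sV _ mb) (cV _ ma _ mb) (df ((hg.mul Aa0).mul hg.inv) Aa') (df kb Ab')
      fun x hx => by simpa using nT kb.inv x hx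
    refine ⟨τ * g, by simpa using (A1 _ m).mul hg, fun y hy => ?_⟩
    induction hy using closure_induction with
    | mem x h =>
      rcases h with rfl | rfl
      · convert ma using 1; rw [← k1]; group
      · convert mb using 1; rw [← k2]; group
    | one => simp
    | mul x y _ _ k l => rw [← conj_mul]; exact mul_mem k l
    | inv x _ k => rw [← conj_inv]; exact inv_mem k
  have un : ∀ {d g g'}, SA ε g d → SA ε g' d → (∀ y ∈ V0, g * y * g⁻¹ ∈ V0) → (∀ y ∈ V0, g' * y * g'⁻¹ ∈ V0) → g = g' := by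
    intro d g g' h h' k k'
    obtain ⟨x, e⟩ := Tε _ (df h h')
    have q : ∀ {y v}, y ∈ V0 → SA ε y v → act v x = x := fun {y v} hy hv => by
      have m : (g' * y * g'⁻¹) * (g * y * g⁻¹)⁻¹ ∈ T := by
        rw [show g' = g * ε x by rw [e]; group, show g * ε x * y * (g * ε x)⁻¹ * (g * y * g⁻¹)⁻¹ = g * (ε x * (y * (ε x)⁻¹ * y⁻¹)) * g⁻¹ by group]
        exact nT h _ (mul_mem (εT x) (nT hv _ (inv_mem (εT x))))
      have s := sV _ (mul_mem (k' y hy) (inv_mem (k y hy)))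
      have o := x3 _ m
      rw [pow_succ, pow_two, s, one_mul, show g' = g * ε x by rw [e]; group] at o
      refine εi ((hv x).symm.trans ?_)
      rw [show y * ε x * y⁻¹ = (g⁻¹ * (g * ε x * y * (g * ε x)⁻¹ * (g * y * g⁻¹)⁻¹) * g)⁻¹ * ε x by group, o]; group
    rw [fix x (q aV Aa0) (q bV Ab0), map_one] at e
    exact inv_mul_eq_one.1 e.symm
  choose s s1 s2 using ex
  let σ : T24 →* X := MonoidHom.mk' s fun d d' => un (s1 _) ((s1 d).mul (s1 d')) (s2 _) fun y hy => by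
    have := s2 d _ (s2 d' y hy)
    convert this using 1; group
  let κ : W →* X := SemidirectProduct.lift ε σ fun d => MonoidHom.ext fun x => (s1 d x).symm
  have κe : ∀ w : W, κ w = ε w.left * s w.right := fun w => rfl
  have Aκ : ∀ w : W, SA ε (κ w) w.right := fun w => by simpa [κe] using (A1 _ (εT w.left)).mul (s1 w.right)
  have rg : normalizer (T : Set X) ≤ κ.range := fun g hg => by
    obtain ⟨d, hd⟩ : ∃ d, SA ε g d := by
      have := hN hg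
      clear hg
      induction this using closure_induction with
      | mem x h =>
        rcases h with rfl | rfl | rfl | rfl | rfl | rfl | rfl
        exacts [⟨_, A1 _ m1⟩, ⟨_, A1 _ m2⟩, ⟨_, A1 _ m3⟩, ⟨_, Aa⟩, ⟨_, Ab⟩, ⟨_, Ar⟩, ⟨_, Ac⟩]
      | one => exact ⟨1, .one⟩
      | mul x y _ _ k l => exact let ⟨_, k⟩ := k; let ⟨_, l⟩ := l; ⟨_, k.mul l⟩
      | inv x _ k => exact let ⟨_, k⟩ := k; ⟨_, k.inv⟩
    obtain ⟨x, e⟩ := Tε (g * (s d)⁻¹) (A1' (by simpa using hd.mul (s1 d).inv))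
    exact ⟨⟨x, d⟩, by rw [κe, e]; simp⟩
  have s0 : s 1 = 1 := σ.map_one
  have top : κ.range = ⊤ := U.eq_top ⟨(injective_iff_map_eq_one _).2 fun w e => by
    have k := Aκ w
    rw [e] at k
    have l : w.right = 1 := faith _ fun x => εi ((k x).symm.trans (by simp))
    rw [κe, l, s0, mul_one, map_eq_one_iff _ εi] at e
    exact SemidirectProduct.ext e l, fun v hv v1 => by
    have l : v.right = 1 := hv
    have e : κ v = ε v.left := by rw [κe, l, s0, mul_one]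
    rw [e]
    exact (hC _ (εT _) fun k => v1 (SemidirectProduct.ext ((map_eq_one_iff _ εi).1 k) l)).trans rg⟩
  refine normalizer_eq_top_iff.2 ⟨fun y hy g => ?_⟩
  obtain ⟨w, rfl⟩ := top.ge (mem_top g)
  exact nT (Aκ w) y hy

end Cfsg.Lib.Block.Nin
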