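import Cfsg.Agent.Lib.Mc3.A4c
import Cfsg.Agent.Lib.Mc3.S4c
import Cfsg.Agent.Lib.Mc3.Qc

/-! The closed forms of the `A₄` and `S₄` cases. -/

set_option autoImplicit false

namespace Cfsg.Lib.Mc3

universe u

theorem a4C : A4C.{u} := fun hT cT cm x3 CT ha hb hr hN hC =>
  a4c hT cT cm x3 CT ha.1 ha.2.1 ha.2.2 hb.1 hb.2.1 hb.2.2 hr.1 hr.2.1 hr.2.2 hN hC

theorem s4C : S4C.{u} := fun hT cT cm x3 CT ha hb hr hc hN hC =>
  Cfsg.Lib.Block.Nin.s4c hT cT cm x3 CT ha hb hr hc hN hC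

end Cfsg.Lib.Mc3
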