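import Cfsg.Agent.S3347
import Cfsg.Agent.Lib.BG1.PLength
import Cfsg.Agent.Lib.Core.UpperP
import Cfsg.Agent.Lib.Coprime.Generation
import Cfsg.Agent.Lib.Amalg.Ops
import Mathlib.GroupTheory.Transfer

/-! A self-centralising `3²` with automiser of order at most two (inversion) is normal. -/

set_option autoImplicit false
set_option linter.style.haveILetI false

namespace Cfsg.Lib.Mc3

open Subgroup Cfsg.Lib.Amalg Cfsg.Lib.Core

universe u

theorem ell0 (Y : Type u) [Group Y] [Finite Y] (E : Subgroup Y) (c : Nat.card E = 9) (e3 : ∀ x ∈ E, x ^ 3 = 1)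
    (hC : ∀ x ∈ E, x ≠ 1 → centralizer {x} = E)
    (hN : ∀ g ∈ normalizer (E : Set Y), g ∈ E ∨ ∀ x ∈ E, g * x * g⁻¹ = x⁻¹) : E.Normal := by
  haveI : Fact (Nat.Prime 3) := ⟨Nat.prime_three⟩
  obtain ⟨x0, x0E, x1⟩ : ∃ x ∈ E, x ≠ 1 := by
    by_contra! k
    rw [(eq_bot_iff_forall E).2 k, card_bot] at c; omega
  have cm : ∀ x ∈ E, ∀ y ∈ E, y * x = x * y := fun x hx y hy => by
    by_cases e : x = 1
    · simp [e]
    · exact mem_centralizer_singleton_iff.1 ((hC x hx e).ge hy)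
  haveI : IsMulCommutative E := ⟨⟨fun a b => Subtype.ext (cm _ b.2 _ a.2)⟩⟩
  have CE : ∀ g, g * x0 = x0 * g → g ∈ E := fun g h => (hC x0 x0E x1).le (mem_centralizer_singleton_iff.2 h)
  have nc : ¬ IsCyclic E := fun h => by
    obtain ⟨g, hg⟩ := h.exists_ofOrder_eq_natCard
    have := orderOf_dvd_of_pow_eq_one (show g ^ 3 = 1 from Subtype.ext (e3 _ g.2))
    rw [hg, c] at this; omega
  have sq : ∀ g : Y, (∀ x ∈ E, g * x * g⁻¹ = x⁻¹) → ∀ b : Y, (∀ x ∈ E, b * x * b⁻¹ = x⁻¹) → b * g ∈ E := fun g hg b hb => CE _ (by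
    have := hb _ (inv_mem x0E)
    rw [← hg x0 x0E] at this
    calc b * g * x0 = b * (g * x0 * g⁻¹) * b⁻¹ * (b * g) := by group
      _ = _ := by rw [this, hg x0 x0E, inv_inv])
  have pE : IsPGroup 3 E := IsPGroup.of_card (n := 2) c
  have st : Syl 3 E ⊤ := syl_of_syl_normalizer ⟨le_inf le_top le_normalizer, pE, fun U a b p => le_antisymm (fun g hg => by
    refine (hN g (b hg).2).elim id fun h => ?_
    obtain ⟨k, e⟩ := isPGroup_iff_mem.1 p g hg
    obtain ⟨m, hm⟩ : Odd (3 ^ k) := Odd.pow (by decide)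
    rw [hm, pow_succ, pow_mul, pow_two] at e
    exact (mul_mem_cancel_left (pow_mem (sq g h g h) m)).1 (e ▸ one_mem _)) a⟩
  have sig : ∀ (K : Subgroup Y) [K.Normal], ¬ 3 ∣ Nat.card K → K = ⊥ := fun K _ hK => by
    have co : (Nat.card E).Coprime (Nat.card K) := c ▸ Nat.Coprime.pow_left 2 ((Nat.Prime.coprime_iff_not_dvd Nat.prime_three).2 hK)
    by_contra n
    obtain ⟨a, ha, a1, h⟩ := Coprime.exists_centralizer_ne_bot nc le_normalizer_of_normal co n
    rw [hC a ha a1] at h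
    exact h (disjoint_iff.1 (disjoint_of_coprime_natCard co.symm))
  have CC : centralizer (E : Set Y) = E := le_antisymm (fun g hg => CE g (hg x0 x0E).symm) fun g hg x hx => cm g hg x hx
  obtain ⟨P, rfl⟩ := syl_top_iff.1 st
  by_cases k : ∀ g ∈ normalizer ((P : Subgroup Y) : Set Y), g ∈ (P : Subgroup Y)
  · have hP : normalizer ((P : Subgroup Y) : Set Y) ≤ centralizer ((P : Subgroup Y) : Set Y) := CC.symm ▸ k
    have := (MonoidHom.ker_transferSylow_isComplement' P hP).sup_eq_top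
    rw [sig _ (MonoidHom.not_dvd_card_ker_transferSylow P hP), bot_sup_eq] at this
    rw [this]; infer_instance
  push Not at k
  obtain ⟨g, gN, gE⟩ := k
  have gi := (hN g gN).resolve_left gE
  rcases Cfsg.Agent.S3347.result 3 (by decide) P inferInstance nc (index_eq_two_iff.2 ⟨⟨g, gN⟩, fun b => by
    rw [CC, mem_subgroupOf, mem_subgroupOf]
    by_cases h : (b : Y) ∈ (P : Subgroup Y)
    · exact Or.inr ⟨h, fun h2 => gE ((mul_mem_cancel_left h).1 h2)⟩
    · exact Or.inl ⟨sq g gi b ((hN b b.2).resolve_left h), h⟩⟩) with h | h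
  · refine absurd ?_ h
    haveI := pResidual_normal' 3 Y
    have g6 : (g ^ 3) ^ 2 = 1 := by rw [← pow_mul, mul_comm, pow_mul, pow_two]; exact e3 _ (sq g gi g gi)
    have iR : g ^ 3 ∈ pResidual 3 Y := Subgroup.subset_closure
      (Nat.Coprime.coprime_dvd_left (orderOf_dvd_of_pow_eq_one g6) (by decide))
    have l : (P : Subgroup Y) ≤ pResidual 3 Y := fun x hx => by
      have a := gi x hx
      have b := gi _ (inv_mem hx)
      have d : g ^ 3 * x * (g ^ 3)⁻¹ = x⁻¹ := by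
        calc _ = g * (g * (g * x * g⁻¹) * g⁻¹) * g⁻¹ := by rw [pow_three']; group
          _ = _ := by rw [a, b, inv_inv, a]
      have f : x = x⁻¹ * g ^ 3 * x⁻¹⁻¹ * (g ^ 3)⁻¹ := by
        rw [inv_inv, mul_assoc, mul_assoc, ← mul_assoc (g ^ 3), d, ← mul_inv_rev, eq_inv_iff_mul_eq_one, ← e3 x hx, pow_three']; group
      rw [f]
      exact mul_mem (Normal.conj_mem inferInstance _ iR _) (inv_mem iR)
    have := st.res_sup
    rwa [res_top, sup_eq_left.2 l] at this
  · have := (sylow_le_pPrimePCore_iff P).1 ((sylow_le_pPrimePCore_iff_coprime P).2 ((coprime_iff_not_dvd Nat.prime_three).2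
      ((BG1.plength1_iff_index Nat.prime_three).1 h)))
    rwa [sig _ (not_dvd_card_pPrimeCore Nat.prime_three), bot_sup_eq] at this

end Cfsg.Lib.Mc3
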