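import Cfsg.Agent.Lib.SmT.Main
import Cfsg.Agent.Lib.Coprime.Generation

/-! A self-centralising `3²` with normaliser of index at most two over it is normal. -/

set_option autoImplicit false

namespace Cfsg.Lib.Mc3

open Subgroup Cfsg.Lib.Core

universe u

theorem ell29_0 {Y : Type*} [Group Y] [Finite Y] (E : Subgroup Y) (h9 : Nat.card E = 9) (h3 : ∀ x ∈ E, x ^ 3 = 1)
    (hC : ∀ x ∈ E, x ≠ 1 → centralizer {x} = E) (hN : ∀ g ∈ normalizer (E : Set Y), g ∈ E ∨ ∀ x ∈ E, g * x * g⁻¹ = x⁻¹) : E.Normal := by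
  have : Fact (Nat.Prime 3) := ⟨Nat.prime_three⟩
  have cm : ∀ x ∈ E, ∀ y ∈ E, y * x = x * y := fun x a y b => by
    rcases eq_or_ne x 1 with rfl | n
    · simp
    · exact mem_centralizer_singleton_iff.1 ((hC x a n).ge b)
  have hc : IsMulCommutative E := ⟨⟨fun a b => Subtype.ext (cm _ b.2 _ a.2)⟩⟩
  have hn : ¬ IsCyclic E := fun h => by
    obtain ⟨g, e⟩ := IsCyclic.exists_ofOrder_eq_natCard (α := E)
    have := Nat.le_of_dvd (by norm_num) (orderOf_dvd_of_pow_eq_one (Subtype.ext (h3 g g.2) : g ^ 3 = 1))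
    omega
  have pE : IsPGroup 3 E := IsPGroup.of_card (n := 2) h9
  obtain ⟨e, eE, e1⟩ := (bot_or_exists_ne_one E).resolve_left (by rintro rfl; simp at h9)
  have sq' : ∀ g ∈ normalizer (E : Set Y), g ^ 2 ∈ E := fun g hg => (hN g hg).elim (pow_mem · 2) fun k =>
    (hC e eE e1).le (mem_centralizer_singleton_iff.2 (mul_inv_eq_iff_eq_mul.1 (by
      calc _ = g * (g * e * g⁻¹) * g⁻¹ := by rw [sq]; group
        _ = _ := by rw [k e eE, k _ (inv_mem eE), inv_inv])))
  obtain ⟨P, hP⟩ := pE.exists_le_sylow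
  have PE : (P : Subgroup Y) = E := by
    by_contra n
    have := (@Group.normalizerCondition_of_isNilpotent _ _ P.2.isNilpotent) (E.subgroupOf P) (lt_top_iff_ne_top.2 fun t => n (le_antisymm (subgroupOf_eq_top.1 t) hP))
    obtain ⟨x, a, b⟩ := SetLike.exists_of_lt this
    have xn : x.1 ∈ normalizer (E : Set Y) := mem_normalizer_fintype fun y hy => (mem_normalizer_iff.1 a ⟨y, hP hy⟩).1 hy
    obtain ⟨k, r⟩ := P.2 x
    refine b (zpowers_le.2 (sq' _ xn) (mem_zpowers_pow_iff.2 (Nat.Coprime.coprime_dvd_right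
      (orderOf_dvd_of_pow_eq_one (congrArg Subtype.val r : x.1 ^ 3 ^ k = 1)) (Nat.Coprime.pow_right k (by norm_num)))))
  subst PE
  have hO : pPrimeCore 3 Y = ⊥ := eq_bot_iff.2 (Coprime.le_of_forall_centralizer_le hn le_normalizer_of_normal
    (by rw [h9]; exact Nat.Coprime.pow_left 2 (coprime_card_pPrimeCore 3 Y).symm) fun a ha n => by
      rw [hC a ha n, inf_comm]; exact (inf_eq_bot_of_isPGroup_of_coprime Nat.prime_three pE (coprime_card_pPrimeCore 3 Y)).le)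
  by_cases k : normalizer (P.1 : Set Y) ≤ P.1
  · have hS := Transfer.sylowIn_top P
    have h4 : Transfer.PNil 3 (⊤ : Subgroup Y) := hS.pnil_of_normalizer_le_centralizer fun n hn y hy => cm _ (k hn.2) y hy
    have := Transfer.resOf_normal (p := 3) (⊤ : Subgroup Y)
    rw [← hS.eq_of_le (Invol.isPGroup_of_forall fun _ hx => let ⟨k, hk⟩ := Transfer.exists_pow_mem_resOf (p := 3) hx
      ⟨k, (eq_bot_iff_forall _).1 (eq_bot_of_pPrimeCore_eq_bot hO h4.coprime) _ hk⟩) hS.1 le_rfl]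
    infer_instance
  · obtain ⟨τ, a, b⟩ := SetLike.not_le_iff_exists.1 k
    exact SmT.normal_of_inv (by norm_num) hO P hc hn (fun n m => (hN n m).imp_left fun r x hx => mul_inv_eq_iff_eq_mul.2 (cm x hx n r)) a
      ((hN τ a).resolve_left b)

theorem ell29 : ∀ (Y : Type u) [Group Y] [Finite Y] (E : Subgroup Y), Nat.card E = 9 → (∀ x ∈ E, x ^ 3 = 1) →
    (∀ x ∈ E, x ≠ 1 → centralizer {x} = E) → (∀ g ∈ normalizer (E : Set Y), g ∈ E ∨ ∀ x ∈ E, g * x * g⁻¹ = x⁻¹) → E.Normal :=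
  fun _ _ _ => ell29_0

end Cfsg.Lib.Mc3
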