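import Cfsg.Agent.Lib.Amalg.Ops
import Cfsg.Agent.Lib.PGrp.GenRank

/-! Finite facts on `A₆`, `SL₂(5)` and `GL₂(3)`. -/

set_option autoImplicit false
set_option maxRecDepth 100000

namespace Cfsg.Lib.Mc3

open Subgroup Equiv Cfsg.Lib.Amalg

abbrev A6 := alternatingGroup (Fin 6)

def a0 : A6 := ⟨swap 0 1 * swap 1 2, Perm.mem_alternatingGroup.2 (by decide +kernel)⟩
def b0 : A6 := ⟨swap 3 4 * swap 4 5, Perm.mem_alternatingGroup.2 (by decide +kernel)⟩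
def u0 : A6 := ⟨swap 0 4 * swap 0 1 * swap 0 3 * swap 2 5, Perm.mem_alternatingGroup.2 (by decide +kernel)⟩
def g0 : A6 := ⟨swap 2 3 * swap 4 5, Perm.mem_alternatingGroup.2 (by decide +kernel)⟩
def t0 : A6 := ⟨swap 0 1 * swap 3 4, Perm.mem_alternatingGroup.2 (by decide +kernel)⟩
def v0 : A6 := ⟨swap 0 1 * swap 2 5, Perm.mem_alternatingGroup.2 (by decide +kernel)⟩

theorem mem3 {G : Type*} [Group G] {a x : G} (h : a ^ 3 = 1) (hx : x ∈ zpowers a) : x = 1 ∨ x = a ∨ x = a⁻¹ := by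
  obtain ⟨n, rfl⟩ := hx
  have e : a ^ n = a ^ (n % 3) := by
    conv_lhs => rw [← Int.mul_ediv_add_emod n 3, zpow_add, zpow_mul, zpow_ofNat, h, one_zpow, one_mul]
  have : n % 3 = 0 ∨ n % 3 = 1 ∨ n % 3 = 2 := by omega
  rcases this with k | k | k <;> simp only [e, k]
  · simp
  · simp
  · exact .inr (.inr (eq_inv_of_mul_eq_one_left (by rw [← h]; group)))

theorem ab_ok : a0 ^ 3 = 1 ∧ b0 ^ 3 = 1 ∧ a0 ≠ 1 ∧ b0 ≠ 1 ∧ a0 * b0 = b0 * a0 ∧ a0 ≠ b0 ∧ a0 ≠ b0⁻¹ ∧ a0⁻¹ ≠ b0 ∧ a0⁻¹ ≠ b0⁻¹ ∧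
    u0 * a0 * u0⁻¹ = b0 ∧ u0 * b0 * u0⁻¹ = a0⁻¹ ∧ u0 * u0 = t0 ∧ t0 * t0 = 1 ∧ t0 ≠ 1 ∧ g0 * t0 * g0⁻¹ = v0 ∧ v0 * t0 = t0 * v0 ∧
    v0 * u0 * v0⁻¹ * u0 = 1 := by decide +kernel

/-- A Sylow 3-subgroup of `A₆`. -/
def P0 : Subgroup A6 := zpowers a0 ⊔ zpowers b0

theorem P0_n : zpowers a0 ≤ normalizer (zpowers b0 : Set A6) :=
  zpowers_le.2 (cj_eq_self_iff.1 (by rw [cj_zpowers, ab_ok.2.2.2.2.1, mul_inv_cancel_right]))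
theorem P0_p : IsPGroup 3 P0 := isPGroup_sup_of_le_normalizer (isPGroup_zpowers_of_pow (k := 1) ab_ok.1)
  (isPGroup_zpowers_of_pow (k := 1) ab_ok.2.1) P0_n
theorem P0_card : Nat.card P0 = 9 := by
  haveI : Fact (Nat.Prime 3) := ⟨Nat.prime_three⟩
  obtain ⟨a, b, c, d, -, e, f, g, h, -⟩ := ab_ok
  rw [P0, Core.card_sup_of_disjoint P0_n, Nat.card_zpowers, Nat.card_zpowers, orderOf_eq_prime a c, orderOf_eq_prime b d]
  refine eq_bot_iff.2 fun x ⟨k, l⟩ => ?_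
  rcases mem3 a k with rfl | rfl | rfl <;> rcases mem3 b l with m | m | m <;> first | exact m | exact one_mem _ | contradiction
theorem P0_u {x : A6} (h : x ∈ P0) : u0 * x * u0⁻¹ ∈ P0 ∧ t0 * x * t0⁻¹ * x = 1 := by
  obtain ⟨-, -, -, -, c, -, -, -, -, e, f, g, -⟩ := ab_ok
  obtain ⟨_, ⟨m, rfl⟩, _, ⟨n, rfl⟩, rfl⟩ := (mem_sup_of_le_normalizer P0_n).1 h
  have k : ∀ y, t0 * y * t0⁻¹ = u0 * (u0 * y * u0⁻¹) * u0⁻¹ := fun y => by rw [← g]; group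
  refine ⟨?_, ?_⟩
  · rw [← conj_mul, ← conj_zpow, ← conj_zpow, e, f]
    exact mul_mem (mem_sup_right ⟨m, rfl⟩) (mem_sup_left (zpow_mem (inv_mem (mem_zpowers _)) n))
  · rw [← conj_mul, ← conj_zpow, ← conj_zpow, k, k, e, f, ← conj_inv, e, mul_eq_one_iff_eq_inv, mul_inv_rev, inv_zpow, inv_zpow]
    exact (Commute.zpow_zpow c m n).inv_inv

def n6 (a b c d e f : Fin 6) : Fin 6 → Fin 6
  | 0 => a | 1 => b | 2 => c | 3 => d | 4 => e | 5 => f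

theorem ti {r : A6} (h : r ^ 3 = 1) (h1 : Commute r (t0 * r * t0⁻¹)) (h2 : Commute r (v0 * r * v0⁻¹)) : r = 1 := by
  have : ∀ a b, n6 a b 0 0 0 0 0 ≠ b → ∀ c d e f : Fin 6, (∀ i, n6 a b c d e f (n6 a b c d e f (n6 a b c d e f i)) = i) →
    (∀ i, n6 a b c d e f (n6 1 0 2 4 3 5 (n6 a b c d e f (n6 1 0 2 4 3 5 i))) = n6 1 0 2 4 3 5 (n6 a b c d e f (n6 1 0 2 4 3 5 (n6 a b c d e f i)))) →
    (∀ i, n6 a b c d e f (n6 1 0 5 3 4 2 (n6 a b c d e f (n6 1 0 5 3 4 2 i))) = n6 1 0 5 3 4 2 (n6 a b c d e f (n6 1 0 5 3 4 2 (n6 a b c d e f i)))) →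
    ∀ i, n6 a b c d e f i = i := by decide +kernel
  have e : n6 (r.1 0) (r.1 1) (r.1 2) (r.1 3) (r.1 4) (r.1 5) = r.1 := by funext i; fin_cases i <;> rfl
  have a : (∀ i, n6 1 0 2 4 3 5 i = t0.1 i) ∧ (∀ i, n6 1 0 5 3 4 2 i = v0.1 i) ∧ t0⁻¹ = t0 ∧ v0⁻¹ = v0 := by decide +kernel
  have := this (r.1 0) (r.1 1) (r.1.injective.ne (by decide)) (r.1 2) (r.1 3) (r.1 4) (r.1 5)
  simp only [e, a.1, a.2.1] at this
  rw [a.2.2.1] at h1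
  rw [a.2.2.2] at h2
  exact Subtype.ext (Perm.ext (this (fun i => congrArg (fun x : A6 => x.1 i) (show r * (r * r) = 1 by rw [← h]; simp [pow_succ, mul_assoc]))
    (fun i => congrArg (fun x : A6 => x.1 i) h1) fun i => congrArg (fun x : A6 => x.1 i) h2))

end Cfsg.Lib.Mc3
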