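import Cfsg.Agent.Lib.Amalg.Ops
import Cfsg.Agent.Lib.PGrp.GenRank

/-! Finite facts on `A₆`, `SL₂(5)` and `GL₂(3)`. -/

set_option autoImplicit false
set_option maxRecDepth 100000

namespace Cfsg.Lib.Mc3

open Subgroup Equiv Cfsg.Lib.Amalg

abbrev S25 := Matrix.SpecialLinearGroup (Fin 2) (ZMod 5)

theorem s_sq : ∀ a : S25, a * a = 1 → a = 1 ∨ a = -1 := by decide +kernel
theorem s_five : ∃ f : S25, f ^ 5 = 1 ∧ f ≠ 1 := by decide +kernel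
theorem s_card : Nat.card S25 = 120 := by rw [Nat.card_eq_fintype_card]; decide +kernel

theorem s_three : ∀ a : S25, a ^ 3 = 1 → a ≠ 1 → (∃ g, (a * (g * a * g⁻¹)) ^ 2 = -1) ∧ (∃ b, b * a * b⁻¹ = a⁻¹ ∧ b * b = -1) ∧
    ∀ c, c * a = a * c → ∃ k < 3, c = a ^ k ∨ c = -a ^ k := by decide +kernel
end Cfsg.Lib.Mc3
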