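import Cfsg.Agent.Lib.Amalg.Ops
import Cfsg.Agent.Lib.PGrp.GenRank

/-! Finite facts on `A₆`, `SL₂(5)` and `GL₂(3)`. -/

set_option autoImplicit false
set_option maxRecDepth 100000

namespace Cfsg.Lib.Mc3

open Subgroup Equiv Cfsg.Lib.Amalg

abbrev M23 := Matrix (Fin 2) (Fin 2) (ZMod 3)

theorem m_cen : ∀ τ : M23, τ * τ = 1 → τ ≠ 1 → τ ≠ -1 → ∃ m : M23, m * (m * m) = 1 ∧ m * τ ≠ τ * m := by decide +kernel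
theorem m_one : ∀ σ : M23, σ * σ = -1 → ∀ ρ : M23, ρ * ρ = -1 → (ρ * σ = σ * ρ ∨ ρ * σ = -(σ * ρ)) → ρ * σ ≠ 1 → ρ * σ ≠ -1 →
    ∀ ν : M23, ν * ν = 1 → ν * ρ * ν * ρ = 1 → σ * (ν * σ * ν) ≠ ν * σ * ν * σ := by decide +kernel
set_option synthInstance.maxSize 1000 in
theorem m_two : ∀ σ : M23, σ * σ = -1 → ∀ ρ : M23, ρ * ρ = -1 → σ * ρ ≠ ρ * σ → ∀ x : M23, x 0 0 * x 1 1 - x 0 1 * x 1 0 ≠ 0 →
    (x * σ = σ * x ∨ x * σ = -(σ * x)) → (x * ρ = ρ * x ∨ x * ρ = -(ρ * x)) →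
    ∃ w ∈ [1, σ, ρ, σ * ρ], x * w = 1 ∨ x * w = -1 := by decide +kernel

end Cfsg.Lib.Mc3
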