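import Cfsg.Agent.Lib.Mc3.Fr0

/-! The monomial frame around `y = z j`. -/

set_option autoImplicit false

namespace Cfsg.Lib.Mc3

open Subgroup Cfsg.Lib.Amalg Cfsg.Lib.Core
open scoped commutatorElement

variable {G : Type*} [Group G] [Finite G]

namespace H5m
variable {S Q J L M : Subgroup G} {z : G} {θ : G → S25} {π : G → A6} {t j s u v : G}
  (h : H5m S Q J L M z θ π t j s u v)
include h

theorem f_act {a b : G} (k : a ∈ M) (l : b ∈ M) (e : π a = π b) {x : G} (hx : x ∈ J) : a * x * a⁻¹ = b * x * b⁻¹ := by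
  have := h.Jc _ ((h.pπ.eq k l).1 e) x hx
  calc _ = a * (x * (a⁻¹ * b)) * b⁻¹ := by group
    _ = _ := by rw [← this]; group

theorem f_yJ : z * j ∈ J := mul_mem h.zJ h.w_jJ
theorem f_eJ : z * j⁻¹ ∈ J := mul_mem h.zJ (inv_mem h.w_jJ)
theorem f_ty : t * (z * j) = z * j * t := (h.w_Dt (mul_mem h.w_zD h.w_jD)).symm
theorem f_te : t * (z * j⁻¹) = z * j⁻¹ * t := (h.w_Dt (mul_mem h.w_zD (inv_mem h.w_jD))).symm
theorem f_vy : v * (z * j) * v⁻¹ = z * j := by rw [← conj_mul, h.vz, h.w_vj, h.Jc z h.zJ j h.w_jJ]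
theorem f_ve : v * (z * j⁻¹) * v⁻¹ = (z * j⁻¹)⁻¹ := by rw [← conj_mul, w_ci, h.vz, h.w_vj, mul_inv_rev, inv_inv]
theorem f_e1 : z * j⁻¹ ≠ 1 := fun e => h.jQ (mul_inv_eq_one.1 e ▸ h.zQ (mem_zpowers z))
theorem f_y1 : z * j ≠ 1 := fun r => h.jQ (eq_inv_of_mul_eq_one_right r ▸ inv_mem (h.zQ (mem_zpowers z)))
theorem f_zy : z = (z * j * (z * j⁻¹))⁻¹ := by
  rw [mul_assoc, ← mul_assoc j, ← h.Jc z h.zJ j h.w_jJ, mul_inv_cancel_right]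
  exact eq_inv_of_mul_eq_one_left (by rw [← h.J3 z h.zJ]; simp [pow_succ, mul_assoc])

theorem f_D {d : G} (a : d ∈ J) (b : d * t = t * d) : ∃ m n : ℕ, d = (z * j) ^ m * (z * j⁻¹) ^ n := by
  have k : z ∈ zpowers (z * j) ⊔ zpowers (z * j⁻¹) := by
    have := inv_mem (mul_mem_sup (mem_zpowers (z * j)) (mem_zpowers (z * j⁻¹))); rwa [← h.f_zy] at this
  refine fr_two (h.Jc _ h.f_yJ _ h.f_eJ) ((closure_le _).2 (Set.pair_subset k ?_) (h.D d (h.JS a) b))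
  exact (mul_mem_cancel_left k).1 (mem_sup_left (mem_zpowers _))

theorem f_eig {a b g : G} (k : a ∈ J) (l : b ∈ J) (p : g * a * g⁻¹ = a) (q : g * b * g⁻¹ = b⁻¹) (m n : ℕ) :
    (g * (a ^ m * b ^ n) * g⁻¹ = a ^ m * b ^ n → a ^ m * b ^ n ∈ zpowers a) ∧
    (g * (a ^ m * b ^ n) * g⁻¹ = (a ^ m * b ^ n)⁻¹ → a ^ m * b ^ n ∈ zpowers b) := by
  rw [← conj_mul, ← conj_pow, ← conj_pow, p, q, inv_pow]
  refine ⟨fun e => ?_, fun e => ?_⟩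
  · rw [w_si (h.J3 _ (pow_mem l n)) (mul_left_cancel e).symm, mul_one]; exact pow_mem (mem_zpowers a) m
  · rw [h.Jc _ (pow_mem k m) _ (pow_mem l n), h.Jc _ (pow_mem k m) _ (inv_mem (pow_mem l n)), mul_inv_rev, h.Jc _ (inv_mem (pow_mem k m)) _ (inv_mem (pow_mem l n))] at e
    rw [w_si (h.J3 _ (pow_mem k m)) (mul_left_cancel e), one_mul]; exact pow_mem (mem_zpowers b) n

theorem f_five {m : G} (a : m ∈ M) (b : m * (z * j) = z * j * m) (c : π m ^ 5 = 1) : π m = 1 := by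
  haveI : Fact (Nat.Prime 5) := ⟨Nat.prime_five⟩
  have l5 : (m ^ 6) ^ 5 ^ 1 = 1 := by
    have := h.J3 _ ((h.pπ.ker (pow_mem a 5)).1 (by rw [h.pπ.pow a, c]))
    rw [← pow_mul] at this ⊢; rw [show 6 * 5 ^ 1 = 5 * 3 * 2 from rfl, pow_mul, this, one_pow]
  have c1 := PGrp.card_modEq_card_inf_centralizer (isPGroup_zpowers_of_pow l5) (zpowers_le.2 (pow_mem (h.MJ a) 6))
  have d := card_dvd_of_le (inf_le_left : J ⊓ centralizer (zpowers (m ^ 6) : Set G) ≤ J)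
  have y : z * j ∈ J ⊓ centralizer (zpowers (m ^ 6) : Set G) := ⟨h.f_yJ, by
    rintro _ ⟨n, rfl⟩; exact Commute.zpow_left (Commute.pow_left b 6) n⟩
  have n1 : Nat.card ↥(J ⊓ centralizer (zpowers (m ^ 6) : Set G)) ≠ 1 := fun e => h.f_y1 (by rwa [card_eq_one.1 e, mem_bot] at y)
  have e : J ⊓ centralizer (zpowers (m ^ 6) : Set G) = J := eq_of_le_of_card_ge inf_le_left (by
    rw [h.cJ] at c1 d ⊢
    exact (by decide +kernel : ∀ n ≤ 81, n ∣ 81 → n ≠ 1 → 81 % 5 = n % 5 → 81 ≤ n) _ (Nat.le_of_dvd (by norm_num) d) d n1 c1)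
  have := (h.pπ.ker (pow_mem a 6)).2 (h.CJ fun x hx => ((e.ge hx).2 _ (mem_zpowers _)).symm)
  rwa [h.pπ.pow a, pow_succ, c, one_mul] at this

variable {r : G} (rM : r ∈ M) (rπ : π r = r0)
include rM rπ

theorem f_r3 : r ^ 3 ∈ J := (h.pπ.ker (pow_mem rM 3)).1 (by rw [h.pπ.pow rM, rπ, fr_ok.2.2.1])
theorem f_A1 {x : G} (a : x ∈ J) : v * (r * x * r⁻¹) * v⁻¹ = r * (t * x * t⁻¹) * r⁻¹ := by
  rw [h.f_act h.vM (mul_mem (mul_mem rM h.tM) (inv_mem rM)) (by rw [h.pπ.cn rM h.tM, rπ, h.tπ, h.vπ, fr_ok.1])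
    (conj_mem_of_mem_normalizer (h.MJ rM) a)]; group
theorem f_A2 {x : G} (a : x ∈ J) : t * (v * (r * x * r⁻¹) * v⁻¹) * t⁻¹ = r * (v * x * v⁻¹) * r⁻¹ := by
  have := h.f_act (mul_mem h.tM h.vM) (mul_mem (mul_mem rM h.vM) (inv_mem rM))
    (by rw [h.pπ.cn rM h.vM, h.pπ.mul h.tM h.vM, rπ, h.tπ, h.vπ, fr_ok.2.1]) (conj_mem_of_mem_normalizer (h.MJ rM) a)
  calc _ = t * v * (r * x * r⁻¹) * (t * v)⁻¹ := by group
    _ = _ := by rw [this]; group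
theorem f_rrr {x : G} (a : x ∈ J) : r * (r * (r * x * r⁻¹) * r⁻¹) * r⁻¹ = x := by
  calc _ = r ^ 3 * x * (r ^ 3)⁻¹ := by simp only [pow_succ, pow_zero, one_mul]; group
    _ = x := by rw [h.Jc _ (h.f_r3 rM rπ) x a, mul_inv_cancel_right]
theorem f_ry : r * (z * j) = z * j * r := by
  have a := h.f_A1 rM rπ h.f_yJ
  have b := h.f_A2 rM rπ h.f_yJ
  rw [h.f_ty, mul_inv_cancel_right] at a
  rw [a, h.f_vy] at b
  obtain ⟨m, n, e⟩ := h.f_D (conj_mem_of_mem_normalizer (h.MJ rM) h.f_yJ) (mul_inv_eq_iff_eq_mul.1 b).symm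
  have := (h.f_eig h.f_yJ h.f_eJ h.f_vy h.f_ve m n).1 (e ▸ a)
  rw [← e] at this
  rcases mem3 (h.J3 _ h.f_yJ) this with k | k | k
  · exact absurd (conj_eq_one_iff.1 k) h.f_y1
  · exact mul_inv_eq_iff_eq_mul.1 k
  · have := h.f_rrr rM rπ h.f_yJ
    rw [k, w_ci, k, inv_inv, k] at this
    exact absurd (w_si (h.J3 _ h.f_yJ) this.symm) h.f_y1

theorem f_a4 {m : G} (a : m ∈ normalizer (J : Set G)) (b : m ^ 3 ∈ J) (c : m * (z * j) = z * j * m) : m ∈ M ∧ ∃ i k l, π m = fw i k l := by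
  have mM := h.M3 m a 2 (by rw [sq, pow_mul, h.J3 _ b])
  obtain ⟨i, k, l, e | e⟩ := fr_three (a := π m) (by rw [← h.pπ.pow mM]; exact (h.pπ.ker (pow_mem mM 3)).2 b)
  · exact ⟨mM, i, k, l, e⟩
  have w1 := mul_mem (pow_mem h.tM i.1) (pow_mem h.vM k.1)
  have w := mul_mem w1 (pow_mem rM l.1)
  have wπ : π (m * (t ^ i.1 * v ^ k.1 * r ^ l.1)) = π m * fw i k l := by
    rw [h.pπ.mul mM w, h.pπ.mul w1 (pow_mem rM _), h.pπ.mul (pow_mem h.tM _) (pow_mem h.vM _), h.pπ.pow h.tM, h.pπ.pow h.vM, h.pπ.pow rM,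
      h.tπ, h.vπ, rπ, fw]
  rw [← wπ] at e
  exact absurd (h.f_five (mul_mem mM w) (Commute.mul_left c (((Commute.pow_left h.f_ty _).mul_left (Commute.pow_left
    (mul_inv_eq_iff_eq_mul.1 h.f_vy) _)).mul_left (Commute.pow_left (h.f_ry rM rπ) _))) e.1) e.2

theorem f_v4 {g x : G} (a : g ∈ normalizer (J : Set G)) (b : g * (z * j) = z * j * g) (xM : x ∈ M) (x3 : (r0⁻¹ * π x) ^ 3 = 1)
    (xy : x * (z * j) = z * j * x) (xx : x * x = 1) (x1 : π x ≠ 1) :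
    g * x * g⁻¹ ∈ M ∧ (π (g * x * g⁻¹) = t0 ∨ π (g * x * g⁻¹) = v0 ∨ π (g * x * g⁻¹) = t0 * v0) := by
  have k : ∀ {w}, w ∈ M → w ^ 3 ∈ J → w * (z * j) = z * j * w → g * w * g⁻¹ ∈ M ∧ ∃ i k l, π (g * w * g⁻¹) = fw i k l := fun p q s =>
    h.f_a4 rM rπ (mul_mem (mul_mem a (h.MJ p)) (inv_mem a)) (by rw [conj_pow]; exact conj_mem_of_mem_normalizer a q)
      ((Commute.mul_left b s).mul_left (Commute.inv_left b))
  have m := mul_mem (inv_mem rM) xM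
  obtain ⟨p1, i, k1, l, e⟩ := k rM (h.f_r3 rM rπ) (h.f_ry rM rπ)
  obtain ⟨p2, i', k', l', e'⟩ := k m ((h.pπ.ker (pow_mem m 3)).1 (by rw [h.pπ.pow m, h.pπ.mul (inv_mem rM) xM, h.pπ.inv rM, rπ, x3]))
    ((Commute.inv_left (h.f_ry rM rπ)).mul_left xy)
  have q : g * r * g⁻¹ * (g * (r⁻¹ * x) * g⁻¹) = g * x * g⁻¹ := by group
  have q2 := h.pπ.mul p1 p2
  have q1 := mul_mem p1 p2
  rw [q] at q1 q2
  rw [e, e'] at q2
  have := fr_inv i k1 l i' k' l' (by rw [← q2, ← h.pπ.mul q1 q1, conj_mul, xx]; exact (h.pπ.ker (by simp)).2 (by simp))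
  rw [← q2] at this
  refine ⟨q1, this.resolve_left fun n => x1 ((h.pπ.ker xM).2 ?_)⟩
  simpa [mul_assoc] using conj_mem_of_mem_normalizer (inv_mem a) ((h.pπ.ker q1).1 n)

theorem f_v {g : G} (a : g ∈ normalizer (J : Set G)) (b : g * (z * j) = z * j * g) {d : G} (dJ : d ∈ J) :
    g * v * g⁻¹ * d * (g * v * g⁻¹)⁻¹ = t * d * t⁻¹ ∨ g * v * g⁻¹ * d * (g * v * g⁻¹)⁻¹ = v * d * v⁻¹ ∨
      g * v * g⁻¹ * d * (g * v * g⁻¹)⁻¹ = v * (t * d * t⁻¹) * v⁻¹ := by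
  obtain ⟨p, q⟩ := h.f_v4 rM rπ a b h.vM (h.vπ ▸ fr_ok.2.2.2.2.1) (mul_inv_eq_iff_eq_mul.1 h.f_vy) h.vv (h.vπ ▸ fr_ok.2.2.2.2.2.1)
  refine q.imp (fun q => h.f_act p h.tM (q.trans h.tπ.symm) dJ) (Or.imp (fun q => h.f_act p h.vM (q.trans h.vπ.symm) dJ) fun q => ?_)
  rw [h.f_act p (mul_mem h.tM h.vM) (by rw [q, h.pπ.mul h.tM h.vM, h.tπ, h.vπ]) dJ, ← h.vt]; group

theorem f_str {c : G} (cz : Commute c z) (cJ0 : Commute c j) (hc : ∀ x, x * t = t * x → Commute x z → Commute x j → x ∈ closure {z, j} ⊔ zpowers c)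
    (g : G) (a : g ∈ normalizer (J : Set G)) (b : g * (z * j) = z * j * g) : ∃ x ∈ J, ∃ i k l : ℕ, g = x * c ^ i * v ^ k * r ^ l := by
  have s1 : ∀ g, g * (z * j) = z * j * g → g * (z * j⁻¹) = z * j⁻¹ * g → t⁻¹ * (g * t * g⁻¹) ∈ J → ∃ x ∈ J, ∃ i : ℕ, g = x * c ^ i := fun g b e T => by
    have gz : Commute g z := h.f_zy ▸ (Commute.mul_right b e).inv_right
    have gj : Commute g j := by simpa using gz.inv_right.mul_right b
    have := dihedral h.tt (by rw [mul_inv_cancel_left, conj_mul, h.tt]; simp) (h.J3 _ T)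
    rw [mul_inv_cancel_left] at this
    generalize t⁻¹ * (g * t * g⁻¹) = k at T this
    have m := hc (k⁻¹ * g) (by
      calc _ = k⁻¹ * (g * t * g⁻¹) * g := by group
        _ = _ := by rw [← this]; group) (Commute.mul_left (h.Jc _ (inv_mem T) _ h.zJ) gz) (Commute.mul_left (h.Jc _ (inv_mem T) _ h.w_jJ) gj)
    obtain ⟨d, p, w, q, e⟩ := (mem_sup_of_le_normalizer fun d p => nz_of (w_cen cz cJ0 p).symm).1 m
    obtain ⟨i, rfl⟩ := mem_powers_iff_mem_zpowers.2 q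
    exact ⟨k * d, mul_mem T (h.w_DJ p), i, by rw [mul_assoc, e, mul_inv_cancel_left]⟩
  have s2 : ∀ g ∈ normalizer (J : Set G), g * (z * j) = z * j * g → t⁻¹ * (g * t * g⁻¹) ∈ J → ∃ x ∈ J, ∃ i k : ℕ, g = x * c ^ i * v ^ k := fun g a b T => by
    have dJ := conj_mem_of_mem_normalizer a h.f_eJ
    have dt : g * (z * j⁻¹) * g⁻¹ * t = t * (g * (z * j⁻¹) * g⁻¹) := by
      have c1 : Commute (g * (z * j⁻¹) * g⁻¹) (g * t * g⁻¹) := Commute.conj h.f_te.symm g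
      have c2 := c1.mul_right (Commute.inv_right (h.Jc _ dJ _ T))
      rwa [show g * t * g⁻¹ * (t⁻¹ * (g * t * g⁻¹))⁻¹ = t by group] at c2
    have d1 : g * (z * j⁻¹) * g⁻¹ ≠ 1 := fun e => h.f_e1 (conj_eq_one_iff.1 e)
    have iv : g * v * g⁻¹ * (g * (z * j⁻¹) * g⁻¹) * (g * v * g⁻¹)⁻¹ = (g * (z * j⁻¹) * g⁻¹)⁻¹ := by rw [← w_ci g v, conj_mul, conj_mul, h.f_ve, w_ci]
    have k := h.f_v rM rπ a b dJ
    rw [iv, ← dt, mul_inv_cancel_right, or_self] at k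
    replace k := k.resolve_left fun e => d1 (w_si (h.J3 _ dJ) e.symm)
    obtain ⟨m, n, e⟩ := h.f_D dJ dt
    have := (h.f_eig h.f_yJ h.f_eJ h.f_vy h.f_ve m n).2 (e ▸ k.symm)
    rw [← e] at this
    rcases mem3 (h.J3 _ h.f_eJ) this with k | k | k
    · exact absurd k d1
    · obtain ⟨x, p, i, e⟩ := s1 g b (mul_inv_eq_iff_eq_mul.1 k) T
      exact ⟨x, p, i, 0, by simpa using e⟩
    · obtain ⟨x, p, i, e⟩ := s1 (g * v) (Commute.mul_left b (mul_inv_eq_iff_eq_mul.1 h.f_vy)) (mul_inv_eq_iff_eq_mul.1 (by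
        rw [show g * v * (z * j⁻¹) * (g * v)⁻¹ = g * (v * (z * j⁻¹) * v⁻¹) * g⁻¹ by group, h.f_ve, w_ci, k, inv_inv]))
        (by rwa [show g * v * t * (g * v)⁻¹ = g * (v * t * v⁻¹) * g⁻¹ by group, h.vt, mul_inv_cancel_right])
      exact ⟨x, p, i, 1, by rw [← e, pow_one, mul_assoc, h.vv, mul_one]⟩
  obtain ⟨p, q⟩ := h.f_v4 rM rπ (inv_mem a) (Commute.inv_left b) h.tM (h.tπ ▸ fr_ok.2.2.2.1) h.f_ty h.tt
    (h.tπ ▸ ab_ok.2.2.2.2.2.2.2.2.2.2.2.2.2.1)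
  obtain ⟨l, e⟩ : ∃ l : ℕ, r0 ^ l * π (g⁻¹ * t * g⁻¹⁻¹) * (r0 ^ l)⁻¹ = t0 := by
    rcases q with q | q | q <;> rw [q]
    exacts [⟨0, by simp⟩, ⟨2, fr_ok.2.2.2.2.2.2.1⟩, ⟨1, fr_ok.2.2.2.2.2.2.2⟩]
  have rl := pow_mem rM l
  rw [← rπ, ← h.pπ.pow rM, ← h.pπ.cn rl p, ← h.tπ] at e
  have n := mul_mem a (inv_mem (h.MJ rl))
  have := conj_mem_of_mem_normalizer n ((h.pπ.eq (mul_mem (mul_mem rl p) (inv_mem rl)) h.tM).1 e)
  obtain ⟨x, p, i, k, e⟩ := s2 _ n (Commute.mul_left b (Commute.pow_left (h.f_ry rM rπ) l).inv_left) (by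
    convert this using 1; group)
  exact ⟨x, p, i, k, l, by rw [← e, inv_mul_cancel_right]⟩

omit rM rπ in
theorem frame : ∃ e₂ e₃ r c, H6 S Q J L M z θ π (z * j) (z * j⁻¹) e₂ e₃ t v r c := by
  haveI : Fact (Nat.Prime 3) := ⟨Nat.prime_three⟩
  obtain ⟨r, rM, rπ⟩ := h.pπ.sur r0
  have rN := h.MJ rM
  have t1 : t * (z * j⁻¹) * t⁻¹ = z * j⁻¹ := mul_inv_eq_iff_eq_mul.2 h.f_te
  have J2 := conj_mem_of_mem_normalizer rN h.f_eJ
  have J3 := conj_mem_of_mem_normalizer rN J2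
  have v2 := h.f_A1 rM rπ h.f_eJ
  rw [t1] at v2
  have t2 := h.f_A2 rM rπ h.f_eJ
  rw [v2, h.f_ve, w_ci] at t2
  have v3 := h.f_A1 rM rπ J2
  rw [t2, w_ci] at v3
  have t3 := h.f_A2 rM rπ J2
  rw [v3, v2, w_ci, inv_eq_iff_eq_inv] at t3
  have r3 := h.f_rrr rM rπ h.f_eJ
  have n2 : r * (z * j⁻¹) * r⁻¹ ≠ 1 := fun e => h.f_e1 (conj_eq_one_iff.1 e)
  have n3 : r * (r * (z * j⁻¹) * r⁻¹) * r⁻¹ ≠ 1 := fun e => n2 (conj_eq_one_iff.1 e)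
  generalize r2 : r * (r * (z * j⁻¹) * r⁻¹) * r⁻¹ = e₃ at J3 v3 t3 r3 n3
  generalize r1 : r * (z * j⁻¹) * r⁻¹ = e₂ at J2 v2 t2 n2 r2
  have c23 : Commute e₂ e₃ := h.Jc _ J2 _ J3
  have hW : zpowers e₂ ⊔ zpowers e₃ = h.W := eq_of_le_of_card_ge (sup_le (zpowers_le.2 ⟨J2, t2⟩) (zpowers_le.2 ⟨J3, t3⟩)) (by
    rw [h.w_card, card_sup_of_disjoint (zpowers_le.2 (nz_of c23)) (eq_bot_iff.2 fun x ⟨⟨m, a⟩, ⟨n, b⟩⟩ => w_si (h.J3 x (a ▸ zpow_mem J2 m)) (by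
      have a1 : v * x * v⁻¹ = x := by rw [← a, ← conj_zpow, v2]
      have b1 : v * x * v⁻¹ = x⁻¹ := by rw [← b, ← conj_zpow, v3, inv_zpow]
      exact a1.symm.trans b1)), Nat.card_zpowers, Nat.card_zpowers, orderOf_eq_prime (h.J3 _ J2) n2, orderOf_eq_prime (h.J3 _ J3) n3])
  obtain ⟨c, cz, cJ0, hc, cc⟩ : ∃ c, Commute c z ∧ Commute c j ∧ (∀ x, x * t = t * x → Commute x z → Commute x j → x ∈ closure {z, j} ⊔ zpowers c) ∧
      (c = t ∨ (c * c = t ∧ c * e₂ * c⁻¹ = e₃ ∧ c * e₃ * c⁻¹ = e₂⁻¹)) := by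
    rcases h.cases with k | ⟨ι, a1, a2, a3, a4, a5, a6⟩
    · exact ⟨t, (h.w_Dt h.w_zD).symm, (h.w_Dt h.w_jD).symm, k, .inl rfl⟩
    have iu : Commute ι (s * (v * s * v⁻¹)) := a4.mul_right ((a5.mul_right a4).mul_right a5.inv_right)
    have uu : s * (v * s * v⁻¹) * (s * (v * s * v⁻¹)) = t := by
      have k := h.comm
      have k2 := h.w_s'.2.2.2.1
      have k3 := h.w_s'.2.2.1
      rw [commutatorElement_def] at k
      generalize v * s * v⁻¹ = s' at k k2 k3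
      have : s * s' = t * (s' * s) := by rw [← k]; group
      calc _ = s * s' * (t * (s' * s)) := by rw [← this]
        _ = s * (s' * t * s') * s := by group
        _ = s * (t * (s' * s')) * s := by rw [k3, mul_assoc t]
        _ = t := by rw [k2, h.tt, mul_one, h.ss]
    have cd : ∀ d ∈ closure {z, j}, Commute (ι * (s * (v * s * v⁻¹))⁻¹) d := fun d m => by
      have e1 := h.w_c m
      have e2 := a3 d (h.w_DJ m)
      rw [iu.inv_right.eq]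
      generalize s * (v * s * v⁻¹) = u at *
      have e3 : u⁻¹ * (ι * d * ι⁻¹) * u = d := by rw [e2, ← e1]; group
      show u⁻¹ * ι * d = d * (u⁻¹ * ι)
      calc _ = u⁻¹ * (ι * d * ι⁻¹) * u * (u⁻¹ * ι) := by group
        _ = _ := by rw [e3]
    have cc : ι * (s * (v * s * v⁻¹))⁻¹ * (ι * (s * (v * s * v⁻¹))⁻¹) = t := by
      rw [← sq, iu.inv_right.mul_pow, sq, sq, a2, one_mul, ← mul_inv_rev, uu, h.w_ti]
    generalize ι * (s * (v * s * v⁻¹))⁻¹ = c at a6 cd cc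
    have cz := cd z h.w_zD
    have cJ0 := cd j h.w_jD
    have cN := h.nSJ (h.Nd c cz cJ0)
    have wJ := conj_mem_of_mem_normalizer cN J2
    have tc : ∀ x, c * (c * x * c⁻¹) * c⁻¹ = t * x * t⁻¹ := fun x => by rw [← cc]; group
    have wt : t * (c * e₂ * c⁻¹) * t⁻¹ = (c * e₂ * c⁻¹)⁻¹ := by rw [← tc, tc e₂, t2, w_ci]
    have w1 : c * e₂ * c⁻¹ ≠ 1 := fun e => n2 (conj_eq_one_iff.1 e)
    obtain ⟨m, n, e⟩ := fr_two c23 (hW.ge (⟨wJ, wt⟩ : _ ∈ h.W))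
    have k := h.f_v rM rπ cN (cz.mul_right cJ0) wJ
    rw [← w_ci c v, conj_mul, conj_mul, v2, wt, w_ci] at k
    rcases k with k | k | k
    · exact absurd (w_si (h.J3 _ wJ) k) w1
    · have := (h.f_eig J2 J3 v2 v3 m n).1 (e ▸ k.symm)
      rw [← e] at this
      have q := (tc e₂).trans t2
      rcases mem3 (h.J3 _ J2) this with p | p | p
      · exact absurd p w1
      · rw [p, p] at q; exact absurd (w_si (h.J3 _ J2) q) n2
      · rw [p, w_ci, p, inv_inv] at q; exact absurd (w_si (h.J3 _ J2) q) n2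
    · have := (h.f_eig J2 J3 v2 v3 m n).2 (e ▸ (inv_eq_iff_eq_inv.1 k.symm))
      rw [← e] at this
      have q := (tc e₂).trans t2
      rcases mem3 (h.J3 _ J3) this with p | p | p
      · exact absurd p w1
      · exact ⟨c, cz, cJ0, a6, .inr ⟨cc, p, p ▸ q⟩⟩
      · rw [p, w_ci, inv_inj] at q
        refine ⟨c⁻¹, cz.inv_left, cJ0.inv_left, by rwa [zpowers_inv], .inr ⟨by rw [← mul_inv_rev, cc, h.w_ti], ?_, ?_⟩⟩
        · rw [← q]; group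
        · rw [← inv_inv e₃, ← p]; group
  refine ⟨e₂, e₃, r, c, h.toH3, h.f_yJ, h.f_eJ, J2, J3, fun x hx => ?_, h.f_zy, h.f_y1,
    fun b => h.toH4.nc h.f_yJ b h.f_ty (nz_of (mul_inv_eq_iff_eq_mul.1 h.f_vy)), h.MJ h.tM, h.vJ, rN, h.nSJ (h.Nd c cz cJ0), h.f_ty,
    mul_inv_eq_iff_eq_mul.1 h.f_vy, h.f_ry rM rπ, cz.mul_right cJ0, h.tt, h.vv, h.vt, t1, t2, t3, h.f_ve, v2, v3, r1, r2, r3,
    cc.imp_right fun k => ⟨k.1, mul_inv_eq_iff_eq_mul.2 (cz.mul_right cJ0.inv_right), k.2⟩, h.f_str rM rπ cz cJ0 hc⟩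
  obtain ⟨d, p, -, w, q, rfl⟩ := h.w_dec hx
  obtain ⟨a, b, rfl⟩ := h.f_D (h.w_DJ p) (h.w_Dt p)
  obtain ⟨k, l, rfl⟩ := fr_two c23 (hW.ge q)
  exact ⟨a, b, k, l, (mul_assoc _ _ _).symm⟩

end H5m

theorem H3.frame {S Q J L M : Subgroup G} {z : G} {θ : G → S25} {π : G → A6} (h : H3 S Q J L M z θ π) :
    ∃ π' y e₁ e₂ e₃ t v r c, H6 S Q J L M z θ π' y e₁ e₂ e₃ t v r c ∧
      (centralizer {y} ≤ normalizer (J : Set G) → ∃ j s u, H5 S Q J L M z θ π' t j s u v) :=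
  let ⟨π', t, _, v, k⟩ := h.exists_H4
  let ⟨j, s, l⟩ := k.exists_H5m
  let ⟨e₂, e₃, r, c, m⟩ := l.frame
  ⟨π', _, _, e₂, e₃, t, v, r, c, m, fun n => ⟨j, s, _, l.toH5 n⟩⟩

end Cfsg.Lib.Mc3
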