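import Cfsg.Agent.Lib.Mc3.L2

/-! The monomial frame around a non-central element `y` of `J`. -/

set_option autoImplicit false

namespace Cfsg.Lib.Mc3

open Subgroup

/-- `J = ⟨y, e₁, e₂, e₃⟩` and the stabiliser of `y` in `N(J)` acts monomially, as `A₄` or `S₄`. -/
structure H6 {G : Type*} [Group G] (S Q J L M : Subgroup G) (z : G) (θ : G → S25) (π : G → A6) (y e₁ e₂ e₃ t v r c : G) : Prop
    extends H3 S Q J L M z θ π where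
  yJ : y ∈ J
  J1 : e₁ ∈ J
  J2 : e₂ ∈ J
  J3' : e₃ ∈ J
  gen : ∀ x ∈ J, ∃ a b k l : ℕ, x = y ^ a * e₁ ^ b * e₂ ^ k * e₃ ^ l
  zy : z = (y * e₁)⁻¹
  y1 : y ≠ 1
  ny : ¬ IsConj z y
  tN : t ∈ normalizer (J : Set G)
  vN : v ∈ normalizer (J : Set G)
  rN : r ∈ normalizer (J : Set G)
  cN : c ∈ normalizer (J : Set G)
  ty : t * y = y * t
  vy : v * y = y * v
  ry : r * y = y * r
  cy : c * y = y * c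
  tt : t * t = 1
  vv : v * v = 1
  vt : v * t = t * v
  t1 : t * e₁ * t⁻¹ = e₁
  t2 : t * e₂ * t⁻¹ = e₂⁻¹
  t3 : t * e₃ * t⁻¹ = e₃⁻¹
  v1 : v * e₁ * v⁻¹ = e₁⁻¹
  v2 : v * e₂ * v⁻¹ = e₂
  v3 : v * e₃ * v⁻¹ = e₃⁻¹
  r1 : r * e₁ * r⁻¹ = e₂
  r2 : r * e₂ * r⁻¹ = e₃
  r3 : r * e₃ * r⁻¹ = e₁
  cc : c = t ∨ (c * c = t ∧ c * e₁ * c⁻¹ = e₁ ∧ c * e₂ * c⁻¹ = e₃ ∧ c * e₃ * c⁻¹ = e₂⁻¹)
  str : ∀ g ∈ normalizer (J : Set G), g * y = y * g → ∃ x ∈ J, ∃ i k l : ℕ, g = x * c ^ i * v ^ k * r ^ l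

end Cfsg.Lib.Mc3
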