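import Cfsg.Agent.Lib.Mc3.Wm
import Cfsg.Agent.Lib.Mc3.H6

/-! The subgroup `A₄ = ⟨t₀, v₀, r₀⟩` of `A₆`. -/

set_option autoImplicit false

namespace Cfsg.Lib.Mc3

open Subgroup Equiv Cfsg.Lib.Amalg

def r0 : A6 := ⟨swap 0 2 * swap 1 4 * swap 1 5 * swap 2 3, Perm.mem_alternatingGroup.2 (by decide +kernel)⟩
/-- The elements of `A₄`. -/
def fw (i k : Fin 2) (l : Fin 3) : A6 := t0 ^ i.1 * v0 ^ k.1 * r0 ^ l.1

theorem fr_ok : r0 * t0 * r0⁻¹ = v0 ∧ r0 * v0 * r0⁻¹ = t0 * v0 ∧ r0 ^ 3 = 1 ∧ (r0⁻¹ * t0) ^ 3 = 1 ∧ (r0⁻¹ * v0) ^ 3 = 1 ∧ v0 ≠ 1 ∧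
    r0 ^ 2 * v0 * (r0 ^ 2)⁻¹ = t0 ∧ r0 ^ 1 * (t0 * v0) * (r0 ^ 1)⁻¹ = t0 := by decide +kernel

theorem fr_inv : ∀ i k l i' k' l', fw i k l * fw i' k' l' * (fw i k l * fw i' k' l') = 1 → fw i k l * fw i' k' l' = 1 ∨
    fw i k l * fw i' k' l' = t0 ∨ fw i k l * fw i' k' l' = v0 ∨ fw i k l * fw i' k' l' = t0 * v0 := by decide +kernel

theorem fr_three {a : A6} (h : a ^ 3 = 1) : ∃ i k l, a = fw i k l ∨ ((a * fw i k l) ^ 5 = 1 ∧ a * fw i k l ≠ 1) := by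
  have : ∀ a b, n6 a b 0 0 0 0 0 ≠ b → ∀ c d e f : Fin 6, (∀ i, n6 a b c d e f (n6 a b c d e f (n6 a b c d e f i)) = i) →
      ∃ i k l, (∀ x, n6 a b c d e f x = (fw i k l).1 x) ∨ ((∀ x, (fun y => n6 a b c d e f ((fw i k l).1 y))^[5] x = x) ∧
        ¬ ∀ x, n6 a b c d e f ((fw i k l).1 x) = x) := by decide +kernel
  have e : n6 (a.1 0) (a.1 1) (a.1 2) (a.1 3) (a.1 4) (a.1 5) = a.1 := by funext i; fin_cases i <;> rfl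
  have := this (a.1 0) (a.1 1) (a.1.injective.ne (by decide)) (a.1 2) (a.1 3) (a.1 4) (a.1 5)
  simp only [e] at this
  obtain ⟨i, k, l, p⟩ := this fun i => congrArg (fun x : A6 => x.1 i) (show a * (a * a) = 1 by rw [← h]; simp [pow_succ, mul_assoc])
  refine ⟨i, k, l, p.imp (fun p => Subtype.ext (Perm.ext p)) fun p => ⟨Subtype.ext (Perm.ext fun x => ?_), fun q => p.2 fun x => congrArg (fun y : A6 => y.1 x) q⟩⟩
  exact p.1 x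

theorem fr_two {G : Type*} [Group G] [Finite G] {a b x : G} (c : Commute a b) (hx : x ∈ zpowers a ⊔ zpowers b) : ∃ m n : ℕ, x = a ^ m * b ^ n := by
  obtain ⟨p, k, q, l, rfl⟩ := (mem_sup_of_le_normalizer (zpowers_le.2 (nz_of c))).1 hx
  obtain ⟨m, rfl⟩ := mem_powers_iff_mem_zpowers.2 k
  obtain ⟨n, rfl⟩ := mem_powers_iff_mem_zpowers.2 l
  exact ⟨m, n, rfl⟩

end Cfsg.Lib.Mc3
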