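import Cfsg.Agent.Lib.Mc3.L1

/-! The structure `H3` from the hypotheses of the 3-local characterisations of `McL`. -/

set_option autoImplicit false

namespace Cfsg.Lib.Mc3

open Subgroup Cfsg.Lib.Amalg Cfsg.Lib.Core
open scoped commutatorElement

variable {G : Type*} [Group G] [Finite G]

theorem x3_H3 (S : Sylow 3 G) (Z : Subgroup G) (hZ : Z = (S : Subgroup G) ⊓ centralizer ((S : Subgroup G) : Set G))
    (J : Subgroup G) (hJS : J ≤ S) (hJcomm : IsMulCommutative J) (hJexp : ∀ a ∈ J, a ^ 3 = 1) (hJcard : Nat.card J = 3 ^ 4)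
    (M₀ : Subgroup G) (hM₀ : M₀ = closure {g : G | g ∈ normalizer (J : Set G) ∧ ∃ k : ℕ, orderOf g = 3 ^ k})
    (hJM : J ≤ M₀) [hJn : (J.subgroupOf M₀).Normal] (eM : M₀ ⧸ J.subgroupOf M₀ ≃* alternatingGroup (Fin 6))
    (L₀ : Subgroup G) (hL₀ : L₀ = closure {g : G | g ∈ normalizer (Z : Set G) ∧ ∃ k : ℕ, orderOf g = 3 ^ k})
    (Q : Subgroup G) (hQ : Q = (Cfsg.pCore 3 (normalizer (Z : Set G))).map (normalizer (Z : Set G)).subtype)
    (hQex : Cfsg.IsExtraspecial 3 Q) (hQcard : Nat.card Q = 3 ^ 5) (hQexp : ∀ a ∈ Q, a ^ 3 = 1)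
    (hQL : Q ≤ L₀) [hQn : (Q.subgroupOf L₀).Normal] (eL : L₀ ⧸ Q.subgroupOf L₀ ≃* Matrix.SpecialLinearGroup (Fin 2) (ZMod 5))
    (hiii : ∀ z ∈ J, z ≠ 1 → Z = zpowers z →
      centralizer (pCoreOf 3 (centralizer {z}) : Set G) ≤ pCoreOf 3 (centralizer {z})) :
    ∃ z θ π, Z = zpowers z ∧ H3 S Q J L₀ M₀ z θ π := by
  haveI : Fact (Nat.Prime 3) := ⟨Nat.prime_three⟩
  obtain ⟨θ, pθ⟩ := exists_PH hQL eL
  obtain ⟨π, pπ⟩ := exists_PH hJM eM
  have SC : (S : Subgroup G) ≤ centralizer (Z : Set G) := fun x hx y hy => ((hZ ▸ hy : y ∈ _ ⊓ _).2 x hx).symm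
  have SN := SC.trans (centralizer_le_normalizer _)
  have QS : Q ≤ S := hQ ▸ pCoreOf_le_sylow_of_le S SN
  have nQ : normalizer (Z : Set G) ≤ normalizer (Q : Set G) := hQ ▸ le_normalizer_pCoreOf _
  have ZQ : Z ≤ Q ⊓ centralizer (Q : Set G) := le_inf (hQ ▸ le_pCoreOf le_normalizer le_rfl
    (S.isPGroup'.to_le (hZ ▸ inf_le_left))) fun y hy x hx => (SC (QS hx) y hy).symm
  have c3 : Nat.card ↥(Q ⊓ centralizer (Q : Set G)) = 3 := by rw [← map_subtype_center, card_map_subtype, hQex.2]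
  obtain ⟨⟨z, z1, z2⟩, z3⟩ := (ne_bot_iff_exists_ne_one).1 (inf_center_ne_bot S.isPGroup' QS (SN.trans nQ)
    fun e => by rw [e, card_bot] at hQcard; omega)
  replace z3 : z ≠ 1 := fun e => z3 (Subtype.ext e)
  have zZ : z ∈ Z := hZ ▸ ⟨QS z1, z2⟩
  have oz := orderOf_eq_prime (hQexp z z1) z3
  have e1 : zpowers z = Q ⊓ centralizer (Q : Set G) := eq_of_le_of_card_ge ((zpowers_le.2 zZ).trans ZQ)
    (by rw [c3, Nat.card_zpowers, oz])
  have e2 : Z = zpowers z := le_antisymm (ZQ.trans e1.ge) (zpowers_le.2 zZ)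
  have Jc : ∀ x ∈ J, ∀ y ∈ J, x * y = y * x := fun x a y b => congrArg Subtype.val (hJcomm.1.1 ⟨x, a⟩ ⟨y, b⟩)
  have Qc : ∀ x ∈ Q, ∀ y ∈ Q, ⁅x, y⁆ ∈ zpowers z := fun x a y b => by
    rw [e1, ← map_subtype_center, ← hQex.1.2.2]
    exact ⟨⁅(⟨x, a⟩ : Q), ⟨y, b⟩⁆, commutator_mem_commutator (mem_top _) (mem_top _), rfl⟩
  have o3 : ∀ {g : G} {k : ℕ}, g ^ 3 ^ k = 1 → ∃ k, orderOf g = 3 ^ k := fun e =>
    let ⟨i, _, h⟩ := (Nat.dvd_prime_pow Nat.prime_three).1 (orderOf_dvd_of_pow_eq_one e); ⟨i, h⟩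
  have L3 : ∀ g ∈ normalizer (Z : Set G), ∀ k, g ^ 3 ^ k = 1 → g ∈ L₀ := fun g a k e =>
    hL₀ ▸ subset_closure ⟨a, o3 e⟩
  have zJ : z ∈ J := by
    by_contra n
    have SL : (S : Subgroup G) ≤ L₀ := fun x hx =>
      let ⟨k, e⟩ := isPGroup_iff_mem.1 S.isPGroup' x hx; L3 x (SN hx) k e
    have a := pθ.card_im SL
    have b : Nat.card (pθ.im S) ≤ 3 := by
      obtain ⟨k, e⟩ := ((Amalg.isPGroup_subgroupOf S.isPGroup' L₀).map pθ.hom).exists_card_eq
      have d := card_subgroup_dvd_card (pθ.im S)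
      change Nat.card (pθ.im S) = _ at e
      rw [s_card, e] at d
      have : ¬ 2 ≤ k := fun f => absurd ((pow_dvd_pow 3 f).trans d) (by norm_num)
      rw [e]
      exact (Nat.pow_le_pow_right (n := 3) (by norm_num) (by omega : k ≤ 1) :)
    have cz : zpowers z ≤ centralizer (J : Set G) := fun y hy x hx => (SC (hJS hx) y (e2.ge hy)).symm
    have dj : zpowers z ⊓ J = ⊥ := by
      have := card_dvd_of_le (inf_le_left : zpowers z ⊓ J ≤ _)
      rw [Nat.card_zpowers, oz] at this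
      exact card_eq_one.1 (((Nat.dvd_prime Nat.prime_three).1 this).resolve_right fun k =>
        n ((eq_of_le_of_card_ge inf_le_left (by rw [k, Nat.card_zpowers, oz])).ge (mem_zpowers z)).2)
    have c := card_sup_of_disjoint (cz.trans (centralizer_le_normalizer _)) dj
    have ab : ∀ x ∈ zpowers z ⊔ J, ∀ y ∈ zpowers z ⊔ J, x * y = y * x := fun x hx y hy =>
      (sup_le (fun x hx => mem_centralizer_singleton_iff.2 (SC ((sup_le (e2.ge.trans (hZ ▸ inf_le_left)) hJS) hy) x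
        (e2.ge hx))) (fun x hx => mem_centralizer_singleton_iff.2 (mem_centralizer_singleton_iff.1
          ((sup_le (fun y hy => mem_centralizer_singleton_iff.2 (cz hy x hx).symm)
            fun y hy => mem_centralizer_singleton_iff.2 (Jc y hy x hx) : _ ≤ centralizer {x}) hy)).symm) :
          _ ≤ centralizer {y}) hx |> mem_centralizer_singleton_iff.1
    have d := Hall.card_mul_card_le (H := zpowers z ⊔ J) (K := Q) (L := S)
      (sup_le (e2.ge.trans (hZ ▸ inf_le_left)) hJS) QS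
    generalize zpowers z ⊔ J = A at c ab d
    have f := PGrp.relIndex_centralizer_mul_le (p := 3) (A := A ⊓ Q) (S.isPGroup'.to_le QS)
      (show Nat.card (zpowers z) ≤ 3 by rw [Nat.card_zpowers, oz]) fun a b c d => Qc a b.2 c d
    have g := card_inf_mul_relIndex (centralizer (Q : Set G)) (A ⊓ Q)
    have i := card_le_of_le (le_trans (le_inf (inf_le_right.trans inf_le_right) inf_le_left) e1.ge :
      centralizer (Q : Set G) ⊓ (A ⊓ Q) ≤ _)
    have k := card_le_of_le (le_inf inf_le_right fun x hx y hy => ab y hy.1 x hx.1 :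
      A ⊓ Q ≤ Q ⊓ centralizer ((A ⊓ Q : Subgroup G) : Set G))
    rw [inf_eq_right.2 QS, hQcard] at a
    rw [Nat.card_zpowers, oz] at c i
    rw [hJcard] at c
    rw [hQcard] at d f
    rw [c, a] at d
    have : 81 ≤ Nat.card ↥(A ⊓ Q) := by nlinarith
    nlinarith
  have cz : centralizer ({z} : Set G) = centralizer (Z : Set G) := by rw [e2, zpowers_eq_closure, centralizer_closure]
  have e3 : pCoreOf 3 (centralizer {z}) = Q := by
    rw [cz, op_eq_inf (centralizer_le_normalizer _) (normalizer_le_normalizer_centralizer _),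
      show pCoreOf 3 (normalizer (Z : Set G)) = Q from hQ.symm, inf_eq_left.2 (QS.trans SC)]
  refine ⟨z, θ, π, e2, syl_top S, oz, hZ ▸ e2, e1.symm, Qc, hQexp, hQcard, e3 ▸ hiii z zJ z3 e2, QS, ?_, e2 ▸ nQ, ?_,
    e2 ▸ L3, pθ, hJS, Jc, hJexp, hJcard, fun g a k e => hM₀ ▸ subset_closure ⟨a, o3 e⟩,
    hM₀ ▸ (closure_le _).2 fun g a => a.1, pπ⟩
  · rw [hL₀]
    refine (closure_le _).2 fun g ⟨a, k, e⟩ => mem_centralizer_singleton_iff.2 ?_
    have c : Commute (g * g) z := mul_inv_eq_iff_eq_mul.1 (by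
      rw [show g * g * z * (g * g)⁻¹ = g * (g * z * g⁻¹) * g⁻¹ by group]
      rcases mem3 (hQexp z z1) (e2.le (conj_mem_of_mem_normalizer a zZ)) with b | b | b
      · exact absurd (conj_eq_one_iff.1 b) z3
      · rw [b, b]
      · rw [b, ← conj_inv, b, inv_inv])
    obtain ⟨m, hm⟩ : Odd (orderOf g) := e ▸ Odd.pow (by decide)
    have := c.pow_left (m + 1)
    rwa [← sq, ← pow_mul, show 2 * (m + 1) = orderOf g + 1 by omega, pow_succ, pow_orderOf_eq_one, one_mul] at this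
  · rw [← e2, hL₀]
    exact le_normalizer_closure_iff.2 fun n hn g ⟨a, k, e⟩ => subset_closure
      ⟨mul_mem (mul_mem hn a) (inv_mem hn), k, by rw [← e]; exact (MulAut.conj n).orderOf_eq g⟩

end Cfsg.Lib.Mc3
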