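import Cfsg.Agent.Lib.Core.PCore
import Cfsg.Prelude.Def_SporadicB

/-! The 3-local data of an involution centraliser in a group of McLaughlin 3-local type. -/

set_option autoImplicit false

namespace Cfsg.Lib.Mc3

open Subgroup
open scoped commutatorElement

/-- `K` has a central involution `t`, a Sylow 3-subgroup `D = ⟨z, j⟩` of order 9 and `A ≅ SL₂(5)` centralising `z`. -/
structure KD {K : Type*} [Group K] (t z j s v : K) (A : Subgroup K) : Prop where
  tc : ∀ g, g * t = t * g
  t2 : orderOf t = 2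
  z3 : orderOf z = 3
  zj : Commute z j
  jz : j ∉ zpowers z
  vz : v * z * v⁻¹ = j
  vv : v * v = 1
  sz : Commute s z
  sj : s * j * s⁻¹ = j⁻¹
  ss : s * s = t
  st : ⁅s, v * s * v⁻¹⁆ = t
  syl : ¬ 27 ∣ Nat.card K
  iso : Nonempty (A ≃* Matrix.SpecialLinearGroup (Fin 2) (ZMod 5))
  jA : j ∈ A
  sA : s ∈ A
  Az : A ≤ centralizer {z}
  An : normalizer (zpowers z : Set K) ≤ normalizer (A : Set K)
  nc : ¬ IsConj z (z * j)
  Ny : normalizer (zpowers (z * j) : Set K) ≤ normalizer (closure {z, j} : Subgroup K)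

end Cfsg.Lib.Mc3
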