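import Cfsg.Agent.Lib.Mc3.KZ

/-! `K/⟨t⟩ ≅ A₈` when `C(D) = D⟨t⟩`. -/

set_option autoImplicit false

namespace Cfsg.Lib.Mc3

open Subgroup

theorem KD.a8 {K : Type*} [Group K] [Finite K] {t z j s v : K} {A : Subgroup K} (h : KD t z j s v A) [(zpowers t).Normal]
    (hC : centralizer (closure {z, j} : Subgroup K) ≤ closure {z, j} ⊔ zpowers t) :
    Nonempty (K ⧸ zpowers t ≃* alternatingGroup (Fin 8)) := by
  have := h.xd (mul_mem (mem_zpowers t) (mem_zpowers t)) (h.tc z).symm (h.tc j).symm hC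
  rw [show QuotientGroup.mk' (zpowers t) t = 1 from (QuotientGroup.eq_one_iff _).2 (mem_zpowers t)] at this
  exact this.a8

end Cfsg.Lib.Mc3
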