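import Cfsg.Agent.Lib.Transfer.Frobenius
import Cfsg.Agent.Lib.Invol.Basic
import Cfsg.Agent.Lib.Linear.AutAlt
import Cfsg.Agent.Lib.Linear.Triangle

/-! The 3-local data of type `S₈` modulo the central involution. -/

set_option autoImplicit false

namespace Cfsg.Lib.Mc3

open Subgroup Cfsg.Lib.Transfer Equiv

/-- the data in the quotient. -/
structure XD {X : Type*} [Group X] (z j s v c : X) (A : Subgroup X) : Prop where
  z3 : orderOf z = 3
  zj : Commute z j
  jz : j ∉ zpowers z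
  vz : v * z * v⁻¹ = j
  vv : v * v = 1
  sz : Commute s z
  sj : s * j * s⁻¹ = j⁻¹
  ss : s * s = 1
  st : Commute s (v * s * v⁻¹)
  syl : ¬ 27 ∣ Nat.card X
  iso : Nonempty (A ≃* alternatingGroup (Fin 5))
  jA : j ∈ A
  sA : s ∈ A
  Az : A ≤ centralizer {z}
  An : normalizer (zpowers z : Set X) ≤ normalizer (A : Set X)
  nc : ¬ IsConj z (z * j)
  Ny : normalizer (zpowers (z * j) : Set X) ≤ normalizer (closure {z, j} : Subgroup X)
  cc : c * c = 1
  cz : Commute c z
  cj : Commute c j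
  cA : c ∉ centralizer (A : Set X)
  hC : centralizer (closure {z, j} : Subgroup X) ≤ closure {z, j} ⊔ zpowers c

theorem zp3' {X : Type*} [Group X] {x y : X} (h : x ^ 3 = 1) (hy : y ∈ zpowers x) :
    y = 1 ∨ y = x ∨ y = x⁻¹ := by
  obtain ⟨n, rfl⟩ := hy
  have h3 : x ^ (3 : ℤ) = 1 := by rw [← h, ← zpow_natCast]; rfl
  have : ∀ r : ℤ, x ^ (3 * (n / 3) + r) = x ^ r := fun r => by rw [zpow_add, zpow_mul, h3, one_zpow, one_mul]
  have h1 : n = 3 * (n / 3) + 0 ∨ n = 3 * (n / 3) + 1 ∨ n = 3 * (n / 3 + 1) + -1 := by omega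
  rcases h1 with e | e | e
  · left; simp only; rw [e, this, zpow_zero]
  · right; left; simp only; rw [e, this, zpow_one]
  · right; right; simp only; rw [e, zpow_add, zpow_mul, h3, one_zpow, one_mul, zpow_neg_one]

theorem eq_one_23 {X : Type*} [Group X] {x : X} (h2 : x * x = 1) (h3 : x ^ 3 = 1) : x = 1 := by
  rwa [pow_succ, pow_two, h2, one_mul] at h3

namespace XD

variable {X : Type*} [Group X] {z j s v c : X} {A : Subgroup X} (h : XD z j s v c A)
include h

theorem zz : z ^ 3 = 1 := h.z3 ▸ pow_orderOf_eq_one z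
theorem z1 : z ≠ 1 := fun e => by simpa [e] using h.z3
theorem jj : j ^ 3 = 1 := by rw [← h.vz, conj_pow, h.zz, mul_one, mul_inv_cancel]
theorem j1 : j ≠ 1 := fun e => h.jz (e ▸ one_mem _)
theorem vi : v⁻¹ = v := inv_eq_of_mul_eq_one_right h.vv
theorem si : s⁻¹ = s := inv_eq_of_mul_eq_one_right h.ss
theorem vj : v * j * v⁻¹ = z := by
  rw [← h.vz, ← mul_assoc, ← mul_assoc, h.vv, one_mul, mul_assoc, h.vi, h.vv, mul_one]
theorem sz' : s * z * s⁻¹ = z := by rw [h.sz, mul_inv_cancel_right]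
theorem ji : j⁻¹ ≠ j := fun e => h.j1 (eq_one_23 (by nth_rw 1 [← e]; exact inv_mul_cancel j) h.jj)
theorem zi : z⁻¹ ≠ z := fun e => h.z1 (eq_one_23 (by nth_rw 1 [← e]; exact inv_mul_cancel z) h.zz)
theorem tz : v * s * v⁻¹ * z * (v * s * v⁻¹)⁻¹ = z⁻¹ := by
  rw [← h.vj, conj_mul, conj_inv, conj_mul, h.sj, conj_inv]
theorem tj : v * s * v⁻¹ * j * (v * s * v⁻¹)⁻¹ = j := by
  rw [← h.vz, conj_mul, conj_inv, conj_mul, h.sz']

theorem memD {d : X} (hd : d ∈ closure {z, j}) : ∃ a ∈ zpowers z, ∃ b ∈ zpowers j, d = a * b := by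
  have cm : ∀ a ∈ zpowers z, ∀ b ∈ zpowers j, Commute a b := by
    rintro _ ⟨m, rfl⟩ _ ⟨n, rfl⟩; exact h.zj.zpow_zpow m n
  induction hd using closure_induction with
  | mem x hx =>
    rcases hx with rfl | rfl
    exacts [⟨_, mem_zpowers _, 1, one_mem _, (mul_one _).symm⟩, ⟨1, one_mem _, _, mem_zpowers _, (one_mul _).symm⟩]
  | one => exact ⟨1, one_mem _, 1, one_mem _, (mul_one _).symm⟩
  | mul x y _ _ h1 h2 =>
    obtain ⟨a, ha, b, hb, rfl⟩ := h1
    obtain ⟨a', ha', b', hb', rfl⟩ := h2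
    exact ⟨_, mul_mem ha ha', _, mul_mem hb hb', (cm a' ha' b hb).symm.mul_mul_mul_comm a b'⟩
  | inv x _ h1 =>
    obtain ⟨a, ha, b, hb, rfl⟩ := h1
    exact ⟨_, inv_mem ha, _, inv_mem hb, by rw [(cm a ha b hb).eq, mul_inv_rev]⟩

omit h in
theorem zD : z ∈ closure {z, j} := subset_closure (by simp)
omit h in
theorem jD : j ∈ closure {z, j} := subset_closure (by simp)

omit h in
theorem cenD {g : X} (h1 : g * z * g⁻¹ = z) (h2 : g * j * g⁻¹ = j) :
    g ∈ centralizer (closure {z, j} : Subgroup X) := by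
  rw [centralizer_closure]
  rintro _ (rfl | rfl)
  exacts [(mul_inv_eq_iff_eq_mul.1 h1).symm, (mul_inv_eq_iff_eq_mul.1 h2).symm]

omit h in
theorem norD [Finite X] {g : X} (h1 : g * z * g⁻¹ ∈ closure {z, j}) (h2 : g * j * g⁻¹ ∈ closure {z, j}) :
    g ∈ normalizer (closure {z, j} : Subgroup X) := by
  refine mem_normalizer_of_cj_le ?_
  rw [cj_def, MonoidHom.map_closure, closure_le]
  rintro _ ⟨_, rfl | rfl, rfl⟩
  exacts [h1, h2]

theorem D3 {d : X} (hd : d ∈ closure {z, j}) : d ^ 3 = 1 := by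
  obtain ⟨_, ⟨m, rfl⟩, _, ⟨n, rfl⟩, rfl⟩ := h.memD hd
  rw [(h.zj.zpow_zpow m n).mul_pow, ← zpow_natCast, ← zpow_natCast, ← zpow_mul, ← zpow_mul, mul_comm m,
    mul_comm n, zpow_mul, zpow_mul, zpow_natCast, zpow_natCast, h.zz, h.jj, one_zpow, one_zpow, mul_one]

theorem cD : c ∈ centralizer (closure {z, j} : Subgroup X) :=
  cenD (by rw [h.cz, mul_inv_cancel_right]) (by rw [h.cj, mul_inv_cancel_right])

theorem memC {k : X} (hk : k ∈ centralizer (closure {z, j} : Subgroup X)) :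
    k ∈ closure {z, j} ∨ k * c ∈ closure {z, j} := by
  let H : Subgroup X :=
    { carrier := {k | k ∈ closure {z, j} ∨ k * c ∈ closure {z, j}}
      one_mem' := .inl (one_mem _)
      mul_mem' := by
        rintro a b (ha | ha) (hb | hb)
        · exact .inl (mul_mem ha hb)
        · exact .inr (mul_assoc a b c ▸ mul_mem ha hb)
        · exact .inr (by rw [mul_assoc, h.cD b hb, ← mul_assoc]; exact mul_mem ha hb)
        · refine .inl ?_
          have := mul_mem ha hb
          rwa [mul_assoc, ← h.cD _ hb, mul_assoc, h.cc, mul_one] at this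
      inv_mem' := by
        rintro a (ha | ha)
        · exact .inl (inv_mem ha)
        · refine .inr ?_
          have := inv_mem ha
          have e : a = c * (a * c) := by rw [← h.cD _ ha, mul_assoc, h.cc, mul_one]
          rwa [e, mul_inv_rev, mul_assoc, inv_mul_cancel, mul_one] }
  exact (sup_le (fun _ a => .inl a) (zpowers_le.2 (.inr (h.cc ▸ one_mem _))) : _ ≤ H) (h.hC hk)

theorem conjD {d : X} (hd : d ∈ closure {z, j}) (e : IsConj z d) : d = z ∨ d = z⁻¹ ∨ d = j ∨ d = j⁻¹ := by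
  obtain ⟨a, ha, b, hb, rfl⟩ := h.memD hd
  have n : ∀ g, g * (a * b) * g⁻¹ ≠ z * j := fun g e' => h.nc (e.trans (isConj_iff.2 ⟨g, e'⟩))
  have t1 : v * s * v⁻¹ * z⁻¹ * (v * s * v⁻¹)⁻¹ = z := by rw [← conj_inv, h.tz, inv_inv]
  have s1 : s * j⁻¹ * s⁻¹ = j := by rw [← conj_inv, h.sj, inv_inv]
  rcases zp3' h.zz ha with rfl | rfl | rfl <;> rcases zp3' h.jj hb with rfl | rfl | rfl
  · exact absurd (by simpa using e) h.z1
  · simp
  · simp
  · simp
  · exact absurd (by simp) (n 1)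
  · exact absurd (by rw [← conj_mul, h.sz', s1]) (n s)
  · simp
  · exact absurd (by rw [← conj_mul, t1, h.tj]) (n (v * s * v⁻¹))
  · refine absurd ?_ (n (s * (v * s * v⁻¹)))
    rw [mul_inv_rev, mul_assoc s, mul_assoc s, ← mul_assoc _ _ s⁻¹, ← conj_mul, t1, ← conj_inv (b := v * s * v⁻¹),
      h.tj, ← mul_assoc, ← conj_mul, h.sz', s1]

theorem conjJ {g : X} (hg : g ∈ normalizer (closure {z, j} : Subgroup X)) (e : g * z * g⁻¹ = z) :
    g * j * g⁻¹ = j ∨ g * j * g⁻¹ = j⁻¹ := by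
  have n : ∀ x ∈ zpowers z, g * x * g⁻¹ ≠ g * j * g⁻¹ := fun x hx a => h.jz ((by simpa using a : x = j) ▸ hx)
  rcases h.conjD (conj_mem_of_mem_normalizer hg jD) ((isConj_iff.2 ⟨v, h.vz⟩).trans (isConj_iff.2 ⟨g, rfl⟩))
    with a | a | a | a
  · exact absurd (e.trans a.symm) (n z (mem_zpowers z))
  · exact absurd (by rw [conj_inv.symm, e, a]) (n z⁻¹ (inv_mem (mem_zpowers z)))
  exacts [.inl a, .inr a]

variable [Finite X]

theorem sN : s ∈ normalizer (closure {z, j} : Subgroup X) :=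
  norD (by rw [h.sz']; exact zD) (by rw [h.sj]; exact inv_mem jD)
theorem vN : v ∈ normalizer (closure {z, j} : Subgroup X) :=
  norD (by rw [h.vz]; exact jD) (by rw [h.vj]; exact zD)

theorem exd {g : X} (hg : g ∈ normalizer (closure {z, j} : Subgroup X)) :
    ∃ δ ∈ closure {s, s * v}, δ * g ∈ centralizer (closure {z, j} : Subgroup X) := by
  have ms : s ∈ closure {s, s * v} := subset_closure (by simp)
  have mv : v ∈ closure {s, s * v} := (mul_mem_cancel_left ms).1 (subset_closure (by simp))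
  have le : closure {s, s * v} ≤ normalizer (closure {z, j} : Subgroup X) := (closure_le _).2 (by
    rintro _ (rfl | rfl)
    exacts [h.sN, mul_mem h.sN h.vN])
  have cj2 : ∀ a b x : X, a * b * x * (a * b)⁻¹ = a * (b * x * b⁻¹) * a⁻¹ := fun a b x => by group
  obtain ⟨δ, m, e⟩ : ∃ δ ∈ closure {s, s * v}, δ * g * z * (δ * g)⁻¹ = z := by
    rcases h.conjD (conj_mem_of_mem_normalizer hg zD) (isConj_iff.2 ⟨g, rfl⟩) with a | a | a | a
    · exact ⟨1, one_mem _, by rw [one_mul, a]⟩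
    · exact ⟨v * s * v⁻¹, mul_mem (mul_mem mv ms) (inv_mem mv), by rw [cj2, a, ← conj_inv, h.tz, inv_inv]⟩
    · exact ⟨v, mv, by rw [cj2, a, h.vj]⟩
    · exact ⟨v * s, mul_mem mv ms, by rw [cj2, a, cj2, ← conj_inv (b := s), h.sj, inv_inv, h.vj]⟩
  rcases h.conjJ (mul_mem (le m) hg) e with a | a
  · exact ⟨δ, m, cenD e a⟩
  · exact ⟨s * δ, mul_mem ms m, cenD (by rw [mul_assoc s, cj2, e, h.sz'])
      (by rw [mul_assoc s, cj2, a, ← conj_inv, h.sj, inv_inv])⟩

omit [Finite X] in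
theorem r2 : (s * v) ^ 2 = s * (v * s * v⁻¹) := by rw [h.vi, pow_two]; group
omit [Finite X] in
theorem r4 : (s * v) ^ 4 = 1 := by
  rw [show 4 = 2 * 2 from rfl, pow_mul, h.r2, h.st.mul_pow, conj_pow, pow_two, h.ss]; group
omit [Finite X] in
theorem rs : s * (s * v) * s⁻¹ = (s * v)⁻¹ := by rw [← mul_assoc, h.ss, one_mul, mul_inv_rev, h.vi]
omit [Finite X] in
theorem r2z : (s * v) ^ 2 * z * ((s * v) ^ 2)⁻¹ = z⁻¹ := by
  rw [h.r2, mul_inv_rev, mul_assoc s, mul_assoc s, ← mul_assoc _ _ s⁻¹, h.tz, ← mul_assoc, ← conj_inv, h.sz']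

theorem exπ : ∃ π : normalizer ((closure {z, j} : Subgroup X) : Set X) →* DihedralGroup 4,
    Function.Surjective π ∧ ∀ g, π g = 1 ↔ g.1 ∈ centralizer (closure {z, j} : Subgroup X) := by
  let δ := Invol.dihedralHom s (s * v) h.ss h.r4 h.rs
  have hr : δ.range = closure {s, s * v} := Invol.dihedralHom_range ..
  have le : ∀ x, δ x ∈ normalizer ((closure {z, j} : Subgroup X) : Set X) := fun x =>
    (closure_le _).2 (by
      rintro _ (rfl | rfl)
      exacts [h.sN, mul_mem h.sN h.vN]) (hr.le ⟨x, rfl⟩)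
  let ψ := (closure {z, j} : Subgroup X).normalizerMonoidHom
  have hψ : ∀ g, ψ g = 1 ↔ g.1 ∈ centralizer (closure {z, j} : Subgroup X) := fun g => by
    rw [← MonoidHom.mem_ker, normalizerMonoidHom_ker, mem_subgroupOf]
  let θ := ψ.comp (δ.codRestrict _ le)
  have hi : Function.Injective θ := (injective_iff_map_eq_one _).2 fun x hx => by
    by_contra h1
    obtain ⟨y, hy⟩ := (by decide : ∀ x : DihedralGroup 4, x ≠ 1 → ∃ y, x = .r 2 ∨ x * y * x⁻¹ * y⁻¹ = .r 2) x h1
    have h2 : θ (.r 2) = 1 := by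
      rcases hy with e | e <;> rw [← e]
      · exact hx
      · simp [hx]
    have h3 : δ (.r 2) = (s * v) ^ 2 :=
      (Invol.dihedralHom_r s (s * v) h.ss h.r4 h.rs 2).trans (zpow_natCast _ 2)
    have h4 : z * δ (.r 2) = δ (.r 2) * z := (hψ _).1 h2 z zD
    rw [h3] at h4
    exact h.zi (by rw [← h.r2z, ← h4, mul_inv_cancel_right])
  have hm : ∀ g, ψ g ∈ θ.range := fun g => by
    obtain ⟨_, m, e⟩ := h.exd g.2
    obtain ⟨x, rfl⟩ := hr.ge m
    exact ⟨x⁻¹, by
      rw [map_inv, inv_eq_iff_mul_eq_one]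
      exact (map_mul ψ _ g).symm.trans ((hψ _).2 e)⟩
  refine ⟨(MonoidHom.ofInjective hi).symm.toMonoidHom.comp (ψ.codRestrict _ hm), fun x =>
    ⟨δ.codRestrict _ le x, (MonoidHom.ofInjective hi).symm_apply_eq.2 rfl⟩, fun g => ?_⟩
  rw [← hψ]
  exact (map_eq_one_iff _ (MonoidHom.ofInjective hi).symm.injective).trans
    (Subtype.ext_iff (a1 := ψ.codRestrict _ hm g) (a2 := 1))

theorem sqD {g : X} (hg : g ∈ normalizer (zpowers (z * j) : Set X)) : g * g ∈ closure {z, j} := by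
  obtain ⟨δ, m, e⟩ := h.exd (h.Ny hg)
  have y3 : (z * j) ^ 3 = 1 := h.D3 (mul_mem zD jD)
  have dN : δ ∈ normalizer (closure {z, j} : Subgroup X) :=
    (mul_mem_cancel_right (h.Ny hg)).1 (centralizer_le_normalizer _ e)
  have dy : δ ∈ normalizer (zpowers (z * j) : Set X) := (mul_mem_cancel_right hg).1
    (mem_normalizer_of_cj_le (cj_zpowers_le.2 (by
      rw [← e _ (mul_mem zD jD), mul_inv_cancel_right]; exact mem_zpowers _)))
  have bad : s * v ∉ normalizer (zpowers (z * j) : Set X) := fun a => by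
    have := conj_mem_of_mem_normalizer a (mem_zpowers _)
    rw [show s * v * (z * j) * (s * v)⁻¹ = s * (v * z * v⁻¹) * s⁻¹ * (s * (v * j * v⁻¹) * s⁻¹) by group,
      h.vz, h.vj, h.sj, h.sz'] at this
    rcases zp3' y3 this with a | a | a
    · exact h.jz (inv_mul_eq_one.1 a ▸ mem_zpowers z)
    · exact h.ji (mul_right_cancel (a.trans h.zj.eq))
    · exact h.zi (mul_left_cancel (a.trans (mul_inv_rev _ _))).symm
  have d2 : δ * δ = 1 := by
    obtain ⟨x, rfl⟩ := (Invol.dihedralHom_range s (s * v) h.ss h.r4 h.rs).ge m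
    have r1 : Invol.dihedralHom s (s * v) h.ss h.r4 h.rs (.r 1) = s * v :=
      (Invol.dihedralHom_r s (s * v) h.ss h.r4 h.rs 1).trans (zpow_one _)
    rcases (by decide : ∀ x : DihedralGroup 4, x * x = 1 ∨ x = .r 1 ∨ x⁻¹ = .r 1) x with a | a | a
    · rw [← map_mul, a, map_one]
    · exact absurd (r1 ▸ a ▸ dy) bad
    · have := inv_mem dy
      rw [← map_inv, a, r1] at this
      exact absurd this bad
  have e1 : g * g = δ * (δ * g) * δ⁻¹ * (δ * g) := by rw [← mul_assoc δ δ, d2]; group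
  have e2 : δ * (δ * g) * δ⁻¹ ∈ centralizer (closure {z, j} : Subgroup X) := fun d hd => by
    have := e _ (conj_mem_of_mem_normalizer (inv_mem dN) hd)
    calc _ = δ * (δ⁻¹ * d * δ⁻¹⁻¹ * (δ * g)) * δ⁻¹ := by group
      _ = _ := by rw [this]; group
  rw [e1]
  by_cases a : δ * g ∈ closure {z, j}
  · exact mul_mem (conj_mem_of_mem_normalizer dN a) a
  have b1 := (h.memC e).resolve_left a
  have b2 := (h.memC e2).resolve_left fun b => a ((mem_normalizer_iff.1 dN _).2 b)
  have := mul_mem b2 b1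
  rwa [mul_assoc, ← h.cD _ b1, mul_assoc _ c c, h.cc, mul_one] at this

theorem cardD : Nat.card (closure {z, j} : Subgroup X) = 9 := by
  have := Fact.mk Nat.prime_three
  obtain ⟨n, hn⟩ := (show IsPGroup 3 (closure {z, j} : Subgroup X) from
    fun d => ⟨1, Subtype.ext (h.D3 d.2)⟩).exists_card_eq
  have h1 : zpowers z < closure {z, j} := lt_of_le_of_ne (zpowers_le.2 zD) fun e => h.jz (e ▸ jD)
  have h2 := card_lt_of_lt h1
  have h3 : n < 3 := not_le.1 fun a => h.syl ((pow_dvd_pow 3 a).trans (hn ▸ card_subgroup_dvd_card _))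
  rw [Nat.card_zpowers, h.z3, hn] at h2
  rw [hn]
  interval_cases n <;> omega

theorem sylD : SylowIn 3 (closure {z, j} : Subgroup X) ⊤ :=
  ⟨le_top, fun d => ⟨1, Subtype.ext (h.D3 d.2)⟩, fun a => h.syl (by
    rw [relIndex_top_right] at a
    rw [← (closure {z, j} : Subgroup X).card_mul_index, h.cardD]
    exact Nat.mul_dvd_mul_left 9 a)⟩

omit [Finite X] in
theorem cenAz {x : X} (h1 : x ∈ centralizer (A : Set X)) (h2 : x * z = z * x) : x ∈ zpowers z := by
  have h3 := cenD (z := z) (j := j) (g := x) (by rw [h2, mul_inv_cancel_right])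
    (by rw [← h1 j h.jA, mul_inv_cancel_right])
  have h4 : x ∈ closure {z, j} := (h.memC h3).resolve_right fun a => h.cA (by
    have e := h.D3 a
    have xc : Commute x c := mul_right_cancel (b := c) (by rw [h.cD _ a, mul_assoc c])
    rw [xc.mul_pow, pow_succ c, pow_two c, h.cc, one_mul] at e
    rw [eq_inv_of_mul_eq_one_right e]
    exact inv_mem (pow_mem h1 3))
  obtain ⟨a, ha, b, hb, rfl⟩ := h.memD h4
  have h5 : a ∈ centralizer (A : Set X) :=
    (zpowers_le (H := centralizer (A : Set X))).2 (fun y hy => mem_centralizer_singleton_iff.1 (h.Az hy)) ha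
  have h6 := (mul_mem_cancel_left h5).1 h1 s h.sA
  rcases zp3' h.jj hb with rfl | rfl | rfl
  · rwa [mul_one]
  · exact absurd (by rw [← h.sj, h6, mul_inv_cancel_right]) h.ji
  · exact absurd (by rw [← inv_inj, ← h.sj, conj_inv, h.sj, h6, mul_inv_cancel_right]) h.ji.symm

theorem eL : Nonempty (normalizer (zpowers z : Set X) ≃* Perm (Fin 3) × Perm (Fin 5)) := by
  obtain ⟨e⟩ := h.iso
  let ι : Perm (Fin 5) ≃* MulAut (alternatingGroup (Fin 5)) := MulEquiv.ofBijective MulAut.conjNormal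
    ⟨Linear.conjNormal_alt_injective (by simp), Linear.conjNormal_alt_surjective (by simp) (by simp)⟩
  let α : normalizer (zpowers z : Set X) →* Perm (Fin 5) := (ι.symm.toMonoidHom.comp
    (MulAut.congr e).toMonoidHom).comp (A.normalizerMonoidHom.comp (inclusion h.An))
  have k1 : ∀ n, α n = 1 ↔ n.1 ∈ centralizer (A : Set X) := fun n => by
    refine ((map_eq_one_iff _ ι.symm.injective).trans (map_eq_one_iff _ (MulAut.congr e).injective)).trans ?_
    rw [MonoidHom.comp_apply, ← MonoidHom.mem_ker, normalizerMonoidHom_ker]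
    rfl
  have nz : ∀ {g : X}, g * z * g⁻¹ ∈ zpowers z → g ∈ normalizer (zpowers z : Set X) := fun a =>
    mem_normalizer_of_cj_le (cj_zpowers_le.2 a)
  have cz : ∀ {g : X}, g * z = z * g → g ∈ normalizer (zpowers z : Set X) := fun a =>
    nz (by rw [a, mul_inv_cancel_right]; exact mem_zpowers z)
  have az : ∀ a : A, (a : X) * z = z * a := fun a => mem_centralizer_singleton_iff.1 (h.Az a.2)
  have k2 : ∀ a : A, α ⟨a, cz (az a)⟩ = e a := fun a => ι.symm_apply_eq.2 (MulEquiv.ext fun x => by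
    obtain ⟨x, rfl⟩ := e.surjective x
    show e (A.normalizerMonoidHom _ (e.symm (e x))) = e a * e x * (e a)⁻¹
    rw [e.symm_apply_apply, ← map_inv, ← map_mul, ← map_mul]; rfl)
  let c' : normalizer (zpowers z : Set X) := ⟨c, cz h.cz⟩
  have k3 : α c' ∉ alternatingGroup (Fin 5) := fun hc => h.cA (by
    obtain ⟨a, ha⟩ := e.surjective ⟨_, hc⟩
    have h1 : c * (a : X)⁻¹ ∈ centralizer (A : Set X) := (k1 (c' * ⟨a, cz (az a)⟩⁻¹)).1 (by
      rw [map_mul, map_inv, k2, ha, mul_inv_cancel])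
    have h2 : (a : X) * j = j * a := by
      have := h1 j h.jA
      rw [← mul_assoc, ← h.cj.eq, mul_assoc, mul_assoc, mul_right_inj] at this
      rw [← mul_inv_eq_iff_eq_mul, mul_assoc, this, mul_inv_cancel_left]
    have h3 : e a ^ 3 = 1 := (by decide +kernel : ∀ y : alternatingGroup (Fin 5), y ^ 3 = 1 → y ≠ 1 →
      ∀ x, x * y = y * x → x ^ 3 = 1) (e ⟨j, h.jA⟩) (by rw [← map_pow, map_eq_one_iff _ e.injective]; exact Subtype.ext h.jj)
      (fun a => h.j1 (congrArg Subtype.val ((map_eq_one_iff _ e.injective).1 a))) _ (by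
        rw [← map_mul, ← map_mul]; exact congrArg e (Subtype.ext h2))
    rw [← map_pow, map_eq_one_iff _ e.injective] at h3
    have h4 : (a : X) ^ 3 = 1 := congrArg Subtype.val h3
    have h5 : Commute c (a : X)⁻¹ := by
      have := h1 _ (inv_mem a.2)
      rw [← mul_assoc, mul_left_inj] at this
      exact this.symm
    have := pow_mem h1 3
    rwa [h5.mul_pow, inv_pow, h4, inv_one, mul_one, pow_succ, pow_two, h.cc, one_mul] at this)
  have k4 : ∀ σ, ∃ m, α m = σ ∧ ∀ H : Subgroup X, A ≤ H → c ∈ H → m.1 ∈ H := fun σ => by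
    by_cases hσ : σ ∈ alternatingGroup (Fin 5)
    · obtain ⟨a, ha⟩ := e.surjective ⟨_, hσ⟩
      exact ⟨_, (k2 a).trans (congrArg Subtype.val ha), fun H a1 _ => a1 a.2⟩
    · obtain ⟨a, ha⟩ := e.surjective ⟨σ * (α c')⁻¹, (mul_mem_iff_of_index_two
        alternatingGroup.index_eq_two).2 (by simpa [hσ] using k3)⟩
      exact ⟨⟨a, cz (az a)⟩ * c', by rw [map_mul, k2, ha, inv_mul_cancel_right],
        fun H a1 a2 => mul_mem (a1 a.2) a2⟩
  obtain ⟨w, w1, w2⟩ : ∃ w ∈ centralizer (A : Set X), w * z * w⁻¹ = z⁻¹ := by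
    let t : normalizer (zpowers z : Set X) := ⟨_, nz (h.tz ▸ inv_mem (mem_zpowers z))⟩
    obtain ⟨m, m1, m2⟩ := k4 (α t)⁻¹
    refine ⟨_, (k1 (t * m)).1 (by rw [map_mul, m1, mul_inv_cancel]), ?_⟩
    have := mem_centralizer_singleton_iff.1 (m2 _ h.Az (mem_centralizer_singleton_iff.2 h.cz))
    rw [coe_mul, mul_assoc _ m.1, this, mul_inv_rev, ← mul_assoc, ← mul_assoc, mul_inv_cancel_right, h.tz]
  have wz : ∀ x ∈ zpowers z, x * w = w * x → x = 1 := fun x hx a => by
    rcases zp3' h.zz hx with rfl | rfl | rfl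
    · rfl
    · exact absurd (by rw [← w2, ← a, mul_inv_cancel_right]) h.zi
    · exact absurd (by rw [← inv_inj, ← w2, conj_inv, w2, ← a, mul_inv_cancel_right]) h.zi.symm
  have zw : ∀ {x : X}, x * z * x⁻¹ = z⁻¹ → x * w * z = z * (x * w) := fun {x} a => by
    rw [← mul_inv_eq_iff_eq_mul, show x * w * z * (x * w)⁻¹ = x * (w * z * w⁻¹) * x⁻¹ by group, w2,
      ← conj_inv, a, inv_inv]
  have ww : w * w = 1 := wz _ (h.cenAz (mul_mem w1 w1) (zw w2)) (mul_assoc _ _ _)
  let e3 : DihedralGroup 3 ≃* Perm (Fin 3) := MulEquiv.ofBijective _ ((Nat.bijective_iff_injective_and_card _).2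
    ⟨Invol.dihedralHom_injective (n := 3) (Equiv.swap (0 : Fin 3) 1) (Equiv.swap 0 1 * Equiv.swap 1 2)
      (by decide) (by decide) (by decide) (orderOf_eq_prime (by decide) (by decide)) (fun a => by
        rcases zp3' (by decide) a with b | b | b <;> revert b <;> decide), by
      rw [DihedralGroup.nat_card, Nat.card_perm]; simp; rfl⟩)
  let f := Invol.dihedralHom w z ww h.zz w2
  have hf : Function.Injective f := Invol.dihedralHom_injective _ _ _ _ _ h.z3 fun m => h.zi (by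
    obtain ⟨k, rfl⟩ := m
    rw [← w2, ((Commute.refl _).zpow_left k).eq, mul_inv_cancel_right])
  have fr : f.range = closure {w, z} := Invol.dihedralHom_range ..
  have zA : z ∈ centralizer (A : Set X) := fun y hy => az ⟨y, hy⟩
  have fA : ∀ x, f x ∈ centralizer (A : Set X) ⊓ normalizer (zpowers z : Set X) := fun x =>
    (closure_le _).2 (by
      rintro _ (rfl | rfl)
      exacts [⟨w1, nz (w2 ▸ inv_mem (mem_zpowers z))⟩, ⟨zA, cz rfl⟩]) (fr.le ⟨x, rfl⟩)
  let M : Subgroup X := centralizer {w, z}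
  have MN : M ≤ normalizer (zpowers z : Set X) := fun m hm => cz (hm z (by simp)).symm
  have AM : A ≤ M := fun a ha => by
    rintro _ (rfl | rfl)
    exacts [(w1 a ha).symm, (zA a ha).symm]
  have cM : c ∈ M := by
    rintro _ (rfl | rfl)
    swap
    · exact h.cz.symm
    rename_i w
    have b1 : c * w * c⁻¹ ∈ centralizer (A : Set X) := (k1 (c' * ⟨w, nz (w2 ▸ inv_mem (mem_zpowers z))⟩ * c'⁻¹)).1
      (by rw [map_mul, map_mul, (k1 ⟨w, _⟩).2 w1, mul_one, map_inv, mul_inv_cancel])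
    have b2 := h.cenAz (mul_mem b1 w1) (zw (by
      rw [show c * w * c⁻¹ * z * (c * w * c⁻¹)⁻¹ = c * (w * (c⁻¹ * z * c) * w⁻¹) * c⁻¹ by group,
        h.cz.inv_left.eq, inv_mul_cancel_right, w2, h.cz.inv_right.eq, mul_inv_cancel_right]))
    have b3 : Commute c (c * w * c⁻¹ * w) := by
      obtain ⟨k, hk⟩ := b2
      exact hk ▸ h.cz.zpow_right k
    have ci : c⁻¹ = c := inv_eq_of_mul_eq_one_right h.cc
    have b4 : c * w * c⁻¹ * w = 1 := eq_one_23 (by
      calc _ = (c * w * c⁻¹ * w) * c * (w * c⁻¹ * w) := by group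
        _ = (c * c) * w * c⁻¹ * (w * w) * c⁻¹ * w := by rw [← b3.eq]; group
        _ = 1 := by rw [h.cc, ww, ci, one_mul, mul_one, mul_assoc w, h.cc, mul_one, ww])
      (h.D3 (zpowers_le.2 zD b2))
    rw [mul_eq_one_iff_eq_inv, inv_eq_of_mul_eq_one_right ww, mul_inv_eq_iff_eq_mul] at b4
    exact b4.symm
  let ψ : M →* Perm (Fin 5) := α.comp (inclusion MN)
  have hψ : Function.Bijective ψ := ⟨(injective_iff_map_eq_one _).2 fun m hm => Subtype.ext
    (wz _ (h.cenAz ((k1 _).1 hm) (m.2 z (by simp)).symm) (m.2 w (by simp)).symm), fun σ =>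
      let ⟨m, m1, m2⟩ := k4 σ; ⟨⟨m, m2 M AM cM⟩, m1⟩⟩
  let g : Perm (Fin 5) →* normalizer (zpowers z : Set X) :=
    (inclusion MN).comp (MulEquiv.ofBijective ψ hψ).symm.toMonoidHom
  have gα : ∀ σ, α (g σ) = σ := (MulEquiv.ofBijective ψ hψ).apply_symm_apply
  let f' : DihedralGroup 3 →* normalizer (zpowers z : Set X) := f.codRestrict _ fun x => (fA x).2
  have fα : ∀ x, α (f' x) = 1 := fun x => (k1 _).2 (fA x).1
  let κ := f'.noncommCoprod g fun x σ => Subtype.ext
    (((centralizer_closure {w, z}).ge ((MulEquiv.ofBijective ψ hψ).symm σ).2) _ (fr.le ⟨x, rfl⟩))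
  have hκ : Function.Bijective κ := ⟨(injective_iff_map_eq_one _).2 fun ⟨x, σ⟩ a => by
      have a : f' x * g σ = 1 := a
      have b := congrArg α a
      rw [map_mul, fα, gα, one_mul, map_one] at b
      rw [b, map_one, mul_one] at a
      rw [b, (map_eq_one_iff f hf).1 (congrArg Subtype.val a)]; rfl, fun n => by
      have b1 := (k1 (n * (g (α n))⁻¹)).1 (by rw [map_mul, map_inv, gα, mul_inv_cancel])
      have mz : zpowers z ≤ closure {w, z} := zpowers_le.2 (subset_closure (by simp))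
      obtain ⟨x, hx⟩ : (n * (g (α n))⁻¹).1 ∈ f.range := by
        rw [fr]
        rcases zp3' h.zz (conj_mem_of_mem_normalizer (n * (g (α n))⁻¹).2 (mem_zpowers z)) with a | a | a
        · exact absurd (conj_eq_one_iff.1 a) h.z1
        · exact mz (h.cenAz b1 (mul_inv_eq_iff_eq_mul.1 a))
        · exact (mul_mem_cancel_right (subset_closure (by simp))).1 (mz (h.cenAz (mul_mem b1 w1) (zw a)))
      exact ⟨(x, α n), eq_mul_inv_iff_mul_eq.1 (Subtype.ext hx)⟩⟩
  exact ⟨(MulEquiv.ofBijective κ hκ).symm.trans (e3.prodCongr (MulEquiv.refl _))⟩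

end XD

end Cfsg.Lib.Mc3
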