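import Cfsg.Agent.Lib.Mc3.K0
import Cfsg.Agent.Lib.Mc3.KB0
import Cfsg.Agent.S3330
import Cfsg.Agent.Lib.Linear.PSL2Small
import Cfsg.Agent.Lib.Layer.Quasisimple

/-! The involution centraliser of shape `2.S₈`. -/

set_option autoImplicit false

namespace Cfsg.Lib.Mc3

open Subgroup Cfsg.Lib.Transfer Equiv
open scoped commutatorElement

theorem XD.main {X : Type*} [Group X] [Finite X] {z j s v c : X} {A : Subgroup X} (h : XD z j s v c A) :
    Nonempty (X ≃* Perm (Fin 8)) ∨ ∀ a ∈ A, ∀ b ∈ A, Commute a (v * b * v⁻¹) := by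
  obtain ⟨π, sπ, hπ⟩ := h.exπ
  obtain ⟨eL⟩ := h.eL
  have hS := h.sylD
  have hg : closure {z * j, z} = closure {z, j} := le_antisymm ((closure_le _).2 (by
      rintro _ (rfl | rfl)
      exacts [mul_mem XD.zD XD.jD, XD.zD])) ((closure_le _).2 (by
      rintro _ (rfl | rfl)
      exacts [XD.jD, (mul_mem_cancel_left XD.jD).1 XD.zD]))
  have ny : ∀ g, g * (z * j) = z * j * g → g ∈ normalizer (zpowers (z * j) : Set X) := fun g a =>
    mem_normalizer_of_cj_le (cj_zpowers_le.2 (by rw [a, mul_inv_cancel_right]; exact mem_zpowers _))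
  have key : Nonempty (X ≃* Perm (Fin 8)) ∨ ∃ N : Subgroup X,
      Nonempty (N ≃* alternatingGroup (Fin 5) × alternatingGroup (Fin 5)) ∧ ∀ g : X, g ^ 2 ∈ N := by
    have hy := fun g a => And.intro (h.sqD (ny g a))
      fun d hd => conj_mem_of_mem_normalizer (x := d) (h.Ny (ny g a)) hd
    have hN := fun g => h.sqD (g := g)
    have hc := h.cardD
    have y3 := h.D3 (mul_mem XD.zD XD.jD)
    generalize closure {z, j} = D at π sπ hπ hS hg hy hN hc
    obtain ⟨κ, u, rfl, k, ha⟩ := S8L.exists_cs hg hc y3 h.zz ((Commute.refl z).mul_left h.zj.symm).eq π sπ hπ hy hN eL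
    rcases k.dich hS _ sπ hπ with hB | ⟨ψ, h1, h2⟩
    · rcases ha with ha | ha
      · exact .inl ((k.caseB ha hB).elim fun _ hs => k.sym8 ha hs hS)
      · obtain ⟨N, -, -, a, -, -, b⟩ := (k.cw ha hB).elim fun _ c => c.main
        exact .inr ⟨N, a, b⟩
    · rcases ha with ha | ha
      · exact .inl ((k.caseA (.inl rfl) ha ψ h1 h2).2.elim fun _ hs => k.sym8 ha hs hS)
      · exact absurd (k.caseA (.inr rfl) ha ψ h1 h2).1 (by decide +kernel)
  refine key.imp_right fun ⟨N, ⟨φ⟩, hN⟩ => ?_
  obtain ⟨e⟩ := h.iso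
  have pf : ∀ {Y : Type} [Group Y] (f : A →* Y), (∀ a b, f a * f b = f b * f a) → ∀ a, f a = 1 :=
    fun f hf a => by
      have : commutator A ≤ f.ker := commutator_le.2 fun a _ b _ => by
        rw [MonoidHom.mem_ker, map_commutatorElement, commutatorElement_eq_one_iff_mul_comm, hf]
      refine this (?_ : a ∈ _)
      rcases e.isSimpleGroup.eq_bot_or_eq_top_of_normal (commutator A) inferInstance with b | b
      · exfalso
        have := mem_bot.1 (b.le (commutator_mem_commutator (mem_top ⟨s, h.sA⟩) (mem_top ⟨j, h.jA⟩)))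
        have := commutatorElement_eq_one_iff_mul_comm.1 this
        exact h.ji (by rw [← h.sj, show s * j = j * s from congrArg Subtype.val this, mul_inv_cancel_right])
      · exact b.ge (mem_top a)
  have sq : ∀ x : A, ∃ a b : A, x = a ^ 2 * b ^ 2 := fun x => by
    obtain ⟨a, b, c⟩ := (by decide +kernel : ∀ x : alternatingGroup (Fin 5), ∃ a b, x = a ^ 2 * b ^ 2) (e x)
    exact ⟨e.symm a, e.symm b, e.injective (by simpa using c)⟩
  have gN : ∀ (g : X) (x : A), g * x * g⁻¹ ∈ N := fun g x => by
    obtain ⟨a, b, rfl⟩ := sq x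
    rw [coe_mul, ← conj_mul, coe_pow, coe_pow, ← conj_pow, ← conj_pow]
    exact mul_mem (hN _) (hN _)
  let ι : X → A →* N := fun g => ((MulAut.conj g).toMonoidHom.comp A.subtype).codRestrict _ (gN g)
  have zN : z ∈ N := by
    have := hN (z ^ 2)
    rwa [← pow_mul, pow_succ z 3, h.zz, one_mul] at this
  have a5 : ∀ y : alternatingGroup (Fin 5), y ^ 3 = 1 → y ≠ 1 → ∀ a, a * y = y * a → ∀ b, b * y = y * b →
      a * b = b * a := by decide +kernel
  have tr : ∀ (g : X) (p : N →* alternatingGroup (Fin 5)) (y : N), y ^ 3 = 1 → p y ≠ 1 →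
      (∀ a, ι g a * y = y * ι g a) → ∀ a, p (ι g a) = 1 := fun g p y y3 y1 hy =>
    pf (p.comp (ι g)) fun a b => a5 (p y) (by rw [← map_pow, y3, map_one]) y1 _
      (by simpa using congrArg p (hy a)) _ (by simpa using congrArg p (hy b))
  have fin : ∀ p q : N →* alternatingGroup (Fin 5), (∀ x y, p x = p y → q x = q y → x = y) →
      p ⟨z, zN⟩ ≠ 1 → ∀ a ∈ A, ∀ b ∈ A, Commute a (v * b * v⁻¹) := fun p q pq p1 a ha b hb => by
    have t1 := tr 1 p ⟨z, zN⟩ (Subtype.ext h.zz) p1 fun a => Subtype.ext (by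
      simpa [ι] using mem_centralizer_singleton_iff.1 (h.Az a.2))
    have t2 := tr v q (ι 1 ⟨j, h.jA⟩) (Subtype.ext (by simpa [ι] using h.jj))
      (fun b => h.j1 (by simpa [ι] using congrArg Subtype.val (pq _ 1 ((t1 _).trans (map_one p).symm)
        (b.trans (map_one q).symm)))) fun a => Subtype.ext (by
      have := mem_centralizer_singleton_iff.1 (h.Az a.2)
      show v * a * v⁻¹ * (1 * j * 1⁻¹) = 1 * j * 1⁻¹ * (v * a * v⁻¹)
      rw [one_mul, inv_one, mul_one, ← h.vz, conj_mul, conj_mul, this])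
    have := pq (ι 1 ⟨a, ha⟩ * ι v ⟨b, hb⟩) (ι v ⟨b, hb⟩ * ι 1 ⟨a, ha⟩)
      (by simp only [map_mul, t1, one_mul, mul_one]) (by simp only [map_mul, t2, one_mul, mul_one])
    simpa [ι, Commute, SemiconjBy] using congrArg Subtype.val this
  let p := (MonoidHom.fst _ _).comp φ.toMonoidHom
  let q := (MonoidHom.snd _ _).comp φ.toMonoidHom
  have pq : ∀ x y, p x = p y → q x = q y → x = y := fun x y a b => φ.injective (Prod.ext a b)
  by_cases a : p ⟨z, zN⟩ = 1
  · exact fin q p (fun x y a b => pq x y b a) fun b => h.z1 (congrArg Subtype.val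
      (pq _ 1 (a.trans (map_one p).symm) (b.trans (map_one q).symm)))
  · exact fin p q pq a

local instance kb_five : Fact (Nat.Prime 5) := ⟨Nat.prime_five⟩

theorem five_ex : ∃ a : ZMod 5, a ≠ 0 ∧ a ^ 2 ≠ 1 := by decide

theorem KD.s8 {K : Type*} [Group K] [Finite K] {t z j s v : K} {A : Subgroup K} (h : KD t z j s v A)
    [(zpowers t).Normal] {c : K} (hc : c * c = t) (cz : Commute c z) (cj : Commute c j) (cs : ¬ Commute c s)
    (hC : centralizer (closure {z, j} : Subgroup K) ≤ closure {z, j} ⊔ zpowers c) :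
    Nonempty (K ⧸ zpowers t ≃* Equiv.Perm (Fin 8)) := by
  let π := QuotientGroup.mk' (zpowers t)
  have sπ : Function.Surjective π := QuotientGroup.mk'_surjective _
  have tt : t * t = 1 := by rw [← pow_two, ← h.t2, pow_orderOf_eq_one]
  have t1 : t ≠ 1 := fun e => by simpa [e] using h.t2
  have πt : π t = 1 := (QuotientGroup.eq_one_iff _).2 (mem_zpowers t)
  have k1 : ∀ x, π x = 1 → x = 1 ∨ x = t := fun x e => by
    obtain ⟨n, rfl⟩ := (QuotientGroup.eq_one_iff _).1 e
    have t2 : t ^ (2 : ℤ) = 1 := by rw [zpow_two, tt]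
    rcases Int.even_or_odd' n with ⟨k, rfl | rfl⟩
    · left; simp only; rw [zpow_mul, t2, one_zpow]
    · right; simp only; rw [zpow_add, zpow_mul, t2, one_zpow, one_mul, zpow_one]
  have l3 : ∀ {a b : K}, a ^ 3 = 1 → b ^ 3 = 1 → π a = π b → a = b := fun {a b} a3 b3 e => by
    rcases k1 (a * b⁻¹) (by rw [map_mul, map_inv, e, mul_inv_cancel]) with d | d
    · exact mul_inv_eq_one.1 d
    · rw [mul_inv_eq_iff_eq_mul.1 d, (show Commute t b from (h.tc b).symm).mul_pow, b3, mul_one] at a3
      exact absurd (eq_one_23 tt a3) t1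
  have zz : z ^ 3 = 1 := h.z3 ▸ pow_orderOf_eq_one z
  have c3 : ∀ {a : K} (g : K), a ^ 3 = 1 → (g * a * g⁻¹) ^ 3 = 1 := fun g a3 => by
    rw [conj_pow, a3, mul_one, mul_inv_cancel]
  have jj : j ^ 3 = 1 := h.vz ▸ c3 v zz
  have yy : (z * j) ^ 3 = 1 := by rw [h.zj.mul_pow, zz, jj, mul_one]
  have zl : ∀ {a b : K}, a ^ 3 = 1 → b ^ 3 = 1 → π b ∈ zpowers (π a) → b ∈ zpowers a := by
    rintro a b a3 b3 ⟨n, e⟩
    exact ⟨n, l3 (by rw [← zpow_natCast, ← zpow_mul, mul_comm, zpow_mul, zpow_natCast, a3, one_zpow]) b3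
      ((map_zpow π a n).trans e)⟩
  have nl : ∀ {a g : K}, a ^ 3 = 1 → π g ∈ normalizer (zpowers (π a) : Set _) →
      g ∈ normalizer (zpowers a : Set K) := fun {a g} a3 e => mem_normalizer_of_cj_le (cj_zpowers_le.2
    (zl a3 (c3 g a3) (by simpa using conj_mem_of_mem_normalizer e (mem_zpowers _))))
  have mD : (closure {z, j}).map π = closure {π z, π j} := by rw [MonoidHom.map_closure, Set.image_pair]
  obtain ⟨e⟩ := h.iso
  have pA : ⁅A, A⁆ = A := by
    have h1 : commutator A = ⊤ := by
      have := congrArg (Subgroup.map e.symm.toMonoidHom)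
        (Linear.sl_commutator_eq_top (ι := Fin 2) (F := ZMod 5) (.inr five_ex))
      rwa [map_commutator_eq, MonoidHom.range_eq_top.2 e.symm.surjective,
        map_top_of_surjective _ e.symm.surjective] at this
    rw [← map_subtype_commutator, h1, ← MonoidHom.range_eq_map, range_subtype]
  have cen : ∀ B : Subgroup K, (∀ b ∈ B, ∀ a ∈ A, Commute (π b) (π a)) → ∀ a ∈ A, ∀ b ∈ B, Commute a b :=
    fun B hB a ha b hb => by
      have h1 : ⁅B, A⁆ ≤ center K := commutator_le.2 fun b hb a ha => by
        rcases k1 ⁅b, a⁆ (by rw [map_commutatorElement, (hB b hb a ha).commutator_eq]) with e | e <;> rw [e]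
        exacts [one_mem _, mem_center_iff.2 h.tc]
      have h2 := Layer.commutator_eq_bot_of_perfect pA (N := B) (commutator_eq_bot_iff_le_centralizer.2
        (h1.trans (center_le_centralizer _)))
      exact commutatorElement_eq_one_iff_commute.1 (mem_bot.1 (h2 ▸ commutator_mem_commutator ha hb))
  have tA : t ∈ A := h.ss ▸ mul_mem h.sA h.sA
  have X : XD (π z) (π j) (π s) (π v) (π c) (A.map π) :=
    { z3 := by
        have := Fact.mk Nat.prime_three
        exact orderOf_eq_prime (by rw [← map_pow, zz, map_one]) fun e => by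
          simpa [l3 zz (one_pow 3) (e.trans (map_one π).symm)] using h.z3
      zj := h.zj.map π
      jz := fun e => h.jz (zl zz jj e)
      vz := by rw [← h.vz]; simp
      vv := by rw [← map_mul, h.vv, map_one]
      sz := h.sz.map π
      sj := by simpa using congrArg π h.sj
      ss := by rw [← map_mul, h.ss, πt]
      st := commutatorElement_eq_one_iff_commute.1 (by
        simpa [map_commutatorElement] using (congrArg π h.st).trans πt)
      syl := fun e => h.syl (e.trans (card_quotient_dvd_card _))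
      iso := by
        obtain ⟨f⟩ := Linear.psl2_five_equiv (F := ZMod 5) (Nat.card_zmod 5)
        let θ := (QuotientGroup.mk' (center (Matrix.SpecialLinearGroup (Fin 2) (ZMod 5)))).comp e.toMonoidHom
        have sθ : Function.Surjective θ := (QuotientGroup.mk'_surjective _).comp e.surjective
        have hk : (π.subgroupMap A).ker = θ.ker := by
          refine eq_of_le_of_card_ge (fun a ha => ?_) ?_
          · refine (QuotientGroup.eq_one_iff (e a)).2 (mem_center_iff.2 fun g => ?_)
            obtain ⟨g, rfl⟩ := e.surjective g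
            rw [← map_mul, ← map_mul]
            refine congrArg e (Subtype.ext ?_)
            rcases k1 a (congrArg Subtype.val ha) with d | d <;> simp [d, h.tc]
          · have h1 : θ.ker = (center _).comap e.toMonoidHom := by
              rw [← MonoidHom.comap_ker, QuotientGroup.ker_mk']
            have h2 : zpowers (⟨t, tA⟩ : A) ≤ (π.subgroupMap A).ker := zpowers_le.2 (Subtype.ext πt)
            have h3 := card_le_of_le h2
            rw [Nat.card_zpowers, ← orderOf_coe, h.t2] at h3
            rw [h1, comap_equiv_eq_map_symm', card_map_of_injective e.symm.injective, Linear.card_center_SL]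
            simpa using h3
        exact ⟨((QuotientGroup.quotientKerEquivOfSurjective _ (π.subgroupMap_surjective A)).symm.trans
          ((QuotientGroup.quotientMulEquivOfEq hk).trans
            (QuotientGroup.quotientKerEquivOfSurjective _ sθ))).trans f⟩
      jA := mem_map_of_mem π h.jA
      sA := mem_map_of_mem π h.sA
      Az := by
        rintro _ ⟨a, ha, rfl⟩
        rw [mem_centralizer_singleton_iff, ← map_mul, mem_centralizer_singleton_iff.1 (h.Az ha), map_mul]
      An := fun g hg => by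
        obtain ⟨g, rfl⟩ := sπ g
        exact le_normalizer_map π (mem_map_of_mem π (h.An (nl zz hg)))
      nc := fun e => by
        obtain ⟨g, e⟩ := isConj_iff.1 e
        obtain ⟨g, rfl⟩ := sπ g
        exact h.nc (isConj_iff.2 ⟨g, l3 (c3 g zz) yy (by simpa using e)⟩)
      Ny := fun g hg => by
        obtain ⟨g, rfl⟩ := sπ g
        rw [← mD]
        exact le_normalizer_map π (mem_map_of_mem π (h.Ny (nl yy (by rwa [map_mul]))))
      cc := by rw [← map_mul, hc, πt]
      cz := cz.map π
      cj := cj.map π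
      cA := fun e => cs (cen (zpowers c) (by
        rintro _ ⟨n, rfl⟩ a ha
        exact (map_zpow π c n).symm ▸ Commute.zpow_left (e _ (mem_map_of_mem π ha)).symm n)
        s h.sA c (mem_zpowers c)).symm
      hC := fun g hg => by
        obtain ⟨g, rfl⟩ := sπ g
        rw [← mD, ← MonoidHom.map_zpowers, ← Subgroup.map_sup]
        refine mem_map_of_mem π (hC (XD.cenD (l3 (c3 g zz) zz ?_) (l3 (c3 g jj) jj ?_)))
        · rw [map_mul, map_mul, ← hg _ XD.zD, map_inv, mul_inv_cancel_right]
        · rw [map_mul, map_mul, ← hg _ XD.jD, map_inv, mul_inv_cancel_right] }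
  refine X.main.resolve_right fun H => t1 ?_
  rw [← h.st, (cen (Transfer.cj v A) (fun b hb a ha => ?_) s h.sA _ (conj_mem_cj.2 h.sA)).commutator_eq]
  have := H _ (mem_map_of_mem π ha) _ (mem_map_of_mem π (mem_cj.1 hb))
  simpa [mul_assoc] using this.symm

end Cfsg.Lib.Mc3
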