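import Cfsg.Agent.Lib.Mc3.KC0
import Cfsg.Agent.S2073

/-! From the involution centraliser `2.A₈` or `2.S₈` to the McLaughlin group or its automorphism group. -/

set_option autoImplicit false

namespace Cfsg.Lib.Mc3

open Subgroup Equiv Cfsg.Lib.Amalg
open scoped commutatorElement

universe u

section K

variable {K : Type*} [Group K] {T z j s v c : K} {A : Subgroup K} (h : KD T z j s v A)
include h

theorem KD.cTT : T * T = 1 := by rw [← sq, ← h.t2, pow_orderOf_eq_one]

theorem KD.cT1 : T ≠ 1 := fun e => by simpa [e] using h.t2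

theorem KD.cst : s * (v * s * v⁻¹) = T * ((v * s * v⁻¹) * s) := by
  rw [← h.st, commutatorElement_def]; group

theorem KD.cuu : s * (v * s * v⁻¹) * (s * (v * s * v⁻¹)) = T := by
  have e : v * s * v⁻¹ * (v * s * v⁻¹) = T := by rw [conj_mul, h.ss, h.tc, mul_inv_cancel_right]
  calc s * (v * s * v⁻¹) * (s * (v * s * v⁻¹)) = T * ((v * s * v⁻¹) * s) * (s * (v * s * v⁻¹)) := by rw [← h.cst]
    _ = T * ((v * s * v⁻¹) * (s * s)) * (v * s * v⁻¹) := by group
    _ = T * T * ((v * s * v⁻¹) * (v * s * v⁻¹)) := by rw [h.ss, h.tc (v * s * v⁻¹)]; group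
    _ = T := by rw [h.cTT, e, one_mul]

theorem KD.cvT : IsConj v (v * T) := by
  have vi : v⁻¹ = v := inv_eq_of_mul_eq_one_left h.vv
  refine isConj_iff.2 ⟨s * (v * s * v⁻¹), mul_inv_eq_iff_eq_mul.2 ?_⟩
  calc s * (v * s * v⁻¹) * v = T * ((v * s * v⁻¹) * s) * v := by rw [← h.cst]
    _ = (T * v) * (s * (v⁻¹ * s * v)) := by group
    _ = v * T * (s * (v * s * v⁻¹)) := by rw [← h.tc, vi]

theorem KD.cvz : ¬ Commute v z := fun e => h.jz (by rw [← h.vz, e.eq, mul_inv_cancel_right]; exact mem_zpowers z)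

theorem KD.cv1 : v ≠ 1 := fun e => h.cvz (e ▸ Commute.one_left z)

theorem KD.cv2 : v ≠ T := fun e => h.cvz (by rw [e]; exact (h.tc z).symm)

theorem KD.ker {X : Type*} [Group X] [(zpowers T).Normal] (e : K ⧸ zpowers T ≃* X) :
    ∃ f : K →* X, Function.Surjective f ∧ ∀ x, f x = 1 ↔ x = 1 ∨ x = T := by
  refine ⟨(e : K ⧸ zpowers T →* X).comp (QuotientGroup.mk' (zpowers T)), e.surjective.comp (QuotientGroup.mk'_surjective _), fun x => ?_⟩
  rw [MonoidHom.comp_apply, MonoidHom.coe_coe, map_eq_one_iff _ e.injective, QuotientGroup.mk'_apply,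
    QuotientGroup.eq_one_iff]
  constructor
  · rintro ⟨k, rfl⟩
    rcases Int.even_or_odd' k with ⟨m, rfl | rfl⟩
    · left; show T ^ (2 * m) = 1; rw [zpow_mul, zpow_two, h.cTT, one_zpow]
    · right; show T ^ (2 * m + 1) = T; rw [zpow_add_one, zpow_mul, zpow_two, h.cTT, one_zpow, one_mul]
  · rintro (rfl | rfl)
    · exact one_mem _
    · exact mem_zpowers _

variable {f : K →* Perm (Fin 8)} (hs : Function.Surjective f) (hk : ∀ x, f x = 1 ↔ x = 1 ∨ x = T)
include hk

theorem KD.nine (hc : c * c = T) (cz : Commute c z) (cJ : Commute c j) :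
    (f c).cycleType.card = 1 ∧ Perm.sign (f c) = -1 := by
  have : Fact (Nat.Prime 3) := ⟨Nat.prime_three⟩
  have fT : f T = 1 := (hk T).2 (Or.inr rfl)
  have z3 : z ^ 3 = 1 := h.z3 ▸ pow_orderOf_eq_one z
  have j3 : j ^ 3 = 1 := by rw [← h.vz, conj_pow, z3]; simp
  have n3 : ∀ x, x ^ 3 = 1 → f x = 1 → x = 1 := fun x e k => ((hk x).1 k).resolve_right fun k => h.cT1 (by
    rwa [k, pow_succ, sq, h.cTT, one_mul] at e)
  have oz : orderOf (f z) = 3 := orderOf_eq_prime (by rw [← map_pow, z3, map_one]) fun e => by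
    simpa [n3 z z3 e] using h.z3
  have cm : Commute (f z) (f j) := h.zj.map f
  have hP : IsPGroup 3 (zpowers (f z) ⊔ zpowers (f j) : Subgroup (Perm (Fin 8))) :=
    (isPGroup_zpowers_of_pow (k := 1) (by rw [pow_one, ← map_pow, z3, map_one])).to_sup_of_normal_left'
      (isPGroup_zpowers_of_pow (k := 1) (by rw [pow_one, ← map_pow, j3, map_one]))
      ((zpowers_le_of_mem (mem_centralizer_iff.2 (by rintro _ ⟨k, rfl⟩; exact (cm.zpow_left k).eq))).trans
        (centralizer_le_normalizer _))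
  obtain ⟨k, e⟩ := IsPGroup.iff_card.1 hP
  have k2 : 2 ≤ k := by
    by_contra hk2
    have e1 : zpowers (f z) = zpowers (f z) ⊔ zpowers (f j) := eq_of_le_of_card_ge le_sup_left (by
      rw [e, Nat.card_zpowers, oz]
      have : k = 0 ∨ k = 1 := by omega
      rcases this with rfl | rfl <;> simp)
    obtain ⟨m, hm⟩ : f j ∈ zpowers (f z) := e1 ▸ mem_sup_right (mem_zpowers _)
    have := n3 (j⁻¹ * z ^ m) (by
      rw [((h.zj.zpow_left m).symm.inv_left).mul_pow, inv_pow, j3, ← zpow_natCast, ← zpow_mul, mul_comm m, zpow_mul,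
        zpow_natCast, z3]; simp) (by rw [map_mul, map_inv, map_zpow, ← hm, inv_mul_cancel])
    exact h.jz ⟨m, (inv_mul_eq_one.1 this).symm⟩
  have d : 9 ∣ Nat.card (centralizer ({f c} : Set (Perm (Fin 8)))) :=
    (show 3 ^ 2 ∣ _ from e ▸ pow_dvd_pow 3 k2).trans (card_dvd_of_le (sup_le
      (zpowers_le_of_mem (mem_centralizer_singleton_iff.2 (cz.symm.map f).eq))
      (zpowers_le_of_mem (mem_centralizer_singleton_iff.2 (cJ.symm.map f).eq))))
  have n : f c ≠ 1 := fun e => by
    rcases (hk c).1 e with k | k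
    · exact h.cT1 (by rw [← hc, k, one_mul])
    · exact h.cT1 (by rw [← hc, k, h.cTT])
  rcases inv8 (σ := f c) (by rw [← map_mul, hc, fT]) n with ⟨a, b, -⟩ | ⟨-, -, e⟩ | ⟨-, -, e⟩ | ⟨-, -, e⟩
  · exact ⟨a, b⟩
  all_goals (rw [e] at d; omega)

omit hk h in
theorem sign_u : Perm.sign (f (s * (v * s * v⁻¹))) = 1 := by
  simp only [map_mul, map_inv]
  rw [mul_inv_cancel_comm, Int.units_mul_self]

include hs

theorem KD.evenv (hc : c * c = T) (cz : Commute c z) (cJ : Commute c j) (cu : Commute c (s * (v * s * v⁻¹)))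
    (hn : ¬ IsConj (c * (s * (v * s * v⁻¹))) v) {x : K} (hx : x * x = 1) (n : f x ≠ 1) (sx : Perm.sign (f x) = 1) :
    IsConj x v := by
  have fT : f T = 1 := (hk T).2 (Or.inr rfl)
  obtain ⟨c1, sc⟩ := h.nine hk hc cz cJ
  have su := sign_u (f := f) (s := s) (v := v)
  have uu := h.cuu
  generalize s * (v * s * v⁻¹) = u at *
  have sq : ∀ {y : K}, y * y = 1 → f y * f y = 1 := fun e => by rw [← map_mul, e, map_one]
  have sq' : ∀ {y : K}, y * y = T → f y * f y = 1 := fun e => by rw [← map_mul, e, fT]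
  have ii : c * u * (c * u) = 1 := by rw [← pow_two, cu.mul_pow, pow_two, pow_two, hc, uu, h.cTT]
  have nc : ∀ {y w : K}, y * y = 1 → w * w = T → (f y).cycleType.card ≠ (f w).cycleType.card := fun a b e =>
    h.cT1 (b ▸ sq8 hs hk h.tc h.cTT (conj8 (sq a) (sq' b) e) a)
  have cv : ∀ {y : K}, y * y = 1 → (f y).cycleType.card = (f v).cycleType.card → IsConj y v := fun a e =>
    (lift8 hs hk (conj8 (sq a) (sq h.vv) e)).elim id fun k => k.trans h.cvT.symm
  have si : Perm.sign (f (c * u)) = -1 := by rw [map_mul, map_mul, sc, su, mul_one]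
  have nv : f v ≠ 1 := fun e => ((hk v).1 e).elim h.cv1 h.cv2
  have nu : f u ≠ 1 := fun e => by
    rcases (hk u).1 e with k | k
    · exact h.cT1 (by rw [← uu, k, one_mul])
    · exact h.cT1 (by rw [← uu, k, h.cTT])
  have ni : f (c * u) ≠ 1 := fun e => by rw [e] at si; simp at si
  have a1 := nc ii hc
  have a2 := nc h.vv hc
  have a3 := nc h.vv uu
  have a4 := nc hx uu
  have a5 : (f (c * u)).cycleType.card ≠ (f v).cycleType.card := fun e => hn (cv ii e)
  refine cv hx ?_
  have b1 : (f (c * u)).cycleType.card = 1 ∨ (f (c * u)).cycleType.card = 3 := by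
    rcases inv8 (sq ii) ni with ⟨a, b, -⟩ | ⟨a, b, -⟩ | ⟨a, b, -⟩ | ⟨a, b, -⟩ <;> simp_all
  have b2 : (f u).cycleType.card = 2 ∨ (f u).cycleType.card = 4 := by
    rcases inv8 (sq' uu) nu with ⟨a, b, -⟩ | ⟨a, b, -⟩ | ⟨a, b, -⟩ | ⟨a, b, -⟩ <;> simp_all
  have b3 : (f x).cycleType.card = 2 ∨ (f x).cycleType.card = 4 := by
    rcases inv8 (sq hx) n with ⟨a, b, -⟩ | ⟨a, b, -⟩ | ⟨a, b, -⟩ | ⟨a, b, -⟩ <;> simp_all
  rcases inv8 (sq h.vv) nv with ⟨a, -⟩ | ⟨a, -⟩ | ⟨a, -⟩ | ⟨a, -⟩ <;> omega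

end K

variable {G : Type u} [Group G] [Finite G] {t : G} {T z j s v c : centralizer ({t} : Set G)}
  {A : Subgroup (centralizer ({t} : Set G))}

theorem fin_a (h34 : S34.{u}) (hT : T.1 = t) (h : KD T z j s v A) [(zpowers T).Normal] (hv : IsConj t v.1)
    (e : centralizer ({t} : Set G) ⧸ zpowers T ≃* alternatingGroup (Fin 8)) : Nonempty (G ≃* Spor.McL) := by
  obtain ⟨f, hs, hk⟩ := h.ker e
  exact (mcl_of h34 (by rw [← hT, Subgroup.orderOf_coe, h.t2]) f hs
    (fun x => by rw [hk, Subtype.ext_iff, Subtype.ext_iff, hT]; rfl) ((congrArg Subtype.val h.cuu).trans hT) hv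
    (mem_centralizer_singleton_iff.1 v.2) fun k => h.cv2 (Subtype.ext (k.trans hT.symm))).1

theorem aut_of {G₀ : Subgroup G} (h2 : G₀.index = 2) (e : G₀ ≃* Spor.McL) (hz : center G₀ = ⊥)
    (hc : centralizer (G₀ : Set G) ≤ G₀) : Nonempty (G ≃* MulAut Spor.McL) := by
  have := normal_of_index_eq_two h2
  have : Finite Spor.McL := Finite.of_equiv _ e.toEquiv
  have i1 : Function.Injective (MulAut.conj : Spor.McL →* MulAut Spor.McL) := (injective_iff_map_eq_one _).2 fun x hx => by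
    have : e.symm x ∈ center G₀ := mem_center_iff.2 fun y => e.injective (by
      have := DFunLike.congr_fun hx (e y)
      rw [MulAut.conj_apply, MulAut.one_apply, mul_inv_eq_iff_eq_mul] at this
      rw [map_mul, map_mul, e.apply_symm_apply, this])
    rwa [hz, mem_bot, map_eq_one_iff _ e.symm.injective] at this
  have i2 : Function.Injective (MulAut.conjNormal : G →* MulAut G₀) := (injective_iff_map_eq_one _).2 fun x hx => by
    have k : ∀ y : G₀, y.1 * x = x * y.1 := fun y => by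
      have := congrArg Subtype.val (DFunLike.congr_fun hx y)
      rw [MulAut.conjNormal_apply, MulAut.one_apply, mul_inv_eq_iff_eq_mul] at this
      exact this.symm
    have : (⟨x, hc (mem_centralizer_iff.2 fun y hy => k ⟨y, hy⟩)⟩ : G₀) ∈ center G₀ :=
      mem_center_iff.2 fun y => Subtype.ext (k y)
    rw [hz, mem_bot] at this
    exact congrArg Subtype.val this
  refine ⟨MulEquiv.ofBijective (((MulAut.congr e : MulAut G₀ ≃* MulAut Spor.McL) : MulAut G₀ →* MulAut Spor.McL).comp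
    MulAut.conjNormal) ((Nat.bijective_iff_injective_and_card _).2 ⟨(MulAut.congr e).injective.comp i2, ?_⟩)⟩
  rw [card_eq_card_quotient_mul_card_subgroup (Inn Spor.McL), Cfsg.Agent.S2073.result,
    ← Nat.card_congr (MonoidHom.ofInjective i1).toEquiv, ← Nat.card_congr e.toEquiv, ← G₀.index_mul_card, h2]

theorem fin_b (h34 : S34.{u}) (hT : T.1 = t) (h : KD T z j s v A) [(zpowers T).Normal] (hv : IsConj t v.1)
    (hc : c * c = T) (cz : Commute c z) (cJ : Commute c j) (cu : Commute c (s * (v * s * v⁻¹)))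
    (e : centralizer ({t} : Set G) ⧸ zpowers T ≃* Perm (Fin 8)) (hn : ¬ IsConj t (c * (s * (v * s * v⁻¹))).1)
    {J : Subgroup G} (hJ : IsPGroup 3 J) (hJc : centralizer (J : Set G) ≤ J) : Nonempty (G ≃* MulAut Spor.McL) := by
  have : Fact (Nat.Prime 2) := ⟨Nat.prime_two⟩
  obtain ⟨f, hs, hk⟩ := h.ker e
  have ht : orderOf t = 2 := by rw [← hT, Subgroup.orderOf_coe, h.t2]
  have t1 : t ≠ 1 := fun e => by simp [e] at ht
  have tt : t * t = 1 := by rw [← sq, ← ht, pow_orderOf_eq_one]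
  have fT : f T = 1 := (hk T).2 (Or.inr rfl)
  have up : ∀ {x y : centralizer ({t} : Set G)}, IsConj x y → IsConj x.1 y.1 := fun k =>
    (centralizer ({t} : Set G)).subtype.map_isConj k
  have ev := fun x hx n sx => h.evenv hs hk hc cz cJ cu (fun k => hn (hv.trans (up k).symm)) (x := x) hx n sx
  have sc := (h.nine hk hc cz cJ).2
  have su := sign_u (f := f) (s := s) (v := v)
  have uu := h.cuu
  generalize s * (v * s * v⁻¹) = u at *
  have ii : c * u * (c * u) = 1 := by rw [← pow_two, cu.mul_pow, pow_two, pow_two, hc, uu, h.cTT]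
  have si : Perm.sign (f (c * u)) = -1 := by rw [map_mul, map_mul, sc, su, mul_one]
  generalize c * u = ι at *
  have i1 : ι.1 ≠ 1 := fun e => by rw [show ι = 1 from Subtype.ext e] at si; simp at si
  have odd : Odd (centralizer ({t} : Set G)).index := by
    obtain ⟨P⟩ : Nonempty (Sylow 2 (centralizer ({t} : Set G))) := inferInstance
    have hP := syl_of_sylow P
    have := hP.of_normalizer_le (H := ⊤) le_top ?_
    · exact Nat.not_even_iff_odd.1 fun k => this.not_dvd_index ((even_iff_two_dvd.1 k).trans (index_dvd_of_le hP.le))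
    rintro g ⟨-, hg⟩
    have tP := hP.mem_of_mem_normalizer (x := t) (k := 1) (by rw [pow_one, sq, tt]) (mem_centralizer_singleton_iff.2 rfl)
      (centralizer_le_normalizer _ (mem_centralizer_iff.2 fun y hy => mem_centralizer_singleton_iff.1 (hP.le hy)))
    obtain ⟨x, -, ex⟩ := (mem_normalizer_iff.1 hg t).1 tP
    have ex' : x.1 = g * t * g⁻¹ := ex
    have xx : x * x = 1 := Subtype.ext (by rw [coe_mul, ex', conj_mul, tt]; simp)
    have cx : (P : Subgroup _) ≤ centralizer {x} := fun y hy => mem_centralizer_singleton_iff.2 (Subtype.ext (by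
      have := mem_centralizer_singleton_iff.1 (hP.le ((mem_normalizer_iff.1 (inv_mem hg) y.1).1 ⟨y, hy, rfl⟩))
      rw [coe_mul, coe_mul, ex']
      calc y.1 * (g * t * g⁻¹) = g * (g⁻¹ * y.1 * g⁻¹⁻¹ * t) * g⁻¹ := by group
        _ = _ := by rw [this]; group))
    by_cases n : f x = 1
    · rcases (hk x).1 n with k | k
      · rw [k] at ex'; exact absurd (by simpa using ex'.symm) t1
      · rw [k, hT] at ex'; exact mem_centralizer_singleton_iff.2 (mul_inv_eq_iff_eq_mul.1 ex'.symm)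
    · refine absurd ((even8 hs hk xx n h.cT1 fun sx => (ev x xx n sx).trans (ev (x * T) ?_ ?_ ?_).symm).trans
        (index_dvd_of_le cx)) P.not_dvd_index
      · rw [mul_assoc, ← mul_assoc T, ← h.tc x, mul_assoc x T, h.cTT, mul_one, xx]
      · rwa [map_mul, fT, mul_one]
      · rwa [map_mul, fT, mul_one]
  obtain ⟨G₀, h2, hι⟩ := Invol.thompson_transfer (M := ((alternatingGroup (Fin 8)).comap f).map (Subgroup.subtype _)) odd
    (by rw [relIndex, subgroupOf, comap_map_eq_self_of_injective (subtype_injective _), index_comap_of_surjective _ hs,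
      alternatingGroup.index_eq_two])
    (t := ι.1) (orderOf_eq_prime (by rw [sq, ← coe_mul, ii, coe_one]) i1) (by
      rintro g ⟨x, hx, ex⟩
      have ex' : x.1 = g * ι.1 * g⁻¹ := ex
      have cx : IsConj ι.1 x.1 := isConj_iff.2 ⟨g, ex'.symm⟩
      by_cases n : f x = 1
      · rcases (hk x).1 n with k | k
        · rw [k] at ex'; exact absurd (by simpa using ex'.symm) i1
        · rw [k, hT] at cx; exact hn cx.symm
      · exact hn (hv.trans ((up (ev x (Subtype.ext (by rw [coe_mul, ex', conj_mul, ← coe_mul, ii]; simp)) n hx)).symm.trans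
          cx.symm)))
  have := normal_of_index_eq_two h2
  have uu' : u.1 * u.1 = t := (congrArg Subtype.val uu).trans hT
  have tG : t ∈ G₀ := uu' ▸ mul_self_mem_of_index_two h2 _
  have kl : f.ker ≤ G₀.subgroupOf (centralizer ({t} : Set G)) := fun x hx => by
    rcases (hk x).1 hx with k | k
    · rw [k]; exact one_mem _
    · rw [k, mem_subgroupOf, hT]; exact tG
  have hm : ∀ b : G, b * ι.1 ∈ G₀ ∨ b ∈ G₀ := fun b => by
    rw [mul_mem_iff_of_index_two h2]; tauto
  have key : ∀ x : centralizer ({t} : Set G), x.1 ∈ G₀ ↔ f x ∈ alternatingGroup (Fin 8) := fun x => by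
    rw [← Perm.eq_alternatingGroup_of_index_eq_two (G := (G₀.subgroupOf (centralizer ({t} : Set G))).map f) (by
      rw [index_map_eq _ hs kl]
      exact relIndex_eq_two_iff_exists_notMem_and.2 ⟨ι.1, ι.2, hι, fun b _ => hm b⟩), ← mem_comap, comap_map_eq_self kl,
      mem_subgroupOf]
  let i : centralizer ({⟨t, tG⟩} : Set G₀) →* centralizer ({t} : Set G) :=
    (G₀.subtype.comp (Subgroup.subtype _)).codRestrict _ fun x =>
      mem_centralizer_singleton_iff.2 (congrArg Subtype.val (mem_centralizer_singleton_iff.1 x.2))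
  obtain ⟨g, eg⟩ := isConj_iff.1 hv
  obtain ⟨⟨e₀⟩, hz⟩ := mcl_of h34 (G := G₀) (t := ⟨t, tG⟩) (by rw [← Subgroup.orderOf_coe]; exact ht)
    ((f.comp i).codRestrict _ fun x => (key (i x)).1 x.1.2)
    (fun y => by
      obtain ⟨x, ex⟩ := hs y.1
      exact ⟨⟨⟨x.1, (key x).2 (ex ▸ y.2)⟩, mem_centralizer_singleton_iff.2 (Subtype.ext
        (mem_centralizer_singleton_iff.1 x.2))⟩, Subtype.ext ex⟩)
    (fun x => by
      rw [Subtype.ext_iff]
      refine (hk (i x)).trans ?_
      rw [Subtype.ext_iff, Subtype.ext_iff, hT, Subtype.ext_iff, Subtype.ext_iff]; rfl)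
    (u := ⟨u.1, (key u).2 su⟩) (Subtype.ext uu') (w := ⟨v.1, eg ▸ this.conj_mem t tG g⟩)
    (by
      rcases hm g with k | k
      · refine isConj_iff.2 ⟨⟨_, k⟩, Subtype.ext ?_⟩
        show g * ι.1 * t * (g * ι.1)⁻¹ = v.1
        rw [← eg, mul_assoc g, mem_centralizer_singleton_iff.1 ι.2]; group
      · exact isConj_iff.2 ⟨⟨g, k⟩, Subtype.ext eg⟩)
    (Subtype.ext (mem_centralizer_singleton_iff.1 v.2))
    (fun k => h.cv2 (Subtype.ext ((congrArg Subtype.val k).trans hT.symm)))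
  have JG : J ≤ G₀ := fun x hx => by
    obtain ⟨k, ek⟩ := isPGroup_iff_mem.1 hJ x hx
    obtain ⟨m, em⟩ : Odd (3 ^ k) := Odd.pow (by decide)
    rw [em, pow_succ, pow_mul] at ek
    rw [eq_inv_of_mul_eq_one_right ek]
    exact inv_mem (pow_mem (sq_mem_of_index_two h2 x) m)
  exact aut_of h2 e₀ hz (((centralizer_le JG).trans hJc).trans JG)

end Cfsg.Lib.Mc3
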