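import Cfsg.Agent.Lib.Mc3.K0
import Cfsg.Agent.Lib.Amalg.Syl
import Cfsg.Agent.Lib.Invol.Transfer2
import Cfsg.Prelude.Def_CaseTheorems
import Cfsg.Prelude.Def_Spor_Conway
import Mathlib.GroupTheory.Perm.Centralizer
import Mathlib.GroupTheory.SpecificGroups.Alternating

/-! Double covers of `A₈` and `S₈` as involution centralisers: generalities. -/

set_option autoImplicit false

namespace Cfsg.Lib.Mc3

open Subgroup Equiv Cfsg.Lib.Amalg
open scoped commutatorElement

universe u

/-- The characterisation of the McLaughlin group by the centraliser `2.A₈`. -/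
def S34 : Prop := ∀ (G : Type u) [Group G] [Finite G] (t : G), orderOf t = 2 →
  IsNonsplitDoubleCover (centralizer ({t} : Set G)) (alternatingGroup (Fin 8)) →
  centralizer ({t} : Set G) ⊔ oddCore G = ⊤ ∨ Nonempty (G ≃* Spor.McL)

theorem mcl_of (h34 : S34.{u}) {G : Type u} [Group G] [Finite G] {t : G} (ht : orderOf t = 2)
    (φ : centralizer ({t} : Set G) →* alternatingGroup (Fin 8)) (hs : Function.Surjective φ)
    (hk : ∀ x, φ x = 1 ↔ x.1 = 1 ∨ x.1 = t) {u : G} (hu : u * u = t) {w : G} (hw : IsConj t w)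
    (hc : w * t = t * w) (hn : w ≠ t) : Nonempty (G ≃* Spor.McL) ∧ center G = ⊥ := by
  have t1 : t ≠ 1 := fun e => by simp [e] at ht
  have tt : t * t = 1 := by rw [← sq, ← ht, pow_orderOf_eq_one]
  let T : centralizer ({t} : Set G) := ⟨t, mem_centralizer_singleton_iff.2 rfl⟩
  have hz : center (centralizer ({t} : Set G)) = φ.ker := by
    ext x
    constructor
    · intro hx
      have : φ x ∈ center (alternatingGroup (Fin 8)) := mem_center_iff.2 fun g => by
        obtain ⟨y, rfl⟩ := hs g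
        rw [← map_mul, ← map_mul, mem_center_iff.1 hx y]
      rwa [alternatingGroup.center_eq_bot (by simp), mem_bot] at this
    · intro hx
      refine mem_center_iff.2 fun y => Subtype.ext ?_
      rcases (hk x).1 hx with e | e
      · simp [e]
      · simpa [e] using mem_centralizer_singleton_iff.1 y.2
  have hT : T ∈ φ.ker := (hk T).2 (Or.inr rfl)
  have hcard : Nat.card φ.ker = 2 := Nat.card_eq_two_iff.2 ⟨1, ⟨T, hT⟩,
    fun e => t1 (congrArg (fun x : φ.ker => x.1.1) e).symm, Set.eq_univ_of_forall fun x => by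
      rcases (hk x.1).1 x.2 with e | e
      · exact Or.inl (Subtype.ext (Subtype.ext e))
      · exact Or.inr (Subtype.ext (Subtype.ext e))⟩
  obtain ⟨g, rfl⟩ := isConj_iff.1 hw
  refine ⟨(h34 G t ht ⟨hz ▸ hcard, ⟨(QuotientGroup.quotientMulEquivOfEq hz).trans
    (QuotientGroup.quotientKerEquivOfSurjective φ hs)⟩, fun L hL => ?_⟩).resolve_left fun e => ?_, ?_⟩
  · obtain ⟨⟨a, l⟩, e⟩ := hL.2 ⟨u, mem_centralizer_singleton_iff.2 (by rw [← hu, mul_assoc])⟩
    have e1 : a.1.1 * l.1.1 = u := congrArg Subtype.val e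
    have e2 : l.1.1 * a.1.1 = a.1.1 * l.1.1 := congrArg Subtype.val (mem_center_iff.1 a.2 l.1)
    have e3 : a.1.1 * a.1.1 = 1 := by
      rcases (hk a.1).1 (show a.1 ∈ φ.ker from hz ▸ a.2) with e | e <;> simp [e, tt]
    have e4 : l.1 * l.1 = T := Subtype.ext (by
      refine (show l.1.1 * l.1.1 = u * u from ?_).trans hu
      rw [← e1, mul_assoc, ← mul_assoc l.1.1, e2, ← mul_assoc, ← mul_assoc, e3, one_mul])
    have := disjoint_def.1 hL.disjoint (x := T) (hz ▸ hT) (e4 ▸ mul_mem l.2 l.2)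
    exact t1 (congrArg Subtype.val this)
  · have hg : g ∈ (oddCore G ⊔ centralizer ({t} : Set G) : Subgroup G) := by rw [sup_comm, e]; trivial
    obtain ⟨o, ho, k, hk', rfl⟩ := mem_sup_of_normal_left.1 hg
    have e1 : o * k * t * (o * k)⁻¹ = o * t * o⁻¹ := by
      rw [mul_assoc o k, mem_centralizer_singleton_iff.1 hk']; group
    rw [e1] at hc hn
    have m : o * t * o⁻¹ * t ∈ oddCore G := by
      have := mul_mem ho ((inferInstance : (oddCore G).Normal).conj_mem _ (inv_mem ho) t)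
      rwa [inv_eq_of_mul_eq_one_left tt, ← mul_assoc, ← mul_assoc] at this
    have s2 : (o * t * o⁻¹ * t) ^ 2 = 1 := by
      rw [Commute.mul_pow hc, conj_pow, sq, tt]; simp
    have o1 := (Core.odd_card_oddCore G).of_dvd_nat (orderOf_dvd_natCard (⟨_, m⟩ : oddCore G))
    rw [← Subgroup.orderOf_coe] at o1
    have := orderOf_eq_one_iff.1 (o1.coprime_two_right.eq_one_of_dvd (orderOf_dvd_of_pow_eq_one s2))
    exact hn ((eq_inv_of_mul_eq_one_left this).trans (inv_eq_of_mul_eq_one_left tt))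
  · refine eq_bot_iff.2 fun x hx => ?_
    have h1 : (⟨x, mem_centralizer_singleton_iff.2 (mem_center_iff.1 hx t).symm⟩ : centralizer ({t} : Set G)) ∈ φ.ker :=
      hz ▸ mem_center_iff.2 fun y => Subtype.ext (mem_center_iff.1 hx y.1)
    rcases (hk _).1 h1 with e | e
    · exact e
    · have e' : x = t := e
      exact absurd (by rw [← e', mem_center_iff.1 hx g]; simp) hn

theorem inv8 {σ : Perm (Fin 8)} (h : σ * σ = 1) (n : σ ≠ 1) :
    σ.cycleType.card = 1 ∧ Perm.sign σ = -1 ∧ Nat.card (centralizer ({σ} : Set (Perm (Fin 8)))) = 1440 ∨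
    σ.cycleType.card = 2 ∧ Perm.sign σ = 1 ∧ Nat.card (centralizer ({σ} : Set (Perm (Fin 8)))) = 192 ∨
    σ.cycleType.card = 3 ∧ Perm.sign σ = -1 ∧ Nat.card (centralizer ({σ} : Set (Perm (Fin 8)))) = 96 ∨
    σ.cycleType.card = 4 ∧ Perm.sign σ = 1 ∧ Nat.card (centralizer ({σ} : Set (Perm (Fin 8)))) = 384 := by
  have h1 := Perm.cycleType_of_pow_prime_eq_one (p := 2) (σ := σ) (by rw [sq, h])
  have h2 : σ.cycleType.sum ≤ 8 := by rw [Perm.sum_cycleType]; simpa using σ.support.card_le_univ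
  have h3 : σ.cycleType.card ≠ 0 := fun e => n (Perm.card_cycleType_eq_zero.1 e)
  rw [Perm.sign_of_cycleType, Perm.nat_card_centralizer]
  generalize σ.cycleType.card = k at h1 h3 ⊢
  rw [h1] at h2 ⊢
  simp only [Multiset.sum_replicate, smul_eq_mul] at h2
  have : k = 1 ∨ k = 2 ∨ k = 3 ∨ k = 4 := by omega
  rcases this with rfl | rfl | rfl | rfl <;> decide

theorem conj8 {σ τ : Perm (Fin 8)} (h : σ * σ = 1) (h' : τ * τ = 1) (e : σ.cycleType.card = τ.cycleType.card) :
    IsConj σ τ := by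
  rw [Perm.isConj_iff_cycleType_eq, Perm.cycleType_of_pow_prime_eq_one (p := 2) (σ := σ) (by rw [sq, h]),
    Perm.cycleType_of_pow_prime_eq_one (p := 2) (σ := τ) (by rw [sq, h']), e]

section lifts

variable {K : Type*} [Group K] {T x y : K} {f : K →* Perm (Fin 8)} (hs : Function.Surjective f)
  (hk : ∀ x, f x = 1 ↔ x = 1 ∨ x = T) (tc : ∀ g, g * T = T * g) (tt : T * T = 1)
include hs hk

theorem lift8 (h : IsConj (f x) (f y)) : IsConj x y ∨ IsConj x (y * T) := by
  obtain ⟨g, e⟩ := isConj_iff.1 h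
  obtain ⟨k, rfl⟩ := hs g
  rcases (hk (y⁻¹ * (k * x * k⁻¹))).1 (by simp only [map_mul, map_inv, e, inv_mul_cancel]) with e | e
  · exact Or.inl (isConj_iff.2 ⟨k, (inv_mul_eq_one.1 e).symm⟩)
  · exact Or.inr (isConj_iff.2 ⟨k, inv_mul_eq_iff_eq_mul.1 e⟩)

include tc tt in
theorem sq8 (h : IsConj (f x) (f y)) (hx : x * x = 1) : y * y = 1 := by
  have k : ∀ w, IsConj x w → w * w = 1 := fun w hw => by
    obtain ⟨g, rfl⟩ := isConj_iff.1 hw
    rw [conj_mul, hx]; simp
  rcases lift8 hs hk h with h | h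
  · exact k _ h
  · have := k _ h
    rwa [mul_assoc, ← mul_assoc T, ← tc y, mul_assoc y T, tt, mul_one] at this

theorem even8 [Finite K] (hx : x * x = 1) (n : f x ≠ 1) (t1 : T ≠ 1) (h : Perm.sign (f x) = 1 → IsConj x (x * T)) :
    2 ∣ (centralizer ({x} : Set K)).index := by
  have fT : f T = 1 := (hk T).2 (Or.inr rfl)
  have le : centralizer ({x} : Set K) ≤ (centralizer ({f x} : Set (Perm (Fin 8)))).comap f := fun g hg => by
    rw [mem_comap, mem_centralizer_singleton_iff, ← map_mul, ← map_mul, mem_centralizer_singleton_iff.1 hg]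
  rw [← relIndex_mul_index le, index_comap_of_surjective _ hs]
  have c := (centralizer ({f x} : Set (Perm (Fin 8)))).card_mul_index
  rw [Nat.card_perm, Nat.card_fin, show Nat.factorial 8 = 40320 by decide] at c
  rcases inv8 (σ := f x) (by rw [← map_mul, hx, map_one]) n with ⟨-, -, e⟩ | ⟨-, -, e⟩ | ⟨-, -, e⟩ | ⟨-, s, -⟩
  · rw [e] at c; exact Dvd.dvd.mul_left (by omega) _
  · rw [e] at c; exact Dvd.dvd.mul_left (by omega) _
  · rw [e] at c; exact Dvd.dvd.mul_left (by omega) _
  · obtain ⟨g, e⟩ := isConj_iff.1 (h s)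
    have e' : g * x = x * T * g := mul_inv_eq_iff_eq_mul.1 e
    refine Dvd.dvd.mul_right (dvd_of_eq (relIndex_eq_two_iff_exists_notMem_and'.2 ⟨g, ?_, fun m => t1 ?_, fun b hb => ?_⟩).symm) _
    · rw [mem_comap, mem_centralizer_singleton_iff, ← map_mul, e', map_mul, map_mul, fT, mul_one]
    · rw [mem_centralizer_singleton_iff.1 m, mul_assoc] at e'
      simpa using mul_left_cancel e'
    · rw [mem_comap, mem_centralizer_singleton_iff] at hb
      rcases (hk (x⁻¹ * (b * x * b⁻¹))).1 (by simp only [map_mul, map_inv, hb]; group) with k | k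
      · exact Or.inr (mem_centralizer_singleton_iff.2 (mul_inv_eq_iff_eq_mul.1 (inv_mul_eq_one.1 k).symm))
      · have k' : b * x = x * T * b := mul_inv_eq_iff_eq_mul.1 (inv_mul_eq_iff_eq_mul.1 k)
        have tt : T * T = 1 := ((hk _).1 (by rw [map_mul, fT, mul_one])).resolve_right (by simpa using t1)
        have tc : g * T * g⁻¹ = T := ((hk _).1 (by simp [fT])).resolve_left (by simpa using t1)
        refine Or.inl (mem_centralizer_singleton_iff.2 ?_)
        rw [mul_assoc, k', ← mul_assoc, ← mul_assoc, e', mul_assoc (x * T), mul_inv_eq_iff_eq_mul.1 tc,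
          ← mul_assoc, mul_assoc x, tt, mul_one, mul_assoc]

end lifts

end Cfsg.Lib.Mc3
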