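import Cfsg.Agent.Lib.Mc3.K0
import Cfsg.Agent.Lib.Amalg.Syl
import Cfsg.Agent.Lib.Invol.Basic
import Cfsg.Agent.Lib.PGrp.OmegaBasic
import Cfsg.Agent.Lib.Linear.AutAlt
import Cfsg.Agent.Lib.Linear.PSL2Small
import Cfsg.Agent.Lib.Known.PSL2

/-! The 3-local data of `K/⟨t⟩`. -/

set_option autoImplicit false
set_option linter.unusedSectionVars false

namespace Cfsg.Lib.Mc3

open Subgroup Cfsg.Lib.Amalg Equiv

variable {X : Type*} [Group X] [Finite X] {Z J S V C W n g : X} {A : Subgroup X}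

instance f3 : Fact (Nat.Prime 3) := ⟨Nat.prime_three⟩

theorem oc (g W : X) : orderOf (g * W * g⁻¹) = orderOf W := (MulAut.conj g).orderOf_eq W
theorem cinv (g W : X) : (g * W * g⁻¹)⁻¹ = g * W⁻¹ * g⁻¹ := conj_inv
theorem p3 (h : orderOf W = 3) : W * W * W = 1 := by rw [← pow_three', ← h, pow_orderOf_eq_one]
theorem ne3 (h : orderOf W = 3) : W ≠ 1 := fun e => by rw [e] at h; simp at h
theorem ni3 (h : orderOf W = 3) : W⁻¹ ≠ W := fun e => ne3 h (by rw [← p3 h]; nth_rw 2 [← e]; simp)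
theorem zp3 (h : orderOf W = 3) (hg : g ∈ zpowers W) : g = 1 ∨ g = W ∨ g = W⁻¹ := by
  classical
  obtain ⟨i, hi, rfl⟩ := Finset.mem_image.1 (mem_zpowers_iff_mem_range_orderOf.1 hg)
  rw [h, Finset.mem_range] at hi
  interval_cases i
  exacts [.inl (pow_zero _), .inr (.inl (pow_one _)), .inr (.inr (by rw [sq]; exact eq_inv_of_mul_eq_one_left (p3 h)))]
theorem zp2 (h : W * W = 1) (hg : g ∈ zpowers W) : g = 1 ∨ g = W := by
  obtain ⟨k, rfl⟩ := hg
  obtain ⟨m, rfl | rfl⟩ := Int.even_or_odd' k <;> simp [zpow_add, zpow_mul, sq, h]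
theorem nzp (h : g * W * g⁻¹ ∈ zpowers W) : g ∈ normalizer (zpowers W : Set X) := mem_normalizer_fintype (by
  rintro _ ⟨k, rfl⟩; rw [← conj_zpow]; exact zpow_mem h k)
theorem card2 {M : Subgroup X} (h1 : g ∈ normalizer (M : Set X)) (h2 : g * g = 1) (h3 : g ∉ M) :
    Nat.card ↥(M ⊔ zpowers g) = 2 * Nat.card M :=
  haveI := Fact.mk Nat.prime_two
  PGrp.card_sup_zpowers_of_mem_normalizer h1 h3 (by rw [sq, h2]; exact one_mem _)

theorem quo {N E : Subgroup X} [(E.subgroupOf N).Normal] {Y : Type*} [Group Y] (φ : Y →* X) (h1 : ∀ y, φ y ∈ N)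
    (h2 : ∀ y, φ y ∈ E → y = 1) (h3 : ∀ n ∈ N, ∃ y, n * φ y ∈ E) : Nonempty (N ⧸ E.subgroupOf N ≃* Y) :=
  ⟨(MulEquiv.ofBijective ((QuotientGroup.mk' (E.subgroupOf N)).comp (φ.codRestrict N h1)) ⟨(injective_iff_map_eq_one _).2 fun y e =>
    h2 y ((QuotientGroup.eq_one_iff (N := E.subgroupOf N) _).1 e), fun q => by
      obtain ⟨n, rfl⟩ := QuotientGroup.mk_surjective q
      obtain ⟨y, hy⟩ := h3 _ (inv_mem n.2)
      exact ⟨y, (QuotientGroup.eq.2 (show n⁻¹ * φ.codRestrict N h1 y ∈ E.subgroupOf N from hy)).symm⟩⟩).symm⟩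

structure YD (Z J S V C : X) (A : Subgroup X) : Prop where
  z3 : orderOf Z = 3
  zj : Z * J = J * Z
  jz : J ∉ zpowers Z
  vz : V * Z * V⁻¹ = J
  vv : V * V = 1
  sz : S * Z * S⁻¹ = Z
  sj : S * J * S⁻¹ = J⁻¹
  ss : S * S = 1
  st : S * (V * S * V⁻¹) = V * S * V⁻¹ * S
  syl : ¬ 27 ∣ Nat.card X
  iso : Nonempty (A ≃* alternatingGroup (Fin 5))
  jA : J ∈ A
  sA : S ∈ A
  Az : A ≤ centralizer {Z}
  An : normalizer (zpowers Z : Set X) ≤ normalizer (A : Set X)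
  nc : ¬ IsConj Z (Z * J)
  Ny : normalizer (zpowers (Z * J) : Set X) ≤ normalizer (closure {Z, J} : Subgroup X)
  cc : C * C = 1
  cz : C * Z * C⁻¹ = Z
  cJ : C * J * C⁻¹ = J
  hC : centralizer (closure {Z, J} : Subgroup X) ≤ closure {Z, J} ⊔ zpowers C
  out : V * S * V⁻¹ ∉ centralizer (A : Set X)

abbrev DD (Z J : X) : Subgroup X := closure {Z, J}
local notation "𝕋" => V * S * V⁻¹

theorem mem_cD : g ∈ centralizer (DD Z J : Set X) ↔ g * Z * g⁻¹ = Z ∧ g * J * g⁻¹ = J := by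
  rw [centralizer_closure, mem_centralizer_iff, mul_inv_eq_iff_eq_mul, mul_inv_eq_iff_eq_mul]
  exact ⟨fun e => ⟨(e Z (by simp)).symm, (e J (by simp)).symm⟩, by rintro e _ (rfl | rfl); exacts [e.1.symm, e.2.symm]⟩
theorem zD : Z ∈ (DD Z J) := subset_closure (by simp)
theorem jD : J ∈ (DD Z J) := subset_closure (by simp)
theorem nD (h1 : g * Z * g⁻¹ ∈ (DD Z J)) (h2 : g * J * g⁻¹ ∈ (DD Z J)) : g ∈ normalizer (DD Z J : Set X) := mem_normalizer_fintype fun _ hn =>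
  (closure_le ((DD Z J).comap (MulAut.conj g).toMonoidHom)).2 (by rintro _ (rfl | rfl); exacts [h1, h2]) hn

namespace YD
variable (h : YD Z J S V C A)
include h

theorem j3 : orderOf J = 3 := by rw [← h.vz, oc, h.z3]
theorem vi : V⁻¹ = V := inv_eq_of_mul_eq_one_right h.vv
theorem vj : V * J * V⁻¹ = Z := by rw [← h.vz, h.vi, ← mul_assoc, ← mul_assoc, h.vv, one_mul, mul_assoc, h.vv, mul_one]
theorem tz : 𝕋 * Z * (𝕋)⁻¹ = Z⁻¹ := by rw [← h.vj, cinv V J, ← h.sj]; group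
theorem tj : 𝕋 * J * (𝕋)⁻¹ = J := by rw [← h.vz]; nth_rw 2 [← h.sz]; group
theorem tt : 𝕋 * (𝕋) = 1 := by rw [conj_mul, h.ss]; simp
theorem uu : S * (𝕋) * (S * (𝕋)) = 1 := by nth_rw 1 [h.st]; rw [mul_assoc, ← mul_assoc S, h.ss, one_mul, h.tt]
theorem uz : S * (𝕋) * Z * (S * (𝕋))⁻¹ = Z⁻¹ := by
  calc _ = S * (𝕋 * Z * (𝕋)⁻¹) * S⁻¹ := by group
    _ = _ := by rw [h.tz, ← cinv, h.sz]
theorem uj : S * (𝕋) * J * (S * (𝕋))⁻¹ = J⁻¹ := by
  calc _ = S * (𝕋 * J * (𝕋)⁻¹) * S⁻¹ := by group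
    _ = _ := by rw [h.tj, h.sj]
theorem jn : J ∈ normalizer (zpowers Z : Set X) := nzp (by rw [← h.zj, mul_inv_cancel_right]; exact mem_zpowers _)
theorem memD (hg : g ∈ (DD Z J)) : ∃ a ∈ zpowers Z, ∃ b ∈ zpowers J, a * b = g :=
  (mem_sup_of_le_normalizer' (zpowers_le.2 h.jn)).1 (PGrp.closure_pair_eq_sup Z J ▸ hg)
theorem cardD : Nat.card (DD Z J) = 9 := by
  rw [DD, PGrp.closure_pair_eq_sup, PGrp.card_sup_zpowers_of_mem_normalizer (p := 3) h.jn h.jz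
    (by rw [pow_three', p3 h.j3]; exact one_mem _), Nat.card_zpowers, h.z3]
theorem D_le : (DD Z J) ≤ centralizer (DD Z J : Set X) := (closure_le _).2 (by
  rintro _ (rfl | rfl)
  exacts [mem_cD.2 ⟨by simp, by rw [h.zj]; simp⟩, mem_cD.2 ⟨by rw [← h.zj]; simp, by simp⟩])
theorem expD (hg : g ∈ (DD Z J)) : g ^ 3 = 1 := by
  obtain ⟨_, ⟨a, rfl⟩, _, ⟨b, rfl⟩, rfl⟩ := h.memD hg
  rw [(Commute.zpow_zpow h.zj a b).mul_pow, ← zpow_natCast, ← zpow_natCast, ← zpow_mul, ← zpow_mul, mul_comm a, mul_comm b,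
    zpow_mul, zpow_mul, zpow_natCast, zpow_natCast, pow_three', pow_three', p3 h.z3, p3 h.j3]; simp
theorem sylD : Syl 3 (DD Z J) ⊤ := syl_of_not_dvd le_top (IsPGroup.of_card (n := 2) h.cardD) fun e => h.syl (by
  rw [← (DD Z J).card_mul_index, h.cardD, ← relIndex_top_right]; exact Nat.mul_dvd_mul_left 9 e)
theorem sN : S ∈ normalizer (DD Z J : Set X) := nD (h.sz.symm ▸ zD) (h.sj.symm ▸ inv_mem jD)
theorem vN : V ∈ normalizer (DD Z J : Set X) := nD (h.vz.symm ▸ jD) (h.vj.symm ▸ zD)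
theorem cC : C ∈ centralizer (DD Z J : Set X) := mem_cD.2 ⟨h.cz, h.cJ⟩

theorem memC (hg : g ∈ centralizer (DD Z J : Set X)) : ∃ d ∈ (DD Z J), d = g ∨ d * C = g := by
  obtain ⟨d, hd, k, hk, rfl⟩ := (mem_sup_of_le_normalizer' (zpowers_le.2 (centralizer_le_normalizer _ h.cC))).1 (h.hC hg)
  exact ⟨d, hd, (zp2 h.cc hk).imp (fun e => by rw [e, mul_one]) fun e => by rw [e]⟩

theorem one_of (hg : g ∈ (DD Z J)) (e : g * g = 1) : g = 1 := by rw [← h.expD hg, pow_three', e, one_mul]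

theorem comC (hg : g ∈ normalizer (DD Z J : Set X)) : g * C = C * g := by
  have k : g * C * g⁻¹ * (g * C * g⁻¹) = 1 := by rw [conj_mul, h.cc]; simp
  obtain ⟨d, hd, e | e⟩ := h.memC ((mem_normalizer_iff.1 (Core.normalizer_le_normalizer_centralizer _ hg) C).1 h.cC)
  · rw [← e] at k
    rw [h.one_of hd k, eq_comm, conj_eq_one_iff] at e
    simp [e]
  · rw [← e, mul_assoc, ← mul_assoc C, ← h.cC d hd, mul_assoc, h.cc, mul_one] at k
    rwa [h.one_of hd k, one_mul, eq_mul_inv_iff_mul_eq, eq_comm] at e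

theorem dec1 (h1 : n * Z * n⁻¹ ∈ zpowers Z) (h2 : n * J * n⁻¹ ∈ zpowers J) :
    ∃ w, (w = 1 ∨ w = S ∨ w = 𝕋 ∨ w = S * (𝕋)) ∧ n * w ∈ centralizer (DD Z J : Set X) := by
  have k : ∀ w a, n * w * a * (n * w)⁻¹ = n * (w * a * w⁻¹) * n⁻¹ := fun w a => by group
  rcases (zp3 h.z3 h1).resolve_left (mt conj_eq_one_iff.1 (ne3 h.z3)) with a | a <;>
    rcases (zp3 h.j3 h2).resolve_left (mt conj_eq_one_iff.1 (ne3 h.j3)) with b | b
  · exact ⟨1, by simp, mem_cD.2 (by simpa using ⟨a, b⟩)⟩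
  · exact ⟨S, by simp, mem_cD.2 ⟨by rw [k, h.sz, a], by rw [k, h.sj, ← cinv, b, inv_inv]⟩⟩
  · exact ⟨𝕋, by simp, mem_cD.2 ⟨by rw [k, h.tz, ← cinv, a, inv_inv], by rw [k, h.tj, b]⟩⟩
  · exact ⟨S * (𝕋), by simp, mem_cD.2 ⟨by rw [k, h.uz, ← cinv, a, inv_inv], by rw [k, h.uj, ← cinv, b, inv_inv]⟩⟩

theorem cls (hg : g ∈ (DD Z J)) (e : IsConj Z g) : g ∈ zpowers Z ∨ g ∈ zpowers J := by
  obtain ⟨a, ha, b, hb, rfl⟩ := h.memD hg
  have k : ∀ w a b, w * Z * w⁻¹ = a → w * J * w⁻¹ = b → ¬ IsConj Z (a * b) := fun w a b e1 e2 e =>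
    h.nc (e.trans (isConj_iff.2 ⟨w, by rw [← conj_mul, e1, e2]⟩).symm)
  rcases zp3 h.z3 ha with e1 | e1 | e1
  · exact .inr (by rwa [e1, one_mul])
  all_goals rcases zp3 h.j3 hb with e2 | e2 | e2
  exacts [.inl (by rwa [e2, mul_one]), absurd e (k 1 _ _ (by simp [e1]) (by simp [e2])), absurd e (k S _ _ (e1 ▸ h.sz) (e2 ▸ h.sj)),
    .inl (by rwa [e2, mul_one]), absurd e (k _ _ _ (e1 ▸ h.tz) (e2 ▸ h.tj)), absurd e (k _ _ _ (e1 ▸ h.uz) (e2 ▸ h.uj))]

theorem decN (hn : n ∈ normalizer (DD Z J : Set X)) : ∃ w', (w' = 1 ∨ w' = V) ∧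
    ∃ w, (w = 1 ∨ w = S ∨ w = 𝕋 ∨ w = S * (𝕋)) ∧ n * w' * w ∈ centralizer (DD Z J : Set X) := by
  have nb : ∀ W, orderOf W = 3 → n * Z * n⁻¹ ∈ zpowers W → n * J * n⁻¹ ∉ zpowers W := fun W o a b => by
    obtain ⟨k, hk⟩ := (eq_of_le_of_card_ge (zpowers_le.2 a) (by
      rw [Nat.card_zpowers, Nat.card_zpowers, o, oc, h.z3])).ge b
    exact h.jz ⟨k, mul_left_cancel (mul_right_cancel (conj_zpow.symm.trans hk))⟩
  rcases h.cls ((mem_normalizer_iff.1 hn Z).1 zD) (isConj_iff.2 ⟨n, rfl⟩) with a | a <;>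
    rcases h.cls ((mem_normalizer_iff.1 hn J).1 jD) ((isConj_iff.2 ⟨V, h.vz⟩).trans (isConj_iff.2 ⟨n, rfl⟩)) with b | b
  · exact absurd b (nb Z h.z3 a)
  · exact ⟨1, .inl rfl, by simpa using h.dec1 a b⟩
  · refine ⟨V, .inr rfl, h.dec1 ?_ ?_⟩
    · convert b using 1; rw [← h.vz]; group
    · convert a using 1; rw [← h.vj]; group
  · exact absurd b (nb J h.j3 a)

theorem y3 : orderOf (Z * J) = 3 := orderOf_eq_prime (h.expD (mul_mem zD jD)) fun e =>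
  h.jz (eq_inv_of_mul_eq_one_right e ▸ inv_mem (mem_zpowers Z))
theorem vy : V * (Z * J) * V⁻¹ = Z * J := by rw [← conj_mul, h.vz, h.vj, h.zj]
theorem uy : S * (𝕋) * (Z * J) * (S * (𝕋))⁻¹ = (Z * J)⁻¹ := by rw [← conj_mul, h.uz, h.uj, h.zj, mul_inv_rev]
theorem cy (hg : g ∈ centralizer (DD Z J : Set X)) : g * (Z * J) * g⁻¹ = Z * J := by rw [← hg _ (mul_mem zD jD), mul_inv_cancel_right]

theorem decY (hn : n ∈ normalizer (zpowers (Z * J) : Set X)) : ∃ w', (w' = 1 ∨ w' = V) ∧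
    ∃ w, (w = 1 ∨ w = S * (𝕋)) ∧ n * w' * w ∈ centralizer (DD Z J : Set X) := by
  obtain ⟨w', a, w, b, e⟩ := h.decN (h.Ny hn)
  have k : Z * J⁻¹ ∉ zpowers (Z * J) := fun e => by
    rcases zp3 h.y3 e with e | e | e
    · exact h.jz (mul_inv_eq_one.1 e ▸ mem_zpowers Z)
    · exact ni3 h.j3 (mul_left_cancel e)
    · rw [mul_inv_rev, ← (Commute.inv_inv h.zj).eq] at e
      exact ni3 h.z3 (mul_right_cancel e).symm
  have k2 : w * (Z * J) * w⁻¹ ∈ zpowers (Z * J) := by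
    have : n * w' ∈ normalizer (zpowers (Z * J) : Set X) := mul_mem hn (by
      rcases a with rfl | rfl; exacts [one_mem _, nzp (h.vy.symm ▸ mem_zpowers _)])
    refine (mem_normalizer_iff.1 this _).2 ?_
    convert mem_zpowers (Z * J) using 1
    rw [← h.cy e]; nth_rw 1 [h.cy e]; group
  rcases b with b | b | b | b
  · exact ⟨w', a, w, .inl b, e⟩
  · exact absurd (by rwa [b, ← conj_mul, h.sz, h.sj] at k2) k
  · refine absurd ?_ k
    rw [b, ← conj_mul, h.tz, h.tj] at k2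
    simpa [(Commute.inv_left h.zj.symm).eq] using inv_mem k2
  · exact ⟨w', a, w, .inr b, e⟩

theorem uN : S * (𝕋) ∈ normalizer (DD Z J : Set X) := mul_mem h.sN (mul_mem (mul_mem h.vN h.sN) (inv_mem h.vN))
theorem Cy : centralizer {Z * J} = centralizer (DD Z J : Set X) ⊔ zpowers V := by
  refine le_antisymm (fun n hn => ?_) (sup_le (centralizer_le (by simpa using mul_mem zD jD))
    (zpowers_le.2 (mem_centralizer_singleton_iff.2 (mul_inv_eq_iff_eq_mul.1 h.vy))))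
  have hn' := mul_inv_eq_iff_eq_mul.2 (mem_centralizer_singleton_iff.1 hn)
  obtain ⟨w', a, w, b, e⟩ := h.decY (n := n) (nzp (by rw [hn']; exact mem_zpowers _))
  have a' : w' * (Z * J) * w'⁻¹ = Z * J ∧ w' ∈ zpowers V := by
    rcases a with a | a <;> rw [a]; exacts [⟨by simp, one_mem _⟩, ⟨h.vy, mem_zpowers _⟩]
  rcases b with rfl | rfl
  · simpa using mul_mem (mem_sup_left e) (mem_sup_right (inv_mem a'.2))
  · refine absurd ?_ (ni3 h.y3)
    calc _ = n * (w' * (S * (𝕋) * (Z * J) * (S * (𝕋))⁻¹) * w'⁻¹) * n⁻¹ := by rw [h.uy, ← cinv, a'.1, ← cinv, hn']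
      _ = _ := by rw [← h.cy e]; nth_rw 1 [h.cy e]; group
theorem NY : normalizer (zpowers (Z * J) : Set X) = centralizer {Z * J} ⊔ zpowers (S * (𝕋)) := by
  refine le_antisymm (fun n hn => ?_) (sup_le (fun g hg => nzp (by
    rw [mem_centralizer_singleton_iff.1 hg, mul_inv_cancel_right]; exact mem_zpowers _))
    (zpowers_le.2 (nzp (h.uy.symm ▸ inv_mem (mem_zpowers _)))))
  obtain ⟨w', a, w, b, e⟩ := h.decY hn
  have := mul_mem (mul_mem (mem_sup_left (h.Cy.ge (mem_sup_left e))) (mem_sup_right (inv_mem (show w ∈ zpowers (S * (𝕋)) by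
    rcases b with rfl | rfl; exacts [one_mem _, mem_zpowers _])))) (mem_sup_left (h.Cy.ge (mem_sup_right (inv_mem
      (show w' ∈ zpowers V by rcases a with rfl | rfl; exacts [one_mem _, mem_zpowers _])))))
  simpa using this
theorem card_Cy : Nat.card (centralizer ({Z * J} : Set X)) = 2 * Nat.card (centralizer (DD Z J : Set X)) := by
  rw [h.Cy, card2 (Core.normalizer_le_normalizer_centralizer _ h.vN) h.vv fun e => h.jz (h.vz ▸ (mem_cD.1 e).1.symm ▸ mem_zpowers Z)]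
theorem card_NY : Nat.card (normalizer (zpowers (Z * J) : Set X)) = 4 * Nat.card (centralizer (DD Z J : Set X)) := by
  rw [h.NY, card2 _ h.uu fun e => ni3 h.y3 (by rw [← h.uy, mem_centralizer_singleton_iff.1 e, mul_inv_cancel_right]), h.card_Cy]
  · ring
  · refine mem_normalizer_fintype fun g hg => mem_centralizer_singleton_iff.2 ?_
    have := (Commute.inv_right (mem_centralizer_singleton_iff.1 hg)).eq
    have e : S * (𝕋) * (Z * J)⁻¹ * (S * (𝕋))⁻¹ = Z * J := by rw [← cinv, h.uy, inv_inv]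
    rw [← e, conj_mul, conj_mul, this]
theorem sqY (hn : n ∈ normalizer (zpowers (Z * J) : Set X)) : n ^ 2 ∈ (DD Z J) := by
  obtain ⟨w', a, w, b, e⟩ := h.decY hn
  have k : w' * w ∈ normalizer (DD Z J : Set X) ∧ w' * w * (w' * w) = 1 := by
    rcases a with rfl | rfl <;> rcases b with rfl | rfl
    exacts [⟨by simp, by simp⟩, ⟨by simpa using h.uN, by simpa using h.uu⟩, ⟨by simpa using h.vN, by simpa using h.vv⟩,
      ⟨mul_mem h.vN h.uN, by
        calc _ = w' * S * w'⁻¹ * (w' * w' * S * (w'⁻¹ * w') * S) * (w' * S * w'⁻¹) := by group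
          _ = _ := by rw [h.vv, inv_mul_cancel, one_mul, mul_one, h.ss, mul_one, h.tt]⟩]
  rw [mul_assoc] at e
  generalize w' * w = x at k e
  have l : ∀ d ∈ (DD Z J), ∀ y ∈ normalizer (DD Z J : Set X), y * y = 1 → n = d * y → n ^ 2 ∈ (DD Z J) := fun d hd y hy y2 e => by
    convert mul_mem hd ((mem_normalizer_iff.1 hy d).1 hd) using 1
    rw [e, inv_eq_of_mul_eq_one_right y2, sq]; group
  obtain ⟨d, hd, e | e⟩ := h.memC e
  · exact l d hd x k.1 k.2 (by rw [e, mul_assoc, k.2, mul_one])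
  · exact l d hd (C * x) (mul_mem (centralizer_le_normalizer _ h.cC) k.1)
      (by rw [mul_assoc, ← mul_assoc x, h.comC k.1, mul_assoc, k.2, mul_one, h.cc]) (by rw [← mul_assoc, e, mul_assoc, k.2, mul_one])

theorem dih : ∃ δ : DihedralGroup 4 →* X, (∀ y, δ y ∈ normalizer (DD Z J : Set X)) ∧ (∀ y, δ y ∈ centralizer (DD Z J : Set X) → y = 1) ∧
    ∀ n ∈ normalizer (DD Z J : Set X), ∃ y, n * δ y ∈ centralizer (DD Z J : Set X) := by
  have r2 : (S * V) ^ 2 = S * (𝕋) := by rw [h.vi, sq]; group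
  have r4 : (S * V) ^ 4 = 1 := by rw [show 4 = 2 * 2 from rfl, pow_mul, r2, sq, h.uu]
  have sr : S * (S * V) * S⁻¹ = (S * V)⁻¹ := by rw [← mul_assoc, h.ss, one_mul, mul_inv_rev, h.vi]
  have hr := Invol.dihedralHom_range S (S * V) h.ss r4 sr
  have k1 : ∀ y, Invol.dihedralHom S (S * V) h.ss r4 sr y ∈ normalizer (DD Z J : Set X) := fun y =>
    (hr.le.trans ((closure_le _).2 (by rintro _ (rfl | rfl); exacts [h.sN, mul_mem h.sN h.vN]))) ⟨y, rfl⟩
  refine ⟨_, k1, fun y hy => by_contra fun y1 => ni3 h.z3 ?_, fun n hn => ?_⟩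
  · have : Invol.dihedralHom S (S * V) h.ss r4 sr (.r ((2 : ℤ) : ZMod 4)) ∈ centralizer (DD Z J : Set X) := by
      rcases (by decide : ∀ g : DihedralGroup 4, g ≠ 1 → g = .r ((2 : ℤ) : ZMod 4) ∨ ∃ k, g * (k * g⁻¹ * k⁻¹) = .r ((2 : ℤ) : ZMod 4)) y y1
        with e | ⟨k, e⟩ <;> rw [← e]
      · exact hy
      · simp only [map_mul, map_inv]
        exact mul_mem hy ((mem_normalizer_iff.1 (Core.normalizer_le_normalizer_centralizer _ (k1 k)) _).1 (inv_mem hy))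
    rw [Invol.dihedralHom_r, zpow_ofNat, r2] at this
    exact h.uz.symm.trans (mem_cD.1 this).1
  · obtain ⟨w', a, w, b, e⟩ := h.decN hn
    have s1 := hr.ge (subset_closure (Set.mem_insert S _))
    have v1 : V ∈ (Invol.dihedralHom S (S * V) h.ss r4 sr).range := by
      simpa using mul_mem (inv_mem s1) (hr.ge (subset_closure (Set.mem_insert_of_mem S rfl)))
    have t1 := mul_mem (mul_mem v1 s1) (inv_mem v1)
    obtain ⟨y, hy⟩ := mul_mem (show w' ∈ (Invol.dihedralHom S (S * V) h.ss r4 sr).range by rcases a with e | e <;> rw [e]; exacts [one_mem _, v1])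
      (show w ∈ _ by rcases b with e | e | e | e <;> rw [e]; exacts [one_mem _, s1, t1, mul_mem s1 t1])
    exact ⟨y, by rwa [hy, ← mul_assoc]⟩

end YD

end Cfsg.Lib.Mc3
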