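import Cfsg.Agent.Lib.Mc3.KX
import Cfsg.Agent.S3329

/-! The 3-local data of `K/⟨t⟩`: the normaliser of `⟨z⟩`, and the identification with `A₈` or `S₈`. -/

set_option autoImplicit false
set_option linter.unusedSectionVars false

namespace Cfsg.Lib.Mc3

open Subgroup Cfsg.Lib.Amalg Equiv

variable {X : Type*} [Group X] [Finite X] {Z J S V C W n g : X} {A : Subgroup X}

local notation "𝕋" => V * S * V⁻¹
local notation "ℕZ" => normalizer (zpowers Z : Set X)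

theorem F3 : ∀ τ : Perm (Fin 3), τ ≠ 1 → τ * τ * τ = 1 → ∀ σ, (σ * τ * σ⁻¹ = τ ↔ Perm.sign σ = 1) ∧ (σ * τ * σ⁻¹ = τ⁻¹ → Perm.sign σ = -1) := by
  decide +kernel
set_option synthInstance.maxSize 4000 in
set_option synthInstance.maxHeartbeats 400000 in
theorem F5 : ∀ τ : Perm (Fin 5), τ * τ * τ = 1 → τ ≠ 1 → ∀ σ, σ * τ * σ⁻¹ = τ → (σ * σ = 1 → Perm.sign σ = 1 → σ = 1) ∧
    ∀ ρ, ρ * τ * ρ⁻¹ = τ → ρ * σ = σ * ρ := by
  decide +kernel
theorem card_A5 : Nat.card (alternatingGroup (Fin 5)) = 60 := by rw [nat_card_alternatingGroup]; simp [Nat.factorial]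
theorem zN : Z ∈ ℕZ := le_normalizer (mem_zpowers Z)
theorem cN : centralizer {Z} ≤ ℕZ := fun _ e => nzp (by
  rw [mem_centralizer_singleton_iff.1 e, mul_inv_cancel_right]; exact mem_zpowers Z)

namespace YD
variable (h : YD Z J S V C A)
include h

theorem cardA : Nat.card A = 60 := (Nat.card_congr h.iso.some.toEquiv).trans card_A5
theorem ker_top {Y : Type*} [Group Y] (q : A →* Y) (e : q ⟨J, h.jA⟩ = 1) (a : A) : q a = 1 :=
  have := h.iso.some.isSimpleGroup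
  (q.normal_ker.eq_bot_or_eq_top.resolve_left fun e' => ne3 h.j3 (congrArg Subtype.val (e'.le e))).ge (mem_top a)
theorem tN : 𝕋 ∈ ℕZ := nzp (h.tz.symm ▸ inv_mem (mem_zpowers Z))
theorem cN' : C ∈ ℕZ := nzp (h.cz.symm ▸ mem_zpowers Z)
theorem jnc : J ∉ centralizer (A : Set X) := fun e => ni3 h.j3 (by rw [← h.sj, e S h.sA, mul_inv_cancel_right])
theorem zc : Z ∈ centralizer (A : Set X) := fun _ ha => mem_centralizer_singleton_iff.1 (h.Az ha)
theorem card1 : Nat.card ↥(A ⊔ zpowers (𝕋)) = 120 := by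
  rw [card2 (h.An h.tN) h.tt fun e => ni3 h.z3 (by rw [← h.tz, mem_centralizer_singleton_iff.1 (h.Az e), mul_inv_cancel_right]), h.cardA]
theorem nC : C ∈ normalizer ((A ⊔ zpowers (𝕋) : Subgroup X) : Set X) := mem_normalizer_fintype fun _ hn =>
  (sup_le (c := (A ⊔ zpowers (𝕋)).comap (MulAut.conj C).toMonoidHom) (fun m hm => mem_sup_left ((mem_normalizer_iff.1 (h.An h.cN') m).1 hm))
    (zpowers_le.2 (show C * (𝕋) * C⁻¹ ∈ A ⊔ zpowers (𝕋) by
      rw [← h.comC (mul_mem (mul_mem h.vN h.sN) (inv_mem h.vN)), mul_inv_cancel_right]; exact mem_sup_right (mem_zpowers _)))) hn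
theorem H_le : A ⊔ zpowers (𝕋) ⊔ zpowers C ≤ ℕZ := sup_le (sup_le (h.Az.trans cN) (zpowers_le.2 h.tN)) (zpowers_le.2 h.cN')
theorem zH : Z ∉ A ⊔ zpowers (𝕋) ⊔ zpowers C := fun e => by
  have := card_dvd_of_le ((closure_le _).2 (by rintro _ (rfl | rfl); exacts [e, mem_sup_left (mem_sup_left h.jA)]) :
    DD Z J ≤ A ⊔ zpowers (𝕋) ⊔ zpowers C)
  by_cases c : C ∈ A ⊔ zpowers (𝕋)
  · rw [sup_eq_left.2 (zpowers_le.2 c), h.card1, h.cardD] at this; norm_num at this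
  · rw [card2 h.nC h.cc c, h.card1, h.cardD] at this; norm_num at this
theorem NZ : ℕZ = zpowers Z ⊔ (A ⊔ zpowers (𝕋) ⊔ zpowers C) := by
  refine le_antisymm (fun n hn => ?_) (sup_le le_normalizer h.H_le)
  have hJ := zpowers_le.2 h.jA
  obtain ⟨a, ha, m, hm, rfl⟩ := (syl_of_not_dvd (p := 3) hJ (isPGroup_zpowers_of_orderOf (k := 1) h.j3) (by
    have := ((zpowers J).subgroupOf A).card_mul_index
    rw [Nat.card_congr (subgroupOfEquivOfLe hJ).toEquiv, Nat.card_zpowers, h.j3, h.cardA] at this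
    rw [relIndex]; omega)).frattini_mem (h.An hn)
  have hA : A ≤ zpowers Z ⊔ (A ⊔ zpowers (𝕋) ⊔ zpowers C) := le_sup_left.trans (le_sup_left.trans le_sup_right)
  have t1 : 𝕋 ∈ zpowers Z ⊔ (A ⊔ zpowers (𝕋) ⊔ zpowers C) := mem_sup_right (mem_sup_left (mem_sup_right (mem_zpowers _)))
  obtain ⟨w, b, e⟩ := h.dec1 (n := m) ((mem_normalizer_iff.1 (by simpa using mul_mem (inv_mem (cN (h.Az ha))) hn) Z).1 (mem_zpowers Z))
    ((mem_normalizer_iff.1 hm J).1 (mem_zpowers J))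
  have := mul_mem ((h.hC.trans (sup_le ((closure_le _).2 (by rintro _ (rfl | rfl); exacts [mem_sup_left (mem_zpowers _), hA h.jA]))
    (le_sup_right.trans le_sup_right))) e) (inv_mem (show w ∈ zpowers Z ⊔ (A ⊔ zpowers (𝕋) ⊔ zpowers C) by
      rcases b with e | e | e | e <;> rw [e]; exacts [one_mem _, hA h.sA, t1, mul_mem (hA h.sA) t1]))
  exact mul_mem (hA ha) (by simpa using this)
theorem cardN : Nat.card ℕZ = 3 * Nat.card ↥(A ⊔ zpowers (𝕋) ⊔ zpowers C) := by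
  have := Core.card_sup_mul_card_inf' h.H_le
  rw [← h.NZ, show zpowers Z ⊓ (A ⊔ zpowers (𝕋) ⊔ zpowers C) = ⊥ from eq_bot_iff.2 fun x hx => by
    rcases zp3 h.z3 hx.1 with e | e | e
    exacts [e, absurd (e ▸ hx.2) h.zH, absurd (inv_mem_iff.1 (e ▸ hx.2)) h.zH], card_bot, mul_one, Nat.card_zpowers, h.z3] at this
  exact this

theorem exf (hCo : C = 1 ∨ C ∉ centralizer (A : Set X)) : ∃ f : ℕZ →* Perm (Fin 3) × Perm (Fin 5), Function.Injective f ∧
    (∀ n : ℕZ, n.1 ∈ centralizer {Z} ↔ Perm.sign (f n).1 = 1) ∧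
    (∀ n : ℕZ, n.1 ∈ zpowers Z ⊔ (A ⊔ zpowers (𝕋)) → Perm.sign (f n).1 * Perm.sign (f n).2 = 1) ∧
    (C ≠ 1 → C ∉ A ⊔ zpowers (𝕋)) := by
  obtain ⟨e⟩ := h.iso
  let H := (A ⊔ zpowers (𝕋) ⊔ zpowers C).subgroupOf ℕZ
  have hH : Nat.card (ℕZ ⧸ H) = 3 := by
    have := H.index_mul_card
    rw [Nat.card_congr (subgroupOfEquivOfLe h.H_le).toEquiv, h.cardN] at this
    exact Nat.eq_of_mul_eq_mul_right Nat.card_pos this
  let f1 := (Finite.equivFinOfCardEq hH).permCongrHom.toMonoidHom.comp (MulAction.toPermHom ℕZ (ℕZ ⧸ H))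
  let f2 := ((MulAut.congr e).trans (MulEquiv.ofBijective _ (Linear.conjNormal_alt_bijective (α := Fin 5) (by simp) (by simp))).symm
    ).toMonoidHom.comp (A.normalizerMonoidHom.comp (inclusion h.An))
  have k1 : f1 ⟨Z, zN⟩ ≠ 1 := fun e => by
    have := Equiv.congr_fun ((Finite.equivFinOfCardEq hH).permCongrHom.map_eq_one_iff.1 e) ((1 : ℕZ) : ℕZ ⧸ H)
    exact h.zH (by simpa [H, mem_subgroupOf] using QuotientGroup.eq.1 (show ((1 : ℕZ) : ℕZ ⧸ H) = ((⟨Z, zN⟩ * 1 : ℕZ) : ℕZ ⧸ H) from this.symm))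
  have k2 : ∀ n : ℕZ, f2 n = 1 ↔ n.1 ∈ centralizer (A : Set X) := fun n => by
    rw [MonoidHom.comp_apply, MulEquiv.coe_toMonoidHom, MulEquiv.map_eq_one_iff, MonoidHom.comp_apply, ← MonoidHom.mem_ker,
      normalizerMonoidHom_ker]; rfl
  clear_value f1 f2
  have z3 : f1 ⟨Z, zN⟩ * f1 ⟨Z, zN⟩ * f1 ⟨Z, zN⟩ = 1 := by
    rw [← map_mul, ← map_mul, ← map_one f1]; exact congrArg f1 (Subtype.ext (p3 h.z3))
  have k3 : ∀ n : ℕZ, n.1 * Z * n.1⁻¹ = Z⁻¹ → Perm.sign (f1 n) = -1 := fun n e => (F3 _ k1 z3 _).2 (by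
    rw [← map_inv, ← map_inv, ← map_mul, ← map_mul]; exact congrArg f1 (Subtype.ext e))
  have k4 : ∀ n : ℕZ, n.1 ∈ centralizer {Z} ↔ Perm.sign (f1 n) = 1 := fun n => by
    rw [mem_centralizer_singleton_iff, ← mul_inv_eq_iff_eq_mul]
    refine ⟨fun e => (F3 _ k1 z3 _).1.1 (by rw [← map_inv, ← map_mul, ← map_mul]; exact congrArg f1 (Subtype.ext e)), fun e => ?_⟩
    exact ((zp3 h.z3 ((mem_normalizer_iff.1 n.2 Z).1 (mem_zpowers Z))).resolve_left (mt conj_eq_one_iff.1 (ne3 h.z3))).resolve_right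
      fun e' => absurd (e.symm.trans (k3 n e')) (by decide)
  have jN := cN (h.Az h.jA)
  have k5 : ∀ n : ℕZ, n.1 * n.1 = 1 → n.1 * J * n.1⁻¹ = J → n.1 ∉ centralizer (A : Set X) → Perm.sign (f2 n) = -1 := fun n a b c =>
    (Int.units_eq_one_or _).resolve_left fun e => c ((k2 n).1 ((F5 (f2 ⟨J, jN⟩)
      (by rw [← map_mul, ← map_mul, ← map_one f2]; exact congrArg f2 (Subtype.ext (p3 h.j3))) (mt (k2 _).1 h.jnc) _
      (by rw [← map_inv, ← map_mul, ← map_mul]; exact congrArg f2 (Subtype.ext b))).1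
      (by rw [← map_mul, ← map_one f2]; exact congrArg f2 (Subtype.ext a)) e))
  have sq : ∀ (q : ℕZ →* ℤˣ) (n : ℕZ), n.1 * n.1 * n.1 = 1 → q n = 1 := fun q n e => by
    have := congrArg q (Subtype.ext e : n * n * n = 1)
    rwa [map_mul, map_mul, Int.units_mul_self, one_mul, map_one] at this
  have k6 : ∀ n : ℕZ, n.1 ∈ A → Perm.sign (f2 n) = 1 := fun n hn => by
    have := h.ker_top ((Perm.sign.comp f2).comp (inclusion (h.Az.trans cN))) (sq (Perm.sign.comp f2) _ (p3 h.j3)) ⟨n, hn⟩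
    rwa [MonoidHom.comp_apply, MonoidHom.comp_apply] at this
  have k7 : ∀ n : ℕZ, n.1 ∈ zpowers Z ⊔ (A ⊔ zpowers (𝕋)) → Perm.sign (f1 n) * Perm.sign (f2 n) = 1 := fun n hn => by
    obtain ⟨m, hm, e⟩ := (sup_le (c := (Perm.sign.comp f1 * Perm.sign.comp f2).ker.map (ℕZ).subtype)
      (zpowers_le.2 ⟨⟨Z, zN⟩, sq _ _ (p3 h.z3), rfl⟩) (sup_le (fun a ha => ⟨⟨a, cN (h.Az ha)⟩, show Perm.sign _ * Perm.sign _ = 1 by
        rw [(k4 _).1 (h.Az ha), k6 _ ha, one_mul], rfl⟩) (zpowers_le.2 ⟨⟨_, h.tN⟩, show Perm.sign _ * Perm.sign _ = 1 by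
          rw [k3 _ h.tz, k5 _ h.tt h.tj h.out]; simp, rfl⟩))) hn
    rw [← Subtype.ext e]; exact hm
  refine ⟨f1.prod f2, (injective_iff_map_eq_one _).2 fun n e => ?_, k4, k7, fun c1 c => ?_⟩
  swap
  · have := k7 ⟨C, h.cN'⟩ (mem_sup_right c)
    rw [(k4 _).1 (mem_centralizer_singleton_iff.2 (mul_inv_eq_iff_eq_mul.1 h.cz)), k5 _ h.cc h.cJ (hCo.resolve_left c1)] at this
    exact absurd this (by decide)
  have e1 : f1 n = 1 := congrArg Prod.fst e
  have e2 := (k2 n).1 (congrArg Prod.snd e)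
  have zA : zpowers Z ≤ centralizer (A : Set X) := zpowers_le.2 h.zc
  have k8 : n.1 ∈ DD Z J → n = 1 := fun hd => by
    obtain ⟨i, hi, j, hj, e⟩ := h.memD hd
    have hj' : j ∈ centralizer (A : Set X) := by simpa [← e] using mul_mem (inv_mem (zA hi)) e2
    rcases zp3 h.j3 hj with rfl | rfl | rfl
    · rw [mul_one] at e
      rcases zp3 h.z3 hi with e' | e' | e' <;> rw [e'] at e
      · exact Subtype.ext e.symm
      · exact absurd (by rw [← e1]; exact congrArg f1 (Subtype.ext e)) k1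
      · exact absurd (by rw [← inv_eq_one, ← map_inv, ← e1]; exact congrArg f1 (Subtype.ext e)) k1
    exacts [absurd hj' h.jnc, absurd (inv_mem_iff.1 hj') h.jnc]
  obtain ⟨d, hd, e | e⟩ := h.memC (mem_cD.2 ⟨mul_inv_eq_iff_eq_mul.2 (mem_centralizer_singleton_iff.1 ((k4 n).2 (by simp [e1]))),
    mul_inv_eq_iff_eq_mul.2 (e2 J h.jA).symm⟩)
  · exact k8 (e ▸ hd)
  rcases hCo with c | c
  · exact k8 (by rw [← e, c, mul_one]; exact hd)
  obtain ⟨i, hi, j, hj, rfl⟩ := h.memD hd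
  have jA := zpowers_le.2 h.jA hj
  have : f2 (⟨j, cN (h.Az jA)⟩ * ⟨C, h.cN'⟩) = 1 := (k2 _).2 (by simpa [← e, mul_assoc] using mul_mem (inv_mem (zA hi)) e2)
  have := congrArg Perm.sign this
  rw [map_mul, map_mul, k6 _ jA, k5 _ h.cc h.cJ c, map_one] at this
  exact absurd this (by decide)

theorem exC {f : ℕZ →* Perm (Fin 3) × Perm (Fin 5)} (hf : Function.Injective f) (h1 : ∀ n : ℕZ, n.1 ∈ centralizer {Z} ↔ Perm.sign (f n).1 = 1)
    (Y : Subgroup (Perm (Fin 5))) (h2 : ∀ n : ℕZ, n.1 ∈ centralizer {Z} → (f n).2 ∈ Y)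
    (h3 : ∀ a, Perm.sign a = 1 → ∀ b ∈ Y, ∃ n, f n = (a, b)) : Nonempty (centralizer ({Z} : Set X) ≃* Multiplicative (ZMod 3) × Y) := by
  let g : centralizer ({Z} : Set X) →* alternatingGroup (Fin 3) × Y :=
    (((MonoidHom.fst _ _).comp (f.comp (inclusion cN))).codRestrict _ fun n => (h1 ⟨n, cN n.2⟩).1 n.2).prod
      (((MonoidHom.snd _ _).comp (f.comp (inclusion cN))).codRestrict _ fun n => h2 ⟨n, cN n.2⟩ n.2)
  refine ⟨(MulEquiv.ofBijective g ⟨fun a b e => inclusion_injective cN (hf (Prod.ext (congrArg (·.1.1) e) (congrArg (·.2.1) e))),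
    fun ⟨a, b⟩ => ?_⟩).trans ((mulEquivOfPrimeCardEq (p := 3) (by rw [nat_card_alternatingGroup]; simp [Nat.factorial])
      (by simp)).prodCongr (MulEquiv.refl _))⟩
  obtain ⟨n, hn⟩ := h3 a a.2 b b.2
  exact ⟨⟨n, (h1 n).2 (by rw [hn]; exact a.2)⟩, Prod.ext (Subtype.ext (congrArg Prod.fst hn)) (Subtype.ext (congrArg Prod.snd hn))⟩

theorem gen : closure {Z * J, Z} = DD Z J := le_antisymm ((closure_le _).2 (by rintro _ (rfl | rfl); exacts [mul_mem zD jD, zD]))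
  ((closure_le _).2 (by
    have a : Z ∈ closure {Z * J, Z} := subset_closure (by simp)
    rintro _ (rfl | rfl)
    exacts [a, by simpa using mul_mem (inv_mem a) (subset_closure (Set.mem_insert _ _))]))
theorem comD : IsMulCommutative (DD Z J) := ⟨⟨fun a b => Subtype.ext (h.D_le b.2 a a.2)⟩⟩
theorem Cy_le : centralizer {Z * J} ≤ normalizer (zpowers (Z * J) : Set X) := cN
theorem D_le' : DD Z J ≤ normalizer (zpowers (Z * J) : Set X) := h.D_le.trans (le_sup_left.trans (h.Cy.ge.trans cN))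

end YD

theorem YD.a8 (h : YD Z J S V 1 A) : Nonempty (X ≃* alternatingGroup (Fin 8)) := by
  have hC : centralizer (DD Z J : Set X) = DD Z J := le_antisymm (h.hC.trans (by simp)) h.D_le
  obtain ⟨δ, d1, d2, d3⟩ := h.dih
  obtain ⟨eN⟩ := quo (E := DD Z J) δ d1 (fun y hy => d2 y (h.D_le hy)) fun n hn => (d3 n hn).imp fun _ e => hC.le e
  obtain ⟨f, f1, f2, f3, -⟩ := h.exf (.inl rfl)
  have f4 : ∀ n : ℕZ, Perm.sign (f n).1 * Perm.sign (f n).2 = 1 := fun n => f3 n (by simpa using h.NZ.le n.2)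
  let χ := Perm.sign.comp (MonoidHom.fst (Perm (Fin 3)) (Perm (Fin 5))) * Perm.sign.comp (MonoidHom.snd (Perm (Fin 3)) (Perm (Fin 5)))
  have hL : Nat.card χ.ker = 360 := by
    have := χ.ker.index_mul_card
    rw [index_ker, show χ.range = ⊤ from eq_top_iff.2 fun u _ => by
      rcases Int.units_eq_one_or u with rfl | rfl
      exacts [one_mem _, ⟨(swap 0 1, 1), by simp [χ]⟩], card_top, Nat.card_prod, Nat.card_perm, Nat.card_perm] at this
    rw [Nat.card_eq_fintype_card (α := ℤˣ), Fintype.card_units_int, Nat.card_fin, Nat.card_fin] at this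
    generalize Nat.card χ.ker = m at this
    norm_num [Nat.factorial] at this
    omega
  have hb : Function.Bijective (f.codRestrict χ.ker f4) := (Nat.bijective_iff_injective_and_card _).2
    ⟨(MonoidHom.injective_codRestrict _ _ _).2 f1, by rw [hL, h.cardN, zpowers_one_eq_bot, sup_bot_eq, h.card1]⟩
  obtain ⟨eC⟩ := h.exC f1 f2 (alternatingGroup (Fin 5)) (fun n hn => by simpa [(f2 n).1 hn] using f4 n) fun a ha b hb' =>
    (hb.2 ⟨(a, b), by simp [χ, ha, Perm.mem_alternatingGroup.1 hb']⟩).imp fun n e => congrArg Subtype.val e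
  have := normal_subgroupOf_of_le_normalizer h.Ny
  refine Agent.S3329.result h.sylD.toSylowTop (DD Z J) rfl (Z * J) Z h.gen h.comD h.cardD (fun _ => h.expD) hC eN
    (normal_subgroupOf_of_le_normalizer (h.Cy_le.trans h.Ny)) (by rw [h.card_Cy, hC, h.cardD]) _ rfl h.D_le' ?_ (fun g => ?_) eC
    (MulEquiv.ofBijective _ hb)
  · have := card_eq_card_quotient_mul_card_subgroup ((DD Z J).subgroupOf (normalizer (zpowers (Z * J) : Set X)))
    rw [Nat.card_congr (subgroupOfEquivOfLe h.D_le').toEquiv, h.card_NY, hC, h.cardD] at this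
    omega
  · obtain ⟨g, rfl⟩ := QuotientGroup.mk_surjective g
    exact (QuotientGroup.eq_one_iff (g ^ 2)).2 (h.sqY g.2)

end Cfsg.Lib.Mc3
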