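import Cfsg.Agent.Lib.Mc3.KY

/-! Passing from `K` to `K/⟨t⟩`. -/

set_option autoImplicit false
set_option linter.unusedSectionVars false

namespace Cfsg.Lib.Mc3

open Subgroup
open scoped commutatorElement

variable {K : Type*} [Group K] [Finite K] {t z j s v c x y : K} {A : Subgroup K}

local notation "π" => QuotientGroup.mk' (zpowers t)

namespace KD
variable (h : KD t z j s v A) [(zpowers t).Normal]
include h

theorem q_tt : t * t = 1 := by rw [← sq, ← h.t2, pow_orderOf_eq_one]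
theorem q_t1 : t ≠ 1 := fun e => by have := h.t2; rw [e] at this; simp at this
theorem q_eq (e : π x = π y) : y = x ∨ y = x * t :=
  (zp2 h.q_tt (QuotientGroup.eq.1 e)).imp (fun e => (inv_mul_eq_one.1 e).symm) inv_mul_eq_iff_eq_mul.1
theorem q_lift (hx : x * x * x = 1) (hy : y * y * y = 1) (e : π x = π y) : x = y :=
  ((h.q_eq e).resolve_right fun e => h.q_t1 (by
    rw [e] at hy
    calc t = x * x * x * (t * t) * t := by rw [hx, h.q_tt]; simp
      _ = x * (x * (x * t) * t) * t := by group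
      _ = x * (t * (x * (x * t))) * t := by rw [h.tc (x * (x * t))]
      _ = x * (t * (x * (t * x))) * t := by rw [h.tc x]
      _ = x * t * (x * t) * (x * t) := by group
      _ = 1 := hy)).symm
theorem q_o3 (hx : orderOf x = 3) : orderOf (π x) = 3 :=
  orderOf_eq_prime (by rw [← map_pow, pow_three', p3 hx, map_one]) fun e => ne3 hx (h.q_lift (p3 hx) (by simp) (e.trans (map_one _).symm))
theorem q_zp (hx : orderOf x = 3) (hy : orderOf y = 3) (e : π y ∈ zpowers (π x)) : y ∈ zpowers x := by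
  rcases zp3 (h.q_o3 hx) e with e | e | e
  · exact absurd e (ne3 (h.q_o3 hy))
  · exact h.q_lift (p3 hy) (p3 hx) e ▸ mem_zpowers _
  · rw [h.q_lift (p3 hy) (p3 ((orderOf_inv x).trans hx)) e]; exact inv_mem (mem_zpowers _)
theorem q_j3 : orderOf j = 3 := by rw [← h.vz, oc, h.z3]
theorem q_y3 : orderOf (z * j) = 3 := orderOf_eq_prime (by rw [h.zj.mul_pow, pow_three', pow_three', p3 h.z3, p3 h.q_j3, one_mul]) fun e =>
  h.jz (eq_inv_of_mul_eq_one_right e ▸ inv_mem (mem_zpowers z))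
theorem q_n (hx : orderOf x = 3) (e : π y ∈ normalizer (zpowers (π x) : Set (K ⧸ zpowers t))) : y ∈ normalizer (zpowers x : Set K) :=
  nzp (h.q_zp hx ((oc y x).trans hx) ((mem_normalizer_iff.1 e _).1 (mem_zpowers _)))
theorem q_c (hx : orderOf x = 3) (e : π y * π x * (π y)⁻¹ = π x) : y * x * y⁻¹ = x := h.q_lift (p3 ((oc y x).trans hx)) (p3 hx) e
theorem q_p : ∃ p : A →* alternatingGroup (Fin 5), Function.Surjective p ∧ ∀ a, p a = 1 ↔ a.1 ∈ zpowers t := by
  haveI := Fact.mk (by norm_num : Nat.Prime 5)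
  obtain ⟨e⟩ := h.iso
  obtain ⟨e2⟩ := Linear.psl2_five_equiv (F := ZMod 5) (by simp)
  have tA : t ∈ A := h.ss ▸ mul_mem h.sA h.sA
  have k : Known.pmk (ZMod 5) (e ⟨t, tA⟩) = 1 := (QuotientGroup.eq_one_iff _).2 (mem_center_iff.2 fun g => by
    obtain ⟨g, rfl⟩ := e.surjective g
    rw [← map_mul, ← map_mul]; exact congrArg e (Subtype.ext (h.tc g)))
  have k2 := (Known.pmk_eq_one_iff'.1 k).resolve_left fun e' => h.q_t1 (congrArg Subtype.val (e.map_eq_one_iff.1 e'))
  refine ⟨e2.toMonoidHom.comp ((Known.pmk (ZMod 5)).comp e.toMonoidHom), e2.surjective.comp (Known.pmk_surjective.comp e.surjective), fun a => ?_⟩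
  refine e2.map_eq_one_iff.trans (Known.pmk_eq_one_iff'.trans ⟨fun e' => ?_, fun e' => ?_⟩)
  · rcases e' with e' | e'
    · rw [e.map_eq_one_iff.1 e']; exact one_mem _
    · rw [e.injective (e'.trans k2.symm)]; exact mem_zpowers _
  · exact (zp2 h.q_tt e').imp (fun e' => e.map_eq_one_iff.2 (Subtype.ext e')) fun e' => (congrArg e (Subtype.ext e')).trans k2
theorem q_iso : Nonempty (A.map π ≃* alternatingGroup (Fin 5)) := by
  obtain ⟨p, p1, p2⟩ := h.q_p
  exact ⟨((MulEquiv.subgroupCongr (by rw [MonoidHom.range_comp, range_subtype])).trans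
    (QuotientGroup.quotientKerEquivRange ((π).comp A.subtype)).symm).trans ((QuotientGroup.quotientMulEquivOfEq
      (Subgroup.ext fun a => (QuotientGroup.eq_one_iff _).trans (p2 a).symm)).trans (QuotientGroup.quotientKerEquivOfSurjective p p1))⟩
theorem q_cen (e : π x ∈ centralizer (A.map π : Set (K ⧸ zpowers t))) : Commute x s := by
  obtain ⟨p, p1, p2⟩ := h.q_p
  have k : ∀ a ∈ A, π (a * x) = π (x * a) := fun a ha => e _ (mem_map_of_mem _ ha)
  have hM : ((centralizer {x}).subgroupOf A).Normal := ⟨fun m hm a => by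
    have m1 : m.1 * x = x * m := mem_centralizer_singleton_iff.1 hm
    refine mem_centralizer_singleton_iff.2 (show a.1 * m * (a.1)⁻¹ * x = x * (a * m * (a.1)⁻¹) from ?_)
    have l : ∀ τ, (∀ g, g * τ = τ * g) → x * a = a * x * τ → a.1 * m * (a.1)⁻¹ * x = x * (a * m * (a.1)⁻¹) := fun τ c e => by
      calc _ = a.1 * m * (a.1)⁻¹ * (x * a) * (a.1)⁻¹ := by group
        _ = a.1 * (m * x * τ) * (a.1)⁻¹ := by rw [e]; group
        _ = a.1 * x * (m * τ) * (a.1)⁻¹ := by rw [m1]; group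
        _ = x * a * m * (a.1)⁻¹ := by rw [c, e]; group
        _ = _ := by group
    rcases h.q_eq (k a a.2) with e | e
    exacts [l 1 (by simp) (by simpa using e), l t h.tc e]⟩
  have hj : (⟨j, h.jA⟩ : A) ∈ (centralizer {x}).subgroupOf A := mem_centralizer_singleton_iff.2
    (mul_inv_eq_iff_eq_mul.1 (h.q_c h.q_j3 (mul_inv_eq_iff_eq_mul.2 (k j h.jA).symm))).symm
  obtain ⟨m, hm, e⟩ := ((hM.map p p1).eq_bot_or_eq_top.resolve_left fun e => ne3 (h.q_o3 h.q_j3)
    ((QuotientGroup.eq_one_iff _).2 ((p2 _).1 (e.le (mem_map_of_mem p hj))))).ge (mem_top (p ⟨s, h.sA⟩))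
  have m1 : Commute x m := (mem_centralizer_singleton_iff.1 hm).symm
  rcases zp2 h.q_tt ((p2 (m⁻¹ * ⟨s, h.sA⟩)).1 (by rw [map_mul, map_inv, e, inv_mul_cancel])) with e | e
  · exact (show m.1 = s from inv_mul_eq_one.1 e) ▸ m1
  · rw [show s = m.1 * t from inv_mul_eq_iff_eq_mul.1 e]; exact m1.mul_right (h.tc x)

theorem xd (cc : c * c ∈ zpowers t) (cz : Commute c z) (cJ : Commute c j)
    (hC : centralizer (closure {z, j} : Subgroup K) ≤ closure {z, j} ⊔ zpowers c) :
    YD (π z) (π j) (π s) (π v) (π c) (A.map π) where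
  z3 := h.q_o3 h.z3
  zj := congrArg π h.zj
  jz e := h.jz (h.q_zp h.z3 h.q_j3 e)
  vz := congrArg π h.vz
  vv := congrArg π h.vv
  sz := congrArg π (mul_inv_eq_iff_eq_mul.2 h.sz)
  sj := congrArg π h.sj
  ss := (congrArg π h.ss).trans ((QuotientGroup.eq_one_iff _).2 (mem_zpowers t))
  st := commutatorElement_eq_one_iff_mul_comm.1 ((congrArg π h.st).trans ((QuotientGroup.eq_one_iff _).2 (mem_zpowers t)))
  syl e := h.syl (e.trans (card_quotient_dvd_card _))
  iso := h.q_iso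
  jA := mem_map_of_mem _ h.jA
  sA := mem_map_of_mem _ h.sA
  Az := by
    rintro _ ⟨a, ha, rfl⟩
    exact mem_centralizer_singleton_iff.2 (congrArg π (mem_centralizer_singleton_iff.1 (h.Az ha)))
  An n hn := by
    obtain ⟨n, rfl⟩ := QuotientGroup.mk'_surjective _ n
    exact le_normalizer_map π (mem_map_of_mem _ (h.An (h.q_n h.z3 hn)))
  nc e := by
    obtain ⟨n, hn⟩ := isConj_iff.1 e
    obtain ⟨n, rfl⟩ := QuotientGroup.mk'_surjective _ n
    exact h.nc (isConj_iff.2 ⟨n, h.q_lift (p3 ((oc n z).trans h.z3)) (p3 h.q_y3) hn⟩)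
  Ny n hn := by
    obtain ⟨n, rfl⟩ := QuotientGroup.mk'_surjective _ n
    rw [← Set.image_pair, ← MonoidHom.map_closure]
    exact le_normalizer_map π (mem_map_of_mem _ (h.Ny (h.q_n h.q_y3 hn)))
  cc := (QuotientGroup.eq_one_iff _).2 cc
  cz := congrArg π (mul_inv_eq_iff_eq_mul.2 cz)
  cJ := congrArg π (mul_inv_eq_iff_eq_mul.2 cJ)
  hC n hn := by
    obtain ⟨n, rfl⟩ := QuotientGroup.mk'_surjective _ n
    rw [← Set.image_pair, ← MonoidHom.map_closure, ← MonoidHom.map_zpowers, ← Subgroup.map_sup]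
    exact mem_map_of_mem _ (hC (mem_cD.2 ⟨h.q_c h.z3 (mem_cD.1 hn).1, h.q_c h.q_j3 (mem_cD.1 hn).2⟩))
  out e := h.q_t1 (h.st.symm.trans (commutatorElement_eq_one_iff_commute.2 (h.q_cen (x := v * s * v⁻¹) e).symm))

end KD

end Cfsg.Lib.Mc3
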