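import Cfsg.Agent.Lib.Mc3.F0
import Cfsg.Agent.Lib.Mc3.F1
import Cfsg.Agent.Lib.PGrp.Extra
import Cfsg.Agent.Lib.PGrp.Critical
import Cfsg.Agent.Lib.Hall.Product

/-! The Sylow 3-subgroup of a group of McLaughlin 3-local type. -/

set_option autoImplicit false

namespace Cfsg.Lib.Mc3

open Subgroup Cfsg.Lib.Amalg Cfsg.Lib.Core
open scoped commutatorElement

variable {G : Type*} [Group G]

/-- A homomorphism from `L` onto `X` with kernel `N`, as a function on `G`. -/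
structure PH {X : Type*} [Group X] (L N : Subgroup G) (θ : G → X) : Prop where
  mul : ∀ {x y}, x ∈ L → y ∈ L → θ (x * y) = θ x * θ y
  sur : ∀ a, ∃ x ∈ L, θ x = a
  ker : ∀ {x}, x ∈ L → (θ x = 1 ↔ x ∈ N)
  le : N ≤ L

theorem exists_PH {X : Type*} [Group X] {L N : Subgroup G} (h : N ≤ L) [(N.subgroupOf L).Normal] (e : L ⧸ N.subgroupOf L ≃* X) :
    ∃ θ : G → X, PH L N θ := by
  classical
  refine ⟨fun g => if h : g ∈ L then e (⟨g, h⟩ : L) else 1, fun {x y} a b => ?_, fun a => ?_, fun {x} a => ?_, h⟩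
  · rw [dif_pos a, dif_pos b, dif_pos (mul_mem a b), ← map_mul]; rfl
  · obtain ⟨x, rfl⟩ := e.surjective a
    obtain ⟨x, rfl⟩ := QuotientGroup.mk_surjective x
    exact ⟨x, x.2, dif_pos x.2⟩
  · rw [dif_pos a, map_eq_one_iff _ e.injective, QuotientGroup.eq_one_iff]; rfl

namespace PH
variable {X : Type*} [Group X] {L N : Subgroup G} {θ : G → X} (h : PH L N θ)
include h

/-- The homomorphism on the subgroup. -/
def hom : L →* X := MonoidHom.mk' (fun x => θ x) fun a b => h.mul a.2 b.2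
theorem inv {x : G} (a : x ∈ L) : θ x⁻¹ = (θ x)⁻¹ := h.hom.map_inv ⟨x, a⟩
theorem pow {x : G} (a : x ∈ L) (n : ℕ) : θ (x ^ n) = θ x ^ n := h.hom.map_pow ⟨x, a⟩ n
theorem cn {g x : G} (a : g ∈ L) (b : x ∈ L) : θ (g * x * g⁻¹) = θ g * θ x * (θ g)⁻¹ := by
  rw [h.mul (mul_mem a b) (inv_mem a), h.mul a b, h.inv a]
theorem eq {x y : G} (a : x ∈ L) (b : y ∈ L) : θ x = θ y ↔ x⁻¹ * y ∈ N := by
  rw [← h.ker (mul_mem (inv_mem a) b), h.mul (inv_mem a) b, h.inv a, inv_mul_eq_one]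
theorem tw (g : X) : PH L N fun x => g * θ x * g⁻¹ :=
  ⟨fun a b => by rw [h.mul a b, conj_mul], fun a => let ⟨x, b, c⟩ := h.sur (g⁻¹ * a * g); ⟨x, b, by rw [c]; group⟩,
    fun a => by rw [conj_eq_one_iff, h.ker a], h.le⟩
/-- The image of a subgroup. -/
def im (B : Subgroup G) : Subgroup X := (B.subgroupOf L).map h.hom
theorem mem_im {B : Subgroup G} {a : X} : a ∈ h.im B ↔ ∃ x ∈ B, x ∈ L ∧ θ x = a :=
  ⟨fun ⟨x, b, c⟩ => ⟨x, b, x.2, c⟩, fun ⟨x, b, c, d⟩ => ⟨⟨x, c⟩, b, d⟩⟩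
theorem card_im {B : Subgroup G} (l : B ≤ L) : Nat.card B = Nat.card (h.im B) * Nat.card ↥(B ⊓ N) := by
  let f := h.hom.comp (inclusion l)
  have a : f.range = h.im B := by ext; rw [h.mem_im]; exact ⟨fun ⟨x, c⟩ => ⟨x, x.2, l x.2, c⟩, fun ⟨x, b, _, d⟩ => ⟨⟨x, b⟩, d⟩⟩
  have b : f.ker = (B ⊓ N).subgroupOf B := by ext x; rw [inf_subgroupOf_left]; exact h.ker (l x.2)
  rw [← a, ← card_subgroupOf_of_le (inf_le_left : B ⊓ N ≤ B), ← b, ← index_ker, mul_comm, card_mul_index]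
theorem im_top : h.im L = ⊤ := eq_top_iff.2 fun a _ => let ⟨x, b, c⟩ := h.sur a; h.mem_im.2 ⟨x, b, b, c⟩
end PH

theorem dihedral {t x : G} (ht : t * t = 1) (hx : t * x * (t * x) = 1) (h3 : x ^ 3 = 1) : x * t * x⁻¹ = t * x := by
  have b : x * t = t * x⁻¹ := eq_mul_inv_of_mul_eq (mul_left_cancel (a := t) (by rw [ht, ← hx]; group))
  rw [b, mul_assoc, ← mul_inv_rev, inv_eq_of_mul_eq_one_right (by rw [← h3]; simp [pow_succ] : x * x * x = 1)]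

/-- The 3-local hypotheses. -/
structure H3 (S Q J L M : Subgroup G) (z : G) (θ : G → S25) (π : G → A6) : Prop where
  syl : Syl 3 S ⊤
  z3 : orderOf z = 3
  ZS : S ⊓ centralizer (S : Set G) = zpowers z
  ZQ : Q ⊓ centralizer (Q : Set G) = zpowers z
  Qc : ∀ x ∈ Q, ∀ y ∈ Q, ⁅x, y⁆ ∈ zpowers z
  Q3 : ∀ x ∈ Q, x ^ 3 = 1
  cQ : Nat.card Q = 243
  CQ : centralizer (Q : Set G) ≤ Q
  QS : Q ≤ S
  Lz : L ≤ centralizer {z}
  nQ : normalizer (zpowers z : Set G) ≤ normalizer (Q : Set G)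
  nL : normalizer (zpowers z : Set G) ≤ normalizer (L : Set G)
  L3 : ∀ g ∈ normalizer (zpowers z : Set G), ∀ k, g ^ 3 ^ k = 1 → g ∈ L
  pθ : PH L Q θ
  JS : J ≤ S
  Jc : ∀ x ∈ J, ∀ y ∈ J, x * y = y * x
  J3 : ∀ x ∈ J, x ^ 3 = 1
  cJ : Nat.card J = 81
  M3 : ∀ g ∈ normalizer (J : Set G), ∀ k, g ^ 3 ^ k = 1 → g ∈ M
  MJ : M ≤ normalizer (J : Set G)
  pπ : PH M J π

/-- Elements fixing `q` modulo `z`. -/
def Tq (z q : G) : Subgroup G where
  carrier := {g | g * z = z * g ∧ g * q * g⁻¹ * q⁻¹ ∈ zpowers z}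
  one_mem' := ⟨by simp, by simp⟩
  mul_mem' {a b} h k := ⟨(Commute.mul_left h.1 k.1 :), by
    obtain ⟨n, e⟩ := k.2
    have : a * b * q * (a * b)⁻¹ * q⁻¹ = a * (b * q * b⁻¹ * q⁻¹) * a⁻¹ * (a * q * a⁻¹ * q⁻¹) := by group
    rw [this, ← e, (Commute.zpow_right h.1 n).eq, mul_inv_cancel_right]; exact mul_mem ⟨n, rfl⟩ h.2⟩
  inv_mem' {a} h := ⟨(Commute.inv_left h.1 :), by
    obtain ⟨n, e⟩ := h.2
    have : a⁻¹ * q * a⁻¹⁻¹ * q⁻¹ = a⁻¹ * (a * q * a⁻¹ * q⁻¹)⁻¹ * a := by group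
    rw [this, ← e, ((Commute.zpow_right h.1 n).inv_inv).eq, inv_mul_cancel_right]; exact inv_mem ⟨n, rfl⟩⟩

theorem nz_of {z g : G} (h : g * z = z * g) : g ∈ normalizer (zpowers z : Set G) :=
  cj_eq_self_iff.1 (by rw [cj_zpowers, h, mul_inv_cancel_right])

namespace H3
variable {S Q J L M : Subgroup G} {z : G} {θ : G → S25} {π : G → A6} (h : H3 S Q J L M z θ π)
include h

theorem zQ : zpowers z ≤ Q := h.ZQ.ge.trans inf_le_left
theorem cS {x y : G} (hx : x ∈ S) (hy : y ∈ zpowers z) : x * y = y * x := (h.ZS.ge hy).2 x hx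
theorem Sz {x : G} (hx : x ∈ S) : x * z = z * x := h.cS hx (mem_zpowers z)
theorem zL {x : G} (hx : x ∈ L) : x * z = z * x := mem_centralizer_singleton_iff.1 (h.Lz hx)
theorem cL {x y : G} (hx : x ∈ L) (hy : y ∈ zpowers z) : x * y = y * x := by
  obtain ⟨n, rfl⟩ := hy; exact Commute.zpow_right (h.zL hx) n
theorem SL : S ≤ L := fun x hx => let ⟨k, e⟩ := isPGroup_iff_mem.1 h.syl.isPGroup x hx; h.L3 x (nz_of (h.Sz hx)) k e
theorem Ln {g x : G} (a : g ∈ L) (b : x ∈ Q) : g * x * g⁻¹ ∈ Q := conj_mem_of_mem_normalizer (h.nQ (nz_of (h.zL a))) b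
theorem cZ : Nat.card (zpowers z) = 3 := by rw [Nat.card_zpowers, h.z3]
theorem nSz : normalizer (S : Set G) ≤ normalizer (zpowers z : Set G) := fun g a => by
  rw [← h.ZS, ← cj_eq_self_iff, cj_inf, cj_centralizer, cj_eq_self_iff.2 a]

/-- Elements of `Q` fixed by `g` modulo `z`. -/
def Fq (g : L) : Subgroup G where
  carrier := {q | q ∈ Q ∧ g.1 ∈ Tq z q}
  one_mem' := ⟨one_mem _, h.zL g.2, by simp⟩
  mul_mem' {a b} k l := ⟨mul_mem k.1 l.1, k.2.1, by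
    have : g * (a * b) * g.1⁻¹ * (a * b)⁻¹ = g * a * g.1⁻¹ * ((g * b * g.1⁻¹ * b⁻¹) * a⁻¹) := by group
    rw [this, ← h.cS (h.QS (inv_mem k.1)) l.2.2, ← mul_assoc]; exact mul_mem k.2.2 l.2.2⟩
  inv_mem' {a} k := ⟨inv_mem k.1, k.2.1, by
    have : g * a⁻¹ * g.1⁻¹ * a⁻¹⁻¹ = a⁻¹ * (g * a * g.1⁻¹ * a⁻¹)⁻¹ * a := by group
    rw [this, h.cS (h.QS (inv_mem k.1)) (inv_mem k.2.2), inv_mul_cancel_right]; exact inv_mem k.2.2⟩

theorem QT {q : G} (a : q ∈ Q) : Q ≤ Tq z q := fun x b => ⟨h.Sz (h.QS b), h.Qc x b q a⟩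

theorem cover {t : G} (a : t ∈ L) (b : θ t = -1) (c : t * t = 1) (x : S25) : ∃ l ∈ L, l * t = t * l ∧ θ l = x := by
  obtain ⟨l, d, rfl⟩ := h.pθ.sur x
  have e := mul_mem (mul_mem d a) (inv_mem d)
  have f : t * (l * t * l⁻¹) ∈ Q := (h.pθ.ker (mul_mem a e)).1 (by rw [h.pθ.mul a e, h.pθ.cn d a, b]; simp)
  have := dihedral c (by rw [← mul_assoc t t, c, one_mul, conj_mul, c, mul_one, mul_inv_cancel]) (h.Q3 _ f)
  rw [← mul_assoc t t, c, one_mul] at this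
  generalize t * (l * t * l⁻¹) = y at f this
  refine ⟨y⁻¹ * l, mul_mem (inv_mem (h.pθ.le f)) d, ?_, by rw [h.pθ.mul (inv_mem (h.pθ.le f)) d, (h.pθ.ker (inv_mem (h.pθ.le f))).2 (inv_mem f), one_mul]⟩
  calc _ = y⁻¹ * (l * t * l⁻¹) * l := by group
    _ = _ := by rw [← this]; group

variable [Finite G]

theorem cardS : Nat.card S = 729 := by
  haveI : Fact (Nat.Prime 3) := ⟨Nat.prime_three⟩
  have a := h.pθ.card_im le_rfl
  rw [h.pθ.im_top, card_top, s_card, inf_eq_right.2 h.pθ.le, h.cQ] at a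
  have b := card_mul_relIndex h.SL
  have c := (h.syl.of_le h.SL le_top).not_dvd_relIndex
  obtain ⟨k, e⟩ := h.syl.isPGroup.exists_card_eq
  have d : 3 ^ 6 ∣ 3 ^ k := e ▸ (Nat.Coprime.pow_left 6 ((Nat.Prime.coprime_iff_not_dvd Nat.prime_three).2 c)).dvd_of_dvd_mul_right (by rw [b, a]; norm_num)
  have f : ¬ 7 ≤ k := fun f => absurd ((pow_dvd_pow 3 f).trans (e ▸ Dvd.intro _ (b.trans a))) (by norm_num)
  rw [e, le_antisymm (by omega : k ≤ 6) ((Nat.pow_dvd_pow_iff_le_right (by norm_num)).1 d)]; rfl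

theorem maxab {A : Subgroup G} (l : A ≤ Q) (c : ∀ x ∈ A, ∀ y ∈ A, x * y = y * x) (n : 27 ≤ Nat.card A) :
    Q ⊓ centralizer (A : Set G) = A ∧ Nat.card A = 27 := by
  haveI : Fact (Nat.Prime 3) := ⟨Nat.prime_three⟩
  have a := PGrp.relIndex_centralizer_mul_le (p := 3) (A := A) (h.syl.isPGroup.to_le h.QS) h.cZ.le fun a b c d => h.Qc a (l b) c d
  have b := card_inf_mul_relIndex (centralizer (Q : Set G)) A
  have d := card_le_of_le (le_trans (le_inf (inf_le_right.trans l) inf_le_left) h.ZQ.le : centralizer (Q : Set G) ⊓ A ≤ _)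
  have e : A ≤ Q ⊓ centralizer (A : Set G) := le_inf l fun x hx y hy => c y hy x hx
  have f := card_le_of_le e
  rw [h.cZ] at d
  rw [h.cQ] at a
  have : Nat.card ↥(Q ⊓ centralizer (A : Set G)) ≤ 27 := by nlinarith
  exact ⟨(eq_of_le_of_card_ge e (by omega)).symm, by omega⟩

theorem ct {t : G} (a : t ∈ L) (b : θ t = -1) (c : t * t = 1) {q : G} (hq : q ∈ Q) (e : q * t = t * q) : q ∈ zpowers z := by
  haveI : Fact (Nat.Prime 3) := ⟨Nat.prime_three⟩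
  haveI : Fact (Nat.Prime 5) := ⟨Nat.prime_five⟩
  by_contra n
  obtain ⟨f, f5, f1⟩ := s_five
  obtain ⟨l, d, k, rfl⟩ := h.cover a b c f
  have l5 : (l ^ 6) ^ 5 ^ 1 = 1 := by
    have := h.Q3 _ ((h.pθ.ker (pow_mem d 5)).1 (by rw [h.pθ.pow d, f5]))
    rw [← pow_mul] at this ⊢; rw [show 6 * 5 ^ 1 = 5 * 3 * 2 from rfl, pow_mul, this, one_pow]
  have m : zpowers (l ^ 6) ≤ normalizer (Q : Set G) := zpowers_le.2 (pow_mem (h.nQ (nz_of (h.zL d))) 6)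
  have c1 := PGrp.card_modEq_card_inf_centralizer (isPGroup_zpowers_of_pow l5) m
  have c2 := PGrp.card_modEq_card_inf_centralizer (H := Q ⊓ centralizer {t}) (isPGroup_zpowers_of_pow l5) (le_normalizer_inf m
    (zpowers_le.2 (le_normalizer (pow_mem (mem_centralizer_singleton_iff.2 k) 6))))
  have z1 : zpowers z ≤ Q ⊓ centralizer {t} ⊓ centralizer (zpowers (l ^ 6) : Set G) := zpowers_le.2 ⟨⟨h.zQ (mem_zpowers z),
    mem_centralizer_singleton_iff.2 (h.zL a).symm⟩, fun x hx => h.zL (zpowers_le.2 (pow_mem d 6) hx)⟩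
  have lt : zpowers z < Q ⊓ centralizer {t} := lt_of_le_of_ne (z1.trans inf_le_left) fun k => n (k.ge ⟨hq, mem_centralizer_singleton_iff.2 e⟩)
  have n1 : Q ⊓ centralizer {t} < Q := lt_of_le_of_ne inf_le_left fun k => absurd (b.symm.trans ((h.pθ.ker a).2 (h.CQ fun x hx =>
    mem_centralizer_singleton_iff.1 (k.ge hx).2))) (by decide)
  have n2 : Q ⊓ centralizer (zpowers (l ^ 6) : Set G) < Q := lt_of_le_of_ne inf_le_left fun k => f1 (by
    have := (h.pθ.ker (pow_mem d 6)).2 (h.CQ fun x hx => ((k.ge hx).2 _ (mem_zpowers _)).symm)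
    rwa [h.pθ.pow d, pow_succ, f5, one_mul] at this)
  have p : ∀ {A : Subgroup G}, A ≤ Q → Nat.card A ∈ [1, 3, 9, 27, 81, 243] := fun l => by
    have := card_dvd_of_le l
    rw [h.cQ] at this
    exact (by decide +kernel : ∀ n ≤ 243, n ∣ 243 → n ∈ [1, 3, 9, 27, 81, 243]) _ (Nat.le_of_dvd (by norm_num) this) this
  have p1 := p n1.le
  have p2 := p n2.le
  have p3 := p (inf_le_left.trans n1.le : Q ⊓ centralizer {t} ⊓ centralizer (zpowers (l ^ 6) : Set G) ≤ Q)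
  have q1 := card_lt_of_lt' lt
  have q2 := card_lt_of_lt' n1
  have q3 := card_lt_of_lt' n2
  have q4 := card_le_of_le z1
  have q5 := card_le_of_le (inf_le_inf_right _ inf_le_left : Q ⊓ centralizer {t} ⊓ centralizer (zpowers (l ^ 6) : Set G) ≤ Q ⊓ _)
  rw [h.cZ] at q1 q4
  rw [h.cQ] at q2 q3 c1
  simp only [List.mem_cons, List.not_mem_nil, or_false, Nat.ModEq] at p1 p2 p3 c1 c2
  omega

theorem it {t : G} (a : t ∈ L) (b : θ t = -1) (c : t * t = 1) {q : G} (hq : q ∈ Q) : q * (t * q * t⁻¹) ∈ zpowers z := by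
  have m := mul_mem hq (h.Ln a hq)
  refine h.ct a b c m ?_
  have i : t⁻¹ = t := inv_eq_of_mul_eq_one_right c
  have k := h.Qc _ (h.Ln a hq) _ hq
  have e : t * (q * (t * q * t⁻¹)) * t⁻¹ = ⁅t * q * t⁻¹, q⁆ * (q * (t * q * t⁻¹)) := by
    rw [commutatorElement_def, i]; calc
      _ = t * q * t * q * (t * t) := by group
      _ = _ := by rw [c]; group
  generalize ⁅t * q * t⁻¹, q⁆ = y at k e
  generalize q * (t * q * t⁻¹) = x at e
  have e2 : y * y * x = x := by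
    rw [mul_assoc, ← e, ← mul_assoc, ← mul_assoc, ← h.cL a k, mul_assoc t, ← e, i]
    calc _ = t * t * x * (t * t) := by group
      _ = x := by rw [c, one_mul, mul_one]
  have : y = 1 := by
    have := h.Q3 y (h.zQ k)
    rwa [pow_succ, sq, mul_eq_right.1 e2, one_mul] at this
  rw [this, one_mul, mul_inv_eq_iff_eq_mul] at e; exact e.symm

theorem exists_t : ∃ t ∈ L, θ t = -1 ∧ t * t = 1 := by
  obtain ⟨t, a, b⟩ := h.pθ.sur (-1)
  refine ⟨t ^ 3, pow_mem a 3, by rw [h.pθ.pow a, b]; decide, ?_⟩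
  rw [← pow_add, show 3 + 3 = 2 * 3 from rfl, pow_mul]
  exact h.Q3 _ ((h.pθ.ker (pow_mem a 2)).1 (by rw [h.pθ.pow a, b]; decide))

theorem θ3 {j : G} (a : j ∈ S) : θ j ^ 3 = 1 := by
  have b := h.pθ.card_im h.SL
  rw [h.cardS, inf_eq_right.2 h.QS, h.cQ] at b
  have := pow_card_eq_one' (x := (⟨θ j, h.pθ.mem_im.2 ⟨j, a, h.SL a, rfl⟩⟩ : h.pθ.im S))
  rw [show Nat.card (h.pθ.im S) = 3 by omega] at this
  exact congrArg Subtype.val this

theorem small {j : G} (a : j ∈ S) (n : j ∉ Q) : Nat.card (h.Fq ⟨j, h.SL a⟩) < 81 := by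
  by_contra! k
  have jl := h.SL a
  obtain ⟨⟨g, e⟩, -⟩ := s_three _ (h.θ3 a) (mt (h.pθ.ker jl).1 n)
  obtain ⟨g, b, rfl⟩ := h.pθ.sur g
  obtain ⟨t, t1, t2, t3⟩ := h.exists_t
  have j' := mul_mem (mul_mem b jl) (inv_mem b)
  have l : cj g (h.Fq ⟨j, jl⟩) ≤ h.Fq ⟨_, j'⟩ := by
    rintro _ ⟨q, ⟨c, -, d⟩, rfl⟩
    refine ⟨h.Ln b c, h.zL j', ?_⟩
    have := h.cL b d
    convert d using 1
    rw [← mul_inv_eq_iff_eq_mul] at this
    rw [← this]; simp only [MulEquiv.toMonoidHom_eq_coe, MonoidHom.coe_coe, MulAut.conj_apply]; group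
  have c1 := card_le_of_le l
  have c2 := Hall.card_mul_card_le (H := h.Fq ⟨j, jl⟩) (K := h.Fq ⟨_, j'⟩) (L := Q) (fun _ c => c.1) fun _ c => c.1
  have c3 : h.Fq ⟨j, jl⟩ ⊓ h.Fq ⟨_, j'⟩ ≤ zpowers z := fun q ⟨⟨c, d⟩, _, f⟩ => by
    have m := pow_mem (mul_mem jl j') 2
    have i := h.QT c ((h.pθ.eq m t1).1 (by rw [h.pθ.pow (mul_mem jl j'), h.pθ.mul jl j', h.pθ.cn b jl, e, t2]))
    have r := ((mul_mem_cancel_left (inv_mem (pow_mem (mul_mem d f) 2))).1 i).2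
    have s := h.it t1 t2 t3 c
    have : q = (q * (t * q * t⁻¹))⁻¹ * (t * q * t⁻¹ * q⁻¹) := by
      rw [mul_inv_rev, mul_assoc, h.cS (h.QS (inv_mem c)) r, ← mul_assoc, ← mul_assoc, inv_mul_cancel, one_mul, ← mul_inv_rev,
        eq_inv_iff_mul_eq_one, ← h.Q3 q c]; simp [pow_succ, mul_assoc]
    exact this ▸ mul_mem (inv_mem s) r
  have c4 := card_le_of_le c3
  rw [card_cj] at c1
  rw [h.cZ] at c4
  rw [h.cQ] at c2
  nlinarith

end H3

/-- The configuration around the involution `t`. -/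
structure H5 (S Q J L M : Subgroup G) (z : G) (θ : G → S25) (π : G → A6) (t j s u v : G) : Prop extends H3 S Q J L M z θ π where
  nSJ : normalizer (S : Set G) ≤ normalizer (J : Set G)
  nJS : ∀ g ∈ normalizer (J : Set G), g ∈ normalizer (zpowers z : Set G) → g ∈ normalizer (S : Set G)
  CJ : centralizer (J : Set G) ≤ J
  zJ : z ∈ J
  cV : Nat.card ↥(J ⊓ Q) = 27
  CV : Q ⊓ centralizer ((J ⊓ Q : Subgroup G) : Set G) = J ⊓ Q
  JQ : J ⊔ Q = S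
  FV : ∀ x ∈ J, x ∉ Q → ∀ q ∈ Q, x * q * x⁻¹ * q⁻¹ ∈ zpowers z → q ∈ J
  tL : t ∈ L
  tθ : θ t = -1
  tt : t * t = 1
  uu : u * u = t
  uS : u ∈ normalizer (S : Set G)
  vJ : v ∈ normalizer (J : Set G)
  vt : v * t = t * v
  vv : v * v = 1
  vu : v * u * v⁻¹ * u ∈ J
  vc : IsConj t v
  vz : v * z * v⁻¹ = j
  jQ : j ∉ Q
  D : ∀ x ∈ S, x * t = t * x → x ∈ closure {z, j}
  sL : s ∈ L
  st : s * t = t * s
  ss : s * s = t
  sj : s * j * s⁻¹ = j⁻¹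
  sS : s ∈ normalizer (S : Set G)
  pts : ∀ y ∈ closure {z, j}, IsConj z y → y ∈ zpowers z ∨ y ∈ zpowers j
  sylD : Syl 3 (closure {z, j}) (centralizer {t})
  Ny : ∀ g ∈ normalizer (zpowers (z * j) : Set G), g ∈ normalizer (J : Set G)

end Cfsg.Lib.Mc3
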