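import Cfsg.Agent.Lib.Mc3.L1

/-! The elementary abelian subgroup of order 81. -/

set_option autoImplicit false

namespace Cfsg.Lib.Mc3

open Subgroup Cfsg.Lib.Amalg Cfsg.Lib.Core
open scoped commutatorElement

variable {G : Type*} [Group G] [Finite G]

namespace H3
variable {S Q J L M : Subgroup G} {z : G} {θ : G → S25} {π : G → A6} (h : H3 S Q J L M z θ π)
include h

theorem ab1 {I : Subgroup G} (l : I ≤ S) (c : ∀ x ∈ I, ∀ y ∈ I, x * y = y * x) (n : Nat.card I = 81) :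
    Nat.card ↥(I ⊓ Q) = 27 ∧ Q ⊓ centralizer ((I ⊓ Q : Subgroup G) : Set G) = I ⊓ Q ∧ I ⊔ Q = S ∧ z ∈ I := by
  have a := card_sup_mul_card_inf (H := I) (K := Q) fun x hx => h.nQ (nz_of (h.Sz (l hx)))
  have b := card_le_of_le (sup_le l h.QS)
  rw [h.cardS] at b
  rw [n, h.cQ] at a
  obtain ⟨d, e⟩ := h.maxab (inf_le_right : I ⊓ Q ≤ Q) (fun x p y q => c x p.1 y q.1) (by nlinarith)
  exact ⟨e, d, eq_of_le_of_card_ge (sup_le l h.QS) (by rw [h.cardS]; rw [e] at a; omega),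
    (d.le ⟨h.zQ (mem_zpowers z), fun x hx => h.Sz (l hx.1)⟩).1⟩

theorem fv {I : Subgroup G} (l : I ≤ S) (c : ∀ x ∈ I, ∀ y ∈ I, x * y = y * x) (n : Nat.card I = 81) {x q : G} (a : x ∈ I) (b : x ∉ Q)
    (d : q ∈ Q) (e : x * q * x⁻¹ * q⁻¹ ∈ zpowers z) : q ∈ I := by
  have k : I ⊓ Q ≤ h.Fq ⟨x, h.SL (l a)⟩ := fun y p => ⟨p.2, h.Sz (l a), by rw [c x a y p.1]; simp⟩
  have c1 := card_le_of_le k
  have c2 := h.small (l a) b
  have c3 := card_dvd_of_le (H := h.Fq ⟨x, h.SL (l a)⟩) (K := Q) fun _ p => p.1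
  rw [h.cQ] at c3
  rw [(h.ab1 l c n).1] at c1
  have := (by decide +kernel : ∀ m < 81, 27 ≤ m → m ∣ 243 → m = 27) _ c2 c1 c3
  exact ((eq_of_le_of_card_ge k (by rw [this, (h.ab1 l c n).1])).ge ⟨d, h.Sz (l a), e⟩).1

theorem zJ : z ∈ J := (h.ab1 h.JS h.Jc h.cJ).2.2.2
theorem JQ : J ⊔ Q = S := (h.ab1 h.JS h.Jc h.cJ).2.2.1
theorem CV : Q ⊓ centralizer ((J ⊓ Q : Subgroup G) : Set G) = J ⊓ Q := (h.ab1 h.JS h.Jc h.cJ).2.1
theorem exJ : ∃ x ∈ J, x ∉ Q := by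
  by_contra! k
  have := (h.ab1 h.JS h.Jc h.cJ).1
  rw [inf_eq_left.2 k, h.cJ] at this; omega

theorem csv {x : G} (a : x ∈ S) (b : ∀ w ∈ J ⊓ Q, w * x = x * w) : x ∈ J := by
  obtain ⟨y, c, q, d, rfl⟩ := (mem_sup_of_le_normalizer fun x hx => h.nQ (nz_of (h.Sz (h.JS hx)))).1 (h.JQ.ge a)
  exact mul_mem c (h.CV.le ⟨d, fun w k => mul_left_cancel (a := y) (by rw [← mul_assoc, ← h.Jc w k.1 y c, mul_assoc, ← mul_assoc y, ← b w k])⟩).1

theorem uniq {I : Subgroup G} (l : I ≤ S) (c : ∀ x ∈ I, ∀ y ∈ I, x * y = y * x) (n : Nat.card I = 81) : I = J := by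
  obtain ⟨x, a, b⟩ := h.exJ
  have k : I ⊓ Q ≤ J ⊓ Q := fun w p => ⟨h.fv h.JS h.Jc h.cJ a b p.2 (((h.ab1 l c n).2.2.1.ge.trans (sup_le
    (fun y r => (⟨h.Sz (l r), by rw [c y r w p.1]; simp⟩ : y ∈ Tq z w)) (h.QT p.2))) (h.JS a)).2, p.2⟩
  have e := eq_of_le_of_card_ge k (by rw [(h.ab1 l c n).1, (h.ab1 h.JS h.Jc h.cJ).1])
  exact eq_of_le_of_card_ge (fun y r => h.csv (l r) fun w p => c w (e.ge p).1 y r) (by rw [n, h.cJ])

theorem cjJ {g : G} (a : cj g J ≤ S) : g ∈ normalizer (J : Set G) :=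
  cj_eq_self_iff.1 (h.uniq a (by
    rintro _ ⟨x, p, rfl⟩ _ ⟨y, q, rfl⟩
    rw [← map_mul, h.Jc x p y q, map_mul]) (by rw [card_cj, h.cJ]))

theorem nSJ : normalizer (S : Set G) ≤ normalizer (J : Set G) := fun _ a => h.cjJ (cj_le_iff'.2 fun _ p => conj_mem_of_mem_normalizer a (h.JS p))
theorem SJ : S ≤ normalizer (J : Set G) := le_normalizer.trans h.nSJ
theorem nJS (g : G) (a : g ∈ normalizer (J : Set G)) (b : g ∈ normalizer (zpowers z : Set G)) : g ∈ normalizer (S : Set G) := by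
  rw [← h.JQ, ← cj_eq_self_iff, cj_sup, cj_eq_self_iff.2 a, cj_eq_self_iff.2 (h.nQ b)]

theorem loc {R : Subgroup G} (p : IsPGroup 3 R) (n : J ≤ normalizer (R : Set G)) : R ≤ normalizer (J : Set G) := by
  haveI : Fact (Nat.Prime 3) := ⟨Nat.prime_three⟩
  obtain ⟨g, -, a⟩ := h.syl.exists_conj_le (isPGroup_sup_of_le_normalizer (h.syl.isPGroup.to_le h.JS) p n) le_top
  rw [cj_sup, sup_le_iff] at a
  intro x b
  have := h.SJ (a.2 (conj_mem_cj g b))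
  rwa [mul_mem_cancel_right (inv_mem (h.cjJ a.1)), mul_mem_cancel_left (h.cjJ a.1)] at this

theorem cube {c : G} (a : c * z = z * c) (b : ∀ q ∈ Q, c * q * c⁻¹ * q⁻¹ ∈ J) : c ^ 3 ^ 2 = 1 := by
  have n : ∀ q ∈ Q, c * q * c⁻¹ ∈ Q := fun q => conj_mem_of_mem_normalizer (h.nQ (nz_of a))
  have f : ∀ y ∈ zpowers z, c * y * c⁻¹ = y := by
    rintro _ ⟨m, rfl⟩; exact mul_inv_eq_iff_eq_mul.2 (Commute.zpow_right a m)
  have k : ∀ w ∈ J, w ∈ Q → c * w * c⁻¹ * w⁻¹ ∈ zpowers z := fun w p r => by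
    have w1 : c * w * c⁻¹ ∈ J := by simpa using mul_mem (b w r) p
    have : w⁻¹ * (c * w * c⁻¹) ∈ zpowers z := h.ZQ.le ⟨Q.mul_mem (Q.inv_mem r) (n w r), fun q s => by
      have e1 := f _ (h.Qc w r q s)
      have e2 := h.Jc _ w1 _ (b q s)
      have e3 := h.cS (h.JS (b q s)) (h.Qc _ (n w r) q s)
      have e4 : ⁅c * w * c⁻¹, q⁆ = ⁅w, q⁆ := by
        rw [← e1, ← mul_inv_eq_iff_eq_mul.2 e3]
        simp only [commutatorElement_def]
        calc _ = (c * q * c⁻¹ * q⁻¹ * (c * w * c⁻¹)) * q * (c * w * c⁻¹)⁻¹ * q⁻¹ * (c * q * c⁻¹ * q⁻¹)⁻¹ := by group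
          _ = _ := by rw [← e2]; group
      simp only [commutatorElement_def] at e4
      calc _ = w⁻¹ * (w * q * w⁻¹ * q⁻¹) * q * (c * w * c⁻¹) := by group
        _ = _ := by rw [← e4]; group⟩
    rwa [h.Jc _ (inv_mem p) _ w1] at this
  have : c ^ 3 ∈ Q := h.CQ fun q s => by
    have x1 := b q s
    have x2 := mul_mem (n q s) (inv_mem s)
    have y1 := k _ x1 x2
    have y2 := f _ y1
    have e1 : c * q * c⁻¹ = c * q * c⁻¹ * q⁻¹ * q := by group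
    generalize c * q * c⁻¹ * q⁻¹ = x at x1 x2 y1 y2 e1
    have e2 : c * x * c⁻¹ = c * x * c⁻¹ * x⁻¹ * x := by group
    generalize c * x * c⁻¹ * x⁻¹ = y at y1 y2 e2
    have e3 : Commute x y := h.cS (h.QS x2) y1
    have e4 : c * (c * (c * q * c⁻¹) * c⁻¹) * c⁻¹ = y * (y * x) * (y * x) * x * q := by
      have a1 : c * (x * q) * c⁻¹ = y * x * (x * q) := by rw [← conj_mul, e1, e2]
      rw [e1, a1, ← conj_mul, ← conj_mul, y2, e2, a1]; simp only [mul_assoc]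
    have e5 : y * (y * x) * (y * x) * x = y ^ 3 * x ^ 3 := by
      simp only [pow_succ, pow_zero, one_mul, mul_assoc]; rw [← mul_assoc x y, e3.eq, mul_assoc]
    rw [e5, h.Q3 x x2, h.Q3 y (h.zQ y1), one_mul, one_mul] at e4
    calc _ = c * (c * (c * q * c⁻¹) * c⁻¹) * c⁻¹ * c ^ 3 := by rw [e4]
      _ = _ := by simp only [pow_succ, pow_zero, one_mul, mul_assoc, inv_mul_cancel_left, inv_mul_cancel, mul_one]
  rw [sq, pow_mul, h.Q3 _ this]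

theorem CJ : centralizer (J : Set G) ≤ J := by
  have : centralizer (J : Set G) ≤ S := h.syl.le_of_le_normalizer (isPGroup_iff_mem.2 fun c a => ⟨2, h.cube (a z h.zJ).symm fun q s =>
    (h.CV.le ⟨Q.mul_mem (conj_mem_of_mem_normalizer (h.nQ (nz_of (a z h.zJ).symm)) s) (Q.inv_mem s), fun w p => by
      have e := a _ (conj_mem_of_mem_normalizer (h.SJ (h.QS (inv_mem s))) p.1)
      have e' := a w p.1
      calc _ = w * c * (q * c⁻¹ * q⁻¹) := by group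
        _ = c * q * (q⁻¹ * w * q⁻¹⁻¹) * c⁻¹ * q⁻¹ := by rw [e']; group
        _ = c * q * c⁻¹ * (c * (q⁻¹ * w * q⁻¹⁻¹)) * c⁻¹ * q⁻¹ := by group
        _ = _ := by rw [← e]; group⟩).1⟩) le_top
    (h.SJ.trans fun g a => by rw [← cj_eq_self_iff, cj_centralizer, cj_eq_self_iff.2 a])
  exact fun c a => h.csv (this a) fun w p => a w p.1

theorem SM : S ≤ M := fun x hx => let ⟨k, e⟩ := isPGroup_iff_mem.1 h.syl.isPGroup x hx; h.M3 x (h.SJ hx) k e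

theorem std : ∃ π', H3 S Q J L M z θ π' ∧ ∀ x ∈ M, x ∈ S ↔ π' x ∈ P0 := by
  haveI : Fact (Nat.Prime 3) := ⟨Nat.prime_three⟩
  have a := h.pπ.card_im h.SM
  rw [h.cardS, inf_eq_right.2 h.JS, h.cJ] at a
  have b : Nat.card (h.pπ.im S) = 3 ^ 2 := by omega
  have c := card_mul_index (h.pπ.im S)
  have d : Nat.card A6 = 360 := by
    have := two_mul_nat_card_alternatingGroup (α := Fin 6)
    rw [Nat.card_perm, Nat.card_fin] at this
    exact Nat.eq_of_mul_eq_mul_left two_pos this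
  obtain ⟨g, -, e⟩ := (syl_of_not_dvd le_top (.of_card b) (by rw [relIndex_top_right]; rw [b, d] at c; omega)).exists_conj_le P0_p le_top
  have f := eq_of_le_of_card_ge e (by rw [card_cj, P0_card, b]; rfl)
  refine ⟨_, { h with pπ := h.pπ.tw g⁻¹ }, fun x p => ?_⟩
  rw [inv_inv, ← mem_cj, f, h.pπ.mem_im]
  exact ⟨fun q => ⟨x, q, p, rfl⟩, fun ⟨y, q, r, s⟩ => (mul_mem_cancel_left (inv_mem q)).1 (h.JS ((h.pπ.eq r p).1 s))⟩

end H3
end Cfsg.Lib.Mc3
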