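import Cfsg.Agent.Lib.Mc3.L2

/-! The involution `t` and the elements `j, s, u, v`. -/

set_option autoImplicit false

namespace Cfsg.Lib.Mc3

open Subgroup Cfsg.Lib.Amalg Cfsg.Lib.Core
open scoped commutatorElement

theorem P0_ab {x y : A6} (a : x ∈ P0) (b : y ∈ P0) : x ^ 3 = 1 ∧ Commute x y := by
  have c : Commute a0 b0 := ab_ok.2.2.2.2.1
  obtain ⟨_, ⟨m, rfl⟩, _, ⟨n, rfl⟩, rfl⟩ := (mem_sup_of_le_normalizer P0_n).1 a
  obtain ⟨_, ⟨k, rfl⟩, _, ⟨l, rfl⟩, rfl⟩ := (mem_sup_of_le_normalizer P0_n).1 b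
  refine ⟨?_, ((Commute.zpow_zpow_self a0 m k).mul_right (c.zpow_zpow m l)).mul_left ((c.symm.zpow_zpow n k).mul_right (Commute.zpow_zpow_self b0 n l))⟩
  rw [(c.zpow_zpow m n).mul_pow, ← zpow_natCast, ← zpow_natCast, zpow_comm a0, zpow_comm b0, zpow_natCast, zpow_natCast, ab_ok.1, ab_ok.2.1]; simp

variable {G : Type*} [Group G] [Finite G]

/-- The involutions `t`, `v` inside `M`. -/
structure H4 (S Q J L M : Subgroup G) (z : G) (θ : G → S25) (π : G → A6) (t u v : G) : Prop extends H3 S Q J L M z θ π where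
  P : ∀ x ∈ M, x ∈ S ↔ π x ∈ P0
  tL : t ∈ L
  tθ : θ t = -1
  tt : t * t = 1
  uu : u * u = t
  uS : u ∈ normalizer (S : Set G)
  tM : t ∈ M
  vM : v ∈ M
  tπ : π t = t0
  vπ : π v = v0
  vt : v * t = t * v
  vv : v * v = 1
  vu : v * u * v⁻¹ * u ∈ J
  vc : IsConj t v

theorem H3.exists_H4 {S Q J L M : Subgroup G} {z : G} {θ : G → S25} {π : G → A6} (h : H3 S Q J L M z θ π) :
    ∃ π' t u v, H4 S Q J L M z θ π' t u v := by
  obtain ⟨π, h, P⟩ := h.std
  obtain ⟨-, -, -, -, -, -, -, -, -, -, -, k1, k2, k3, k4, k5, k6⟩ := ab_ok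
  obtain ⟨w, a, b⟩ := h.pπ.sur u0
  have u4 : u0 ^ 4 = 1 := by rw [show u0 ^ 4 = u0 * u0 * (u0 * u0) by simp [pow_succ, mul_assoc], k1, k2]
  have um := pow_mem a 9
  have uπ : π (w ^ 9) = u0 := by rw [h.pπ.pow a, b, show 9 = 4 * 2 + 1 from rfl, pow_succ, pow_mul, u4]; simp
  have uu : w ^ 9 * w ^ 9 * (w ^ 9 * w ^ 9) = 1 := by
    have := h.J3 _ ((h.pπ.ker (pow_mem a 4)).1 (by rw [h.pπ.pow a, b, u4]))
    rw [← pow_add, ← pow_add, show 9 + 9 + (9 + 9) = 4 * 3 * 3 from rfl, pow_mul, pow_mul, this, one_pow]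
  generalize w ^ 9 = u at um uπ uu
  have uS : u ∈ normalizer (S : Set G) := mem_normalizer_of_conj_mem fun x p => (P _ (mul_mem (mul_mem um (h.SM p)) (inv_mem um))).2 (by
    rw [h.pπ.cn um (h.SM p), uπ]; exact (P0_u ((P x (h.SM p)).1 p)).1)
  have tM := mul_mem um um
  have tπ : π (u * u) = t0 := by rw [h.pπ.mul um um, uπ, k1]
  have z3 : z ^ 3 = 1 := h.z3 ▸ pow_orderOf_eq_one z
  have tz : u * u * z = z * (u * u) := by
    refine mul_inv_eq_iff_eq_mul.1 ((by group : u * u * z * (u * u)⁻¹ = u * (u * z * u⁻¹) * u⁻¹).trans ?_)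
    rcases mem3 z3 (conj_mem_of_mem_normalizer (h.nSz uS) (mem_zpowers z)) with e | e | e
    · have := h.z3; rw [conj_eq_one_iff.1 e, orderOf_one] at this; omega
    · rw [e, e]
    · rw [e, ← conj_inv, e, inv_inv]
  have tS := mul_mem uS uS
  generalize e : u * u = t at tM tπ tz tS uu
  obtain ⟨t', a1, a2, a3⟩ := h.exists_t
  have tL : t ∈ L := by
    refine (mul_mem_cancel_left a1).1 (h.L3 _ (nz_of ?_) 2 (h.cube ?_ fun q s => ?_))
    · exact Commute.mul_left (h.zL a1) tz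
    · exact Commute.mul_left (h.zL a1) tz
    have s1 := conj_mem_of_mem_normalizer (h.nQ (nz_of tz)) s
    have s2 : t * q * t⁻¹ * q ∈ J := (h.pπ.ker (h.SM (h.QS (mul_mem s1 s)))).1 (by
      rw [h.pπ.mul (h.SM (h.QS s1)) (h.SM (h.QS s)), h.pπ.cn tM (h.SM (h.QS s)), tπ]; exact (P0_u ((P q (h.SM (h.QS s))).1 (h.QS s))).2)
    have s3 := zpowers_le.2 h.zJ (h.it a1 a2 a3 s1)
    have : t' * t * q * (t' * t)⁻¹ * q⁻¹ = (t * q * t⁻¹)⁻¹ * (t * q * t⁻¹ * (t' * (t * q * t⁻¹) * t'⁻¹) * (t * q * t⁻¹ * q)⁻¹) * (t * q * t⁻¹)⁻¹⁻¹ := by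
      group
    exact this ▸ conj_mem_of_mem_normalizer (h.SJ (h.QS (inv_mem s1))) (mul_mem s3 (inv_mem s2))
  have tθ : θ t = -1 := (s_sq _ (by rw [← h.pθ.mul tL tL, uu]; exact (h.pθ.ker (one_mem _)).2 (one_mem _))).resolve_left fun k => by
    have := h.Q3 t ((h.pθ.ker tL).1 k)
    rw [pow_succ, sq, uu, one_mul] at this
    exact k3 (by rw [← tπ, this]; exact (h.pπ.ker (one_mem _)).2 (one_mem _))
  obtain ⟨g, gM, gπ⟩ := h.pπ.sur g0
  have v1 := mul_mem (mul_mem gM tM) (inv_mem gM)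
  have v2 : π (g * t * g⁻¹) = v0 := by rw [h.pπ.cn gM tM, gπ, tπ, k4]
  have v3 : g * t * g⁻¹ * (g * t * g⁻¹) = 1 := by rw [conj_mul, uu, mul_one, mul_inv_cancel]
  have v4 : IsConj t (g * t * g⁻¹) := isConj_iff.2 ⟨g, rfl⟩
  generalize g * t * g⁻¹ = y at v1 v2 v3 v4
  have vv0 : v0 * v0 = 1 := by rw [← k4, conj_mul, k2, mul_one, mul_inv_cancel]
  have m := mul_mem v1 tM
  have m6 : ((y * t) ^ 2) ^ 3 = 1 := h.J3 _ ((h.pπ.ker (pow_mem m 2)).1 (by
    rw [h.pπ.pow m, h.pπ.mul v1 tM, v2, tπ, (show Commute v0 t0 from k5).mul_pow, sq, sq, vv0, k2, one_mul]))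
  have i1 := inv_eq_of_mul_eq_one_right uu
  have i2 := inv_eq_of_mul_eq_one_right v3
  have vM := mul_mem (mul_mem m v1) (inv_mem m)
  have vπ : π (y * t * y * (y * t)⁻¹) = v0 := by
    rw [h.pπ.cn m v1, h.pπ.mul v1 tM, v2, tπ, mul_inv_eq_iff_eq_mul, mul_assoc, ← k5]
  refine ⟨π, t, u, y * t * y * (y * t)⁻¹, h, P, tL, tθ, uu, e, uS, tM, vM, tπ, vπ, ?_, by rw [conj_mul, v3, mul_one, mul_inv_cancel], ?_,
    v4.trans (isConj_iff.2 ⟨_, rfl⟩)⟩
  · rw [← pow_mul, show 2 * 3 = 3 + 3 from rfl, pow_add, mul_eq_one_iff_eq_inv] at m6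
    simp only [pow_succ, pow_zero, one_mul, mul_inv_rev, i1, i2, mul_assoc] at m6 ⊢
    exact m6
  · exact (h.pπ.ker (mul_mem (mul_mem (mul_mem vM um) (inv_mem vM)) um)).1 (by
      rw [h.pπ.mul (mul_mem (mul_mem vM um) (inv_mem vM)) um, h.pπ.cn vM um, vπ, uπ, k6])

namespace H4
variable {S Q J L M : Subgroup G} {z : G} {θ : G → S25} {π : G → A6} {t u v : G} (h : H4 S Q J L M z θ π t u v)
include h

theorem key {R : Subgroup G} (p : IsPGroup 3 R) (n : J ≤ normalizer (R : Set G)) (a : t ∈ normalizer (R : Set G))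
    (b : v ∈ normalizer (R : Set G)) : R ≤ J := by
  haveI : Fact (Nat.Prime 3) := ⟨Nat.prime_three⟩
  have l : R ≤ M := fun x hx => let ⟨k, e⟩ := isPGroup_iff_mem.1 p x hx; h.M3 x (h.loc p n hx) k e
  obtain ⟨m, c, d⟩ := (h.syl.of_le h.SM le_top).exists_conj_le p l
  have k : ∀ x ∈ R, π m * π x * (π m)⁻¹ ∈ P0 := fun x hx => by
    rw [← h.pπ.cn c (l hx)]; exact (h.P _ (h.SM (d (conj_mem_cj m hx)))).1 (d (conj_mem_cj m hx))
  have k' : ∀ x ∈ R, ∀ y ∈ R, Commute (π x) (π y) := fun x hx y hy => by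
    simpa [mul_assoc] using (P0_ab (k x hx) (k y hy)).2.conj (π m)⁻¹
  refine fun x hx => (h.pπ.ker (l hx)).1 (ti ?_ ?_ ?_)
  · have := (P0_ab (k x hx) (k x hx)).1
    rwa [conj_pow, conj_eq_one_iff] at this
  · rw [← h.tπ, ← h.pπ.cn h.tM (l hx)]; exact k' x hx _ (conj_mem_of_mem_normalizer a hx)
  · rw [← h.vπ, ← h.pπ.cn h.vM (l hx)]; exact k' x hx _ (conj_mem_of_mem_normalizer b hx)

theorem nc {y : G} (a : y ∈ J) (b : IsConj z y) (c : t * y = y * t) (d : v ∈ normalizer (zpowers y : Set G)) : False := by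
  obtain ⟨g, rfl⟩ := isConj_iff.1 b
  have n : normalizer (zpowers (g * z * g⁻¹) : Set G) ≤ normalizer (cj g Q : Set G) := by
    rw [← cj_zpowers, ← cj_normalizer, ← cj_normalizer]; exact cj_mono g h.nQ
  have := card_le_of_le (h.key (isPGroup_cj g (h.syl.isPGroup.to_le h.QS)) (fun x hx => n (nz_of (h.Jc x hx _ a))) (n (nz_of c)) (n d))
  rw [card_cj, h.cQ, h.cJ] at this; omega

theorem exists_H5 (h3 : ∀ x ∈ J, x ≠ 1 → centralizer (pCoreOf 3 (centralizer {x}) : Set G) ≤ pCoreOf 3 (centralizer {x})) :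
    ∃ j s, H5 S Q J L M z θ π t j s u v := by
  haveI : Fact (Nat.Prime 3) := ⟨Nat.prime_three⟩
  have vJ := h.MJ h.vM
  have jJ := conj_mem_of_mem_normalizer vJ h.zJ
  have zt := h.zL h.tL
  have jt : v * z * v⁻¹ * t = t * (v * z * v⁻¹) := (Commute.mul_left (Commute.mul_left h.vt zt.symm) (Commute.inv_left h.vt) :)
  have z3 : z ^ 3 = 1 := h.z3 ▸ pow_orderOf_eq_one z
  have jQ : v * z * v⁻¹ ∉ Q := fun k => h.nc h.zJ (IsConj.refl z) zt (mem_normalizer_of_conj_mem (by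
    rintro _ ⟨n, rfl⟩; rw [← conj_zpow]; exact zpow_mem (h.ct h.tL h.tθ h.tt k jt) n))
  have vj : v * (v * z * v⁻¹) * v⁻¹ = z := by
    rw [show v * (v * z * v⁻¹) * v⁻¹ = v * v * z * (v * v)⁻¹ by group, h.vv]; simp
  have cj0 : IsConj z (v * z * v⁻¹) := isConj_iff.2 ⟨v, rfl⟩
  generalize e : v * z * v⁻¹ = j at jJ jt jQ vj cj0
  have jS := h.JS jJ
  have jL := h.SL jS
  have j3 := h.J3 j jJ
  have nq : zpowers j ≤ normalizer (Q : Set G) := zpowers_le.2 (h.nQ (nz_of (h.Sz jS)))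
  have SQ : zpowers j ⊔ Q = S := eq_of_le_of_card_ge (sup_le (zpowers_le.2 jS) h.QS) (by
    rw [card_sup_of_disjoint nq (eq_bot_iff.2 fun x ⟨a, b⟩ => by
      rcases mem3 j3 a with rfl | rfl | rfl
      exacts [rfl, absurd b jQ, absurd (Q.inv_mem_iff.1 b) jQ]), Nat.card_zpowers, orderOf_eq_prime j3 fun k => jQ (k ▸ one_mem _), h.cQ, h.cardS])
  have De : closure {z, j} = zpowers z ⊔ zpowers j := by rw [Set.insert_eq, Subgroup.closure_union, ← zpowers_eq_closure, ← zpowers_eq_closure]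
  have DJ : closure {z, j} ≤ J := De ▸ sup_le (zpowers_le.2 h.zJ) (zpowers_le.2 jJ)
  have Dt : closure {z, j} ≤ centralizer {t} := De ▸ sup_le (zpowers_le.2 (mem_centralizer_singleton_iff.2 zt.symm))
    (zpowers_le.2 (mem_centralizer_singleton_iff.2 jt))
  have D : ∀ x ∈ S, x * t = t * x → x ∈ closure {z, j} := fun x a b => by
    obtain ⟨_, ⟨n, rfl⟩, q, c, rfl⟩ := (mem_sup_of_le_normalizer nq).1 (SQ.ge a)
    exact De ▸ mul_mem (mem_sup_right ⟨n, rfl⟩) (mem_sup_left (h.ct h.tL h.tθ h.tt c (by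
      simpa using (Commute.mul_left (Commute.inv_left (Commute.zpow_left jt n)) b).eq)))
  have zj := h.Jc z h.zJ j jJ
  have pts : ∀ y ∈ closure {z, j}, IsConj z y → y ∈ zpowers z ∨ y ∈ zpowers j := fun y a b => by
    have k := h.nc (DJ a) b (mem_centralizer_singleton_iff.1 (Dt a)).symm
    have k1 : v * y * v⁻¹ = y → False := fun r => k (nz_of (mul_inv_eq_iff_eq_mul.1 r))
    have k2 : v * y * v⁻¹ = y⁻¹ → False := fun r => k (cj_eq_self_iff.1 (by rw [cj_zpowers, r, zpowers_inv]))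
    obtain ⟨p, c, q, d, rfl⟩ := (mem_sup_of_le_normalizer (zpowers_le.2 (nz_of zj))).1 (De.le a)
    rcases mem3 z3 c with rfl | rfl | rfl
    · exact .inr (by rwa [one_mul])
    all_goals rcases mem3 j3 d with rfl | rfl | rfl
    · exact .inl (by rwa [mul_one])
    · exact (k1 (by rw [← conj_mul, e, vj, zj])).elim
    · exact (k2 (by rw [← conj_mul, ← conj_inv, e, vj, mul_inv_rev, inv_inv])).elim
    · exact .inl (by rwa [mul_one])
    · exact (k2 (by rw [← conj_mul, ← conj_inv, e, vj, mul_inv_rev, inv_inv])).elim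
    · exact (k1 (by rw [← conj_mul, ← conj_inv, ← conj_inv, e, vj, ← mul_inv_rev, ← mul_inv_rev, zj])).elim
  have θ1 : θ j ≠ 1 := mt (h.pθ.ker jL).1 jQ
  obtain ⟨-, ⟨b, b1, b2⟩, -⟩ := s_three _ (h.θ3 jS) θ1
  obtain ⟨l, lL, lt, rfl⟩ := h.cover h.tL h.tθ h.tt b
  have l2 : t⁻¹ * (l * l) ∈ zpowers z := h.ct h.tL h.tθ h.tt ((h.pθ.eq h.tL (mul_mem lL lL)).1 (by rw [h.pθ.mul lL lL, b2, h.tθ]))
    (Commute.mul_left (Commute.refl t).inv_left (Commute.mul_left lt lt) :)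
  have sL := pow_mem lL 9
  have st : l ^ 9 * t = t * l ^ 9 := (Commute.pow_left lt 9 :)
  have sθ : θ (l ^ 9) = θ l := by rw [h.pθ.pow lL, show 9 = 2 * 4 + 1 from rfl, pow_succ, pow_mul, sq, b2, show (-1 : S25) ^ 4 = 1 by decide, one_mul]
  have ss : l ^ 9 * l ^ 9 = t := by
    rw [← (Commute.refl l).mul_pow, ← mul_inv_cancel_left t (l * l), Commute.mul_pow (h.cL h.tL l2), show 9 = 3 * 3 from rfl, pow_mul _ 3 3, pow_mul,
      h.Q3 _ (h.zQ l2), pow_succ t, sq, h.tt, one_mul, pow_succ t, sq, h.tt]; simp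
  rw [← sθ] at b1
  generalize l ^ 9 = s at sL st ss b1
  have sj : s * j * s⁻¹ = j⁻¹ := by
    have m := mul_mem (mul_mem sL jL) (inv_mem sL)
    have a : θ (s * j * s⁻¹) = (θ j)⁻¹ := by rw [h.pθ.cn sL jL, b1]
    have c : j * (s * j * s⁻¹) ∈ zpowers z := h.ct h.tL h.tθ h.tt ((h.pθ.ker (mul_mem jL m)).1 (by rw [h.pθ.mul jL m, a, mul_inv_cancel]))
      (Commute.mul_left jt (Commute.mul_left (Commute.mul_left st jt) (Commute.inv_left st)) :)
    have d : s * j * s⁻¹ ∈ closure {z, j} := De ▸ (mul_mem_cancel_left (mem_sup_right (mem_zpowers j))).1 (mem_sup_left c)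
    rcases pts _ d (cj0.trans (isConj_iff.2 ⟨s, rfl⟩)) with k | k
    · exact absurd (inv_eq_one.1 (a.symm.trans ((h.pθ.ker m).2 (h.zQ k)))) θ1
    rcases mem3 j3 k with r | r | r
    · exact absurd (conj_eq_one_iff.1 r ▸ one_mem _) jQ
    · have := h.θ3 jS
      rw [r] at a
      rw [pow_succ, sq, mul_eq_one_iff_eq_inv.2 a, one_mul] at this
      exact absurd this θ1
    · exact r
  refine ⟨j, s, h.toH3, h.nSJ, h.nJS, h.CJ, h.zJ, (h.ab1 h.JS h.Jc h.cJ).1, h.CV, h.JQ, fun x a b q c d => h.fv h.JS h.Jc h.cJ a b c d,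
    h.tL, h.tθ, h.tt, h.uu, h.uS, vJ, h.vt, h.vv, h.vu, h.vc, e, jQ, D, sL, st, ss, sj, ?_, pts, ?_, fun g a => ?_⟩
  · rw [← SQ, ← cj_eq_self_iff, cj_sup, cj_zpowers, sj, zpowers_inv, cj_eq_self_iff.2 (h.nQ (nz_of (h.zL sL)))]
  · refine syl_of_syl_normalizer ⟨le_inf Dt le_normalizer, h.syl.isPGroup.to_le (DJ.trans h.JS), fun U a b p => le_antisymm (fun x c => ?_) a⟩
    obtain ⟨k, r⟩ := isPGroup_iff_mem.1 p x c
    have n := (b c).2
    have zD : z ∈ closure {z, j} := subset_closure (by simp)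
    have jD : j ∈ closure {z, j} := subset_closure (by simp)
    have cz : ∀ {x y : G}, x * z * x⁻¹ ∈ zpowers y → y ^ 3 = 1 → cj x (zpowers z) = zpowers y := fun a b =>
      eq_of_le_of_card_ge (by rw [cj_zpowers]; exact zpowers_le.2 a) (by
        rw [card_cj, h.cZ, Nat.card_zpowers]; exact Nat.le_of_dvd (by norm_num) (orderOf_dvd_of_pow_eq_one b))
    have xz : x ∈ normalizer (zpowers z : Set G) := by
      rcases pts _ (conj_mem_of_mem_normalizer n zD) (isConj_iff.2 ⟨x, rfl⟩) with f | f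
      · exact cj_eq_self_iff.1 (cz f z3)
      have f1 := cz f j3
      refine mem_of_pow_mem_coprime (n := 2) (Nat.Coprime.coprime_dvd_left (orderOf_dvd_of_pow_eq_one r) (Nat.Coprime.pow_left k (by norm_num)))
        (cj_eq_self_iff.1 ?_)
      rw [sq, cj_mul, f1]
      rcases pts _ (conj_mem_of_mem_normalizer n jD) (cj0.trans (isConj_iff.2 ⟨x, rfl⟩)) with f | f
      · exact eq_of_le_of_card_ge (by rw [cj_zpowers]; exact zpowers_le.2 f) (by rw [card_cj, ← f1, card_cj])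
      · rw [← f1, conj_mem_cj_iff] at f
        exact absurd (h.zQ f) jQ
    refine D x (h.syl.mem_of_mem_normalizer r trivial ?_) (mem_centralizer_singleton_iff.1 (b c).1)
    have : closure {z, j} ⊔ Q = S := le_antisymm (sup_le (DJ.trans h.JS) h.QS) (SQ.ge.trans (sup_le_sup_right (zpowers_le.2 jD) _))
    rw [← this, ← cj_eq_self_iff, cj_sup, cj_eq_self_iff.2 n, cj_eq_self_iff.2 (h.nQ xz)]
  · have yJ := mul_mem h.zJ jJ
    have l : J ≤ centralizer {z * j} := fun x c => mem_centralizer_singleton_iff.2 (h.Jc x c _ yJ)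
    have k := h.key (op_isPGroup (p := 3) (centralizer {z * j})) (l.trans (le_norm_op _))
      (le_norm_op _ (mem_centralizer_singleton_iff.2 (Commute.mul_right zt jt.symm :)))
      (le_norm_op _ (mem_centralizer_singleton_iff.2 (mul_inv_eq_iff_eq_mul.1 (by rw [← conj_mul, e, vj, zj]))))
    have k' := le_antisymm k fun x c => h3 _ yJ (fun r => jQ (eq_inv_of_mul_eq_one_right r ▸ inv_mem (h.zQ (mem_zpowers z)))) fun w d => h.Jc w (k d) x c
    rw [← k']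
    refine norm_le_norm_op _ ?_
    have := normalizer_le_normalizer_centralizer _ a
    rwa [zpowers_eq_closure, centralizer_closure] at this

end H4

theorem H3.exists_H5 {S Q J L M : Subgroup G} {z : G} {θ : G → S25} {π : G → A6} (h : H3 S Q J L M z θ π)
    (h3 : ∀ x ∈ J, x ≠ 1 → centralizer (pCoreOf 3 (centralizer {x}) : Set G) ≤ pCoreOf 3 (centralizer {x})) :
    ∃ π' t j s u v, H5 S Q J L M z θ π' t j s u v :=
  let ⟨π', t, u, v, k⟩ := h.exists_H4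
  let ⟨j, s, l⟩ := k.exists_H5 h3
  ⟨π', t, j, s, u, v, l⟩

end Cfsg.Lib.Mc3
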