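import Cfsg.Agent.Lib.Linear.Simple

/-! Automorphisms of `3`-power order of `SL₂(5)` are inner. -/

set_option autoImplicit false
set_option linter.style.haveILetI false

namespace Cfsg.Lib.Mc3

open Subgroup

abbrev LS := Matrix.SpecialLinearGroup (Fin 2) (ZMod 5)

def lsa : LS := ⟨!![1, 1; 0, 1], by decide⟩
def lsb : LS := ⟨!![1, 0; 4, 1], by decide⟩

set_option synthInstance.maxSize 4096 in
theorem ls_pair : ∀ x : LS, x ^ 5 = 1 → ∀ y : LS, x * y * x = y * x * y → x ≠ y →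
    ∃ g : LS, (g * lsa = x * g ∧ g * lsb = y * g) ∨ (g * lsa ^ 2 = x * g ∧ g * lsb ^ 3 = y * g) := by decide +kernel

theorem ls_ab : lsa ^ 5 = 1 ∧ lsa * lsb * lsa = lsb * lsa * lsb ∧ lsa ≠ lsb ∧
    (∀ g : LS, g * lsa ≠ lsa ^ 2 * g ∧ g * lsa ≠ lsa ^ 3 * g) ∧ (∃ x : LS, x ^ 3 = 1 ∧ x * lsa ≠ lsa * x) ∧
    ∀ c : ZMod 5, ∃ n : Fin 5, (lsa ^ n.1).1 = !![1, c; 0, 1] ∧ ∃ m : Fin 5, (lsb ^ m.1).1 = !![1, 0; c, 1] := by decide +kernel

theorem ls_gen {H : Subgroup LS} (a : lsa ∈ H) (b : lsb ∈ H) : H = ⊤ := by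
  haveI : Fact (Nat.Prime 5) := ⟨Nat.prime_five⟩
  refine Linear.sl_eq_top_of_transvection_mem (F := ZMod 5) H fun i j hij c => ?_
  obtain ⟨n, hn, m, hm⟩ := ls_ab.2.2.2.2.2 c
  have : Matrix.SpecialLinearGroup.transvection hij c = lsa ^ n.1 ∨ Matrix.SpecialLinearGroup.transvection hij c = lsb ^ m.1 := by
    fin_cases i <;> fin_cases j
    · exact absurd rfl hij
    · left; apply Subtype.ext; rw [hn]; ext a b; fin_cases a <;> fin_cases b <;> simp [Matrix.SpecialLinearGroup.transvection, Matrix.transvection]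
    · right; apply Subtype.ext; rw [hm]; ext a b; fin_cases a <;> fin_cases b <;> simp [Matrix.SpecialLinearGroup.transvection, Matrix.transvection]
    · exact absurd rfl hij
  rcases this with e | e <;> rw [e]
  exacts [pow_mem a _, pow_mem b _]

theorem ls_inner (α : MulAut LS) {k : ℕ} (h : α ^ 3 ^ k = 1) : ∃ g : LS, ∀ x, α x = g * x * g⁻¹ := by
  obtain ⟨a5, br, ne, nc, -⟩ := ls_ab
  obtain ⟨g, e | e⟩ := ls_pair (α lsa) (by rw [← map_pow, a5, map_one]) (α lsb) (by simp only [← map_mul, br])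
    (fun e => ne (α.injective e))
  · refine ⟨g, fun x => ?_⟩
    have := ls_gen (H := MonoidHom.eqLocus α.toMonoidHom (MulAut.conj g).toMonoidHom)
      (show α lsa = g * lsa * g⁻¹ by rw [e.1]; group) (show α lsb = g * lsb * g⁻¹ by rw [e.2]; group)
    exact (this.ge (mem_top x) :)
  · exfalso
    have c1 : IsConj (lsa ^ 2) (α lsa) := isConj_iff.2 ⟨g, by rw [e.1]; group⟩
    have cn : ∀ n : ℕ, IsConj (lsa ^ 2 ^ n) ((α ^ n) lsa) := fun n => by
      induction n with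
      | zero => simpa using IsConj.refl lsa
      | succ n ih =>
        have := α.toMonoidHom.map_isConj ih
        rw [pow_succ' α, MulAut.mul_apply]
        refine IsConj.trans ?_ this
        rw [pow_succ' 2, pow_mul, map_pow]
        exact c1.pow _
    have c := cn (3 ^ k)
    rw [h, MulAut.one_apply] at c
    obtain ⟨m, hm⟩ : Odd (3 ^ k) := Odd.pow (by decide)
    have : 2 ^ (2 * m + 1) % 5 = 2 ∨ 2 ^ (2 * m + 1) % 5 = 3 := by
      clear hm
      induction m with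
      | zero => simp
      | succ m ih => rw [show 2 * (m + 1) + 1 = 2 * m + 1 + 2 by ring, pow_add]; omega
    rw [hm, ← Nat.div_add_mod (2 ^ (2 * m + 1)) 5, pow_add, pow_mul, a5, one_pow, one_mul] at c
    obtain ⟨u, hu⟩ := isConj_iff.1 c.symm
    rcases this with t | t <;> rw [t] at hu
    · exact (nc u).1 (by rw [← hu]; group)
    · exact (nc u).2 (by rw [← hu]; group)

theorem ls_two : ∃ a : ZMod 5, a ≠ 0 ∧ a ^ 2 ≠ 1 := ⟨2, by decide, by decide⟩

theorem ls_three : Subgroup.closure {x : LS | ∃ k : ℕ, orderOf x = 3 ^ k} = ⊤ := by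
  haveI : Fact (Nat.Prime 5) := ⟨Nat.prime_five⟩
  haveI : (Subgroup.closure {x : LS | ∃ k : ℕ, orderOf x = 3 ^ k}).Normal := ⟨fun n hn g => by
    have : (Subgroup.closure {x : LS | ∃ k : ℕ, orderOf x = 3 ^ k}).map (MulAut.conj g).toMonoidHom ≤
        Subgroup.closure {x : LS | ∃ k : ℕ, orderOf x = 3 ^ k} := by
      rw [MonoidHom.map_closure]
      refine Subgroup.closure_mono ?_
      rintro _ ⟨x, ⟨k, hk⟩, rfl⟩
      exact ⟨k, ((MulAut.conj g).orderOf_eq x).trans hk⟩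
    exact this (mem_map_of_mem _ hn)⟩
  refine (Linear.sl_normal_le_center_or_eq_top (F := ZMod 5) (.inr ls_two) _).resolve_left fun h => ?_
  obtain ⟨x, h3, hx⟩ := ls_ab.2.2.2.2.1
  obtain ⟨k, -, hk⟩ := (Nat.dvd_prime_pow Nat.prime_three (m := 1)).1 (orderOf_dvd_of_pow_eq_one h3)
  exact hx (mem_center_iff.1 (h (Subgroup.subset_closure ⟨k, hk⟩)) lsa).symm

end Cfsg.Lib.Mc3
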