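import Cfsg.Agent.Lib.Mc3.Lsp0
import Cfsg.Agent.Lib.Core.Frattini
import Cfsg.Agent.Lib.Layer.FStar
import Cfsg.Agent.Lib.Amalg.Ops
import Cfsg.Prelude.Def_Transfer

/-! Reduction lemmas for the 3-local recognition of McL. -/

set_option autoImplicit false
set_option linter.style.haveILetI false

namespace Cfsg.Lib.Mc3

open Subgroup Cfsg.Lib.Amalg Cfsg.Lib.Core

variable {G : Type*} [Group G]

theorem lsp_ord {p : ℕ} (hp : p.Prime) {x : G} {k : ℕ} (h : x ^ p ^ k = 1) : ∃ i, orderOf x = p ^ i :=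
  let ⟨i, _, e⟩ := (Nat.dvd_prime_pow hp).1 (orderOf_dvd_of_pow_eq_one h); ⟨i, e⟩

/-- The subgroup generated by the `p`-elements, modulo a normal `p`-subgroup. -/
theorem lsp_quot {p : ℕ} (hp : p.Prime) {N K X : Subgroup G} {Y : Type*} [Group Y] (φ : N →* Y) (hs : Function.Surjective φ)
    (hk : φ.ker = K.subgroupOf N) (hK : ∀ x ∈ K, x ^ p = 1) (hX : X = Subgroup.closure {g : G | g ∈ N ∧ ∃ k : ℕ, orderOf g = p ^ k})
    [(K.subgroupOf X).Normal] :
    Nonempty (X ⧸ K.subgroupOf X ≃* Subgroup.closure {y : Y | ∃ k : ℕ, orderOf y = p ^ k}) := by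
  have l : X ≤ N := hX ▸ (closure_le _).2 fun g hg => hg.1
  let f := φ.comp (inclusion l)
  have a : f.ker = K.subgroupOf X := by
    ext x; rw [MonoidHom.mem_ker, mem_subgroupOf]
    exact (MonoidHom.mem_ker (f := φ)).symm.trans (by rw [hk]; rfl)
  have b : f.range = Subgroup.closure {y : Y | ∃ k : ℕ, orderOf y = p ^ k} := by
    refine le_antisymm ?_ ((closure_le _).2 ?_)
    · rintro _ ⟨⟨x, hx⟩, rfl⟩
      have : X ≤ ((Subgroup.closure {y : Y | ∃ k : ℕ, orderOf y = p ^ k}).comap φ).map N.subtype := by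
        rw [hX]
        refine (closure_le _).2 fun g ⟨hg, k, e⟩ => ⟨⟨g, hg⟩, Subgroup.subset_closure (lsp_ord hp (k := k) ?_), rfl⟩
        rw [← map_pow, show (⟨g, hg⟩ : N) ^ p ^ k = 1 from Subtype.ext (by simp [← e]), map_one]
      obtain ⟨y, hy, rfl⟩ := this hx
      exact hy
    · rintro y ⟨k, e⟩
      obtain ⟨n, rfl⟩ := hs y
      have : n ^ p ^ k ∈ φ.ker := by rw [MonoidHom.mem_ker, map_pow, ← e, pow_orderOf_eq_one]
      rw [hk] at this
      have h2 : n.1 ^ p ^ (k + 1) = 1 := by rw [pow_succ, pow_mul]; exact hK _ this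
      exact ⟨⟨n, hX ▸ Subgroup.subset_closure ⟨n.2, lsp_ord hp h2⟩⟩, rfl⟩
  exact ⟨((QuotientGroup.quotientMulEquivOfEq a.symm).trans (QuotientGroup.quotientKerEquivRange f)).trans (MulEquiv.subgroupCongr b)⟩

theorem lsp_fstar [Finite G] {N : Subgroup G} [N.Normal] (hs : IsSimpleGroup N) (hn : ∃ x y : N, x * y ≠ y * x)
    (hc : centralizer (N : Set G) = ⊥) : generalizedFittingSubgroup G = N := by
  have := Layer.fit_normal (G := G)
  have := Layer.fstar_normal (G := G)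
  have := Layer.fit_solvable (G := G)
  have := N.subtype_injective.nontrivial
  have le : ∀ (M : Subgroup G) [M.Normal], M ≠ ⊥ → N ≤ M := fun M _ hM =>
    subgroupOf_eq_top.1 ((hs.eq_bot_or_eq_top_of_normal (M.subgroupOf N) inferInstance).resolve_left fun e => hM (by
      rw [eq_bot_iff, ← hc, ← commutator_eq_bot_iff_le_centralizer, eq_bot_iff, ← disjoint_iff.1 (subgroupOf_eq_bot.1 e)]
      exact commutator_le_inf M N))
  have h : fittingSubgroup G = ⊥ := by
    by_contra h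
    obtain ⟨x, y, e⟩ := hn
    exact e (IsSimpleGroup.comm_iff_isSolvable.2 (Group.isSolvable_of_isSolvable_injective (inclusion_injective (le _ h))) x y)
  exact le_antisymm (Layer.fstar_le_of_centralizer_le (Normal.isSubnormal ‹_›) (h ▸ bot_le) (hc ▸ bot_le))
    (le _ Layer.fstar_ne_bot)

theorem lsp_aut [Finite G] {X : Type*} [Group X] (hs : IsSimpleGroup X) (hp : ¬ (Nat.card X).Prime)
    (h : Nonempty (G ≃* X) ∨ Nonempty (G ≃* MulAut X)) (hf : Finite X) : Nonempty (generalizedFittingSubgroup G ≃* X) := by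
  have hz : center X = ⊥ := ((inferInstance : (center X).Normal).eq_bot_or_eq_top).resolve_right fun h1 => by
    letI := Group.commGroupOfCenterEqTop h1
    exact hp IsSimpleGroup.prime_card
  have inj : Function.Injective (MulAut.conj : X →* MulAut X) := (injective_iff_map_eq_one _).2 fun x hx => by
    have : x ∈ center X := mem_center_iff.2 fun y => by
      have := DFunLike.congr_fun hx y
      rw [MulAut.conj_apply, MulAut.one_apply, mul_inv_eq_iff_eq_mul] at this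
      exact this.symm
    rwa [hz, mem_bot] at this
  have key : ∀ {Y : Type _} [Group Y] (_ : G ≃* Y) (N : Subgroup Y) [N.Normal] (_ : X ≃* N), centralizer (N : Set Y) = ⊥ →
      Nonempty (generalizedFittingSubgroup G ≃* X) := fun {Y} _ e N _ f hc => by
    have := Finite.of_equiv _ e.toEquiv
    obtain ⟨x, hx⟩ := exists_ne (1 : X)
    have : ∃ y, y * x ≠ x * y := by
      by_contra! k
      exact hx (mem_bot.1 (hz ▸ mem_center_iff.2 k))
    obtain ⟨y, hy⟩ := this
    have := lsp_fstar (N := N) f.symm.isSimpleGroup ⟨f y, f x, fun k => hy (f.injective (by rw [map_mul, map_mul, k]))⟩ hc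
    exact ⟨((e.subgroupMap _).trans (MulEquiv.subgroupCongr ((Layer.fstar_map_equiv e).trans this))).trans f.symm⟩
  rcases h with ⟨⟨e⟩⟩ | ⟨⟨e⟩⟩
  · exact key e ⊤ topEquiv.symm (by rw [coe_top, centralizer_univ, hz])
  · haveI : (MulAut.conj : X →* MulAut X).range.Normal := ⟨by
      rintro _ ⟨x, rfl⟩ g
      exact ⟨g x, by ext y; simp⟩⟩
    refine key e _ (MonoidHom.ofInjective inj) (eq_bot_iff.2 fun α hα => mem_bot.2 (MulEquiv.ext fun x => inj ?_))
    have := hα (MulAut.conj x) ⟨x, rfl⟩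
    ext y
    have := DFunLike.congr_fun this (α⁻¹ y)
    simpa using this.symm

/-- `3`-elements normalising a subgroup of order `3` centralise it. -/
theorem lsp_cen [Finite G] {Z : Subgroup G} (hZ : Nat.card Z = 3) {g : G} (a : g ∈ normalizer (Z : Set G)) {k : ℕ} (e : g ^ 3 ^ k = 1) :
    g ∈ centralizer (Z : Set G) := by
  haveI : Fact (Nat.Prime 3) := ⟨Nat.prime_three⟩
  haveI := isCyclic_of_prime_card hZ
  have c : Nat.card (MulAut Z) = 2 := by rw [IsCyclic.card_mulAut, hZ]; decide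
  have h1 : Z.normalizerMonoidHom ⟨g, a⟩ ^ 2 = 1 := c ▸ pow_card_eq_one'
  have h2 : Z.normalizerMonoidHom ⟨g, a⟩ ^ 3 ^ k = 1 := by
    rw [← map_pow, show (⟨g, a⟩ : normalizer (Z : Set G)) ^ 3 ^ k = 1 from Subtype.ext e, map_one]
  have h3 := pow_gcd_eq_one.2 ⟨h1, h2⟩
  rw [Nat.Coprime.gcd_eq_one (Nat.Coprime.pow_right k (by decide)), pow_one, ← MonoidHom.mem_ker, normalizerMonoidHom_ker] at h3
  exact h3

theorem lsp {G : Type*} [Group G] [Finite G] (Z : Subgroup G) (hZ : Nat.card ↥Z = 3) (S : Sylow 3 ↥(centralizer (Z : Set G)))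
    (hQ : Cfsg.IsExtraspecial 3 ↥(generalizedFittingSubgroup ↥(centralizer (Z : Set G)))) :
    ∃ T : Sylow 3 G, (T : Subgroup G) = (S : Subgroup ↥(centralizer (Z : Set G))).map (centralizer (Z : Set G)).subtype ∧
      Z = (T : Subgroup G) ⊓ centralizer ((T : Subgroup G) : Set G) ∧
      (generalizedFittingSubgroup ↥(centralizer (Z : Set G))).map (centralizer (Z : Set G)).subtype = pCoreOf 3 (centralizer (Z : Set G)) ∧
      pCoreOf 3 (normalizer (Z : Set G)) = pCoreOf 3 (centralizer (Z : Set G)) ∧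
      centralizer (pCoreOf 3 (centralizer (Z : Set G)) : Set G) ≤ pCoreOf 3 (centralizer (Z : Set G)) := by
  haveI : Fact (Nat.Prime 3) := ⟨Nat.prime_three⟩
  haveI := isCyclic_of_prime_card hZ
  have ZM : Z ≤ centralizer (Z : Set G) := fun x hx y hy =>
    congrArg Subtype.val (mul_comm' (⟨y, hy⟩ : Z) ⟨x, hx⟩)
  have pZ : IsPGroup 3 Z := IsPGroup.of_card (n := 1) hZ
  have MN : centralizer (Z : Set G) ≤ normalizer (Z : Set G) := centralizer_le_normalizer _
  have F := Layer.fstar_eq_pCore_iff_isPGroup.2 hQ.1.1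
  have sy := syl_of_sylow S
  generalize (S : Subgroup ↥(centralizer (Z : Set G))).map (centralizer (Z : Set G)).subtype = T at sy ⊢
  have ZQ : Z ≤ pCoreOf 3 (centralizer (Z : Set G)) := le_pCoreOf ZM MN pZ
  have CQ : centralizer (pCoreOf 3 (centralizer (Z : Set G)) : Set G) ≤ pCoreOf 3 (centralizer (Z : Set G)) := fun x hx =>
    have m : x ∈ centralizer (Z : Set G) := centralizer_le ZQ hx
    (mem_op_iff (x := ⟨x, m⟩)).2 (Layer.fstar_eq_pCore_iff.1 F fun y hy => Subtype.ext (hx y (mem_op_iff.2 hy)))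
  have ZT : Z = T ⊓ centralizer (T : Set G) := by
    have l : Z ≤ T ⊓ centralizer (T : Set G) := le_inf (ZQ.trans sy.op_le) fun x hx y hy => (sy.le hy x hx).symm
    refine eq_of_le_of_card_ge l ?_
    rw [hZ, ← hQ.2]
    refine Nat.card_le_card_of_injective (fun x => ⟨⟨⟨x.1, sy.le x.2.1⟩, F ▸ mem_op_iff.1 (CQ (centralizer_le sy.op_le x.2.2))⟩,
      mem_center_iff.2 fun y => Subtype.ext (Subtype.ext (x.2.2 _ (sy.op_le (mem_op_iff.2 (F ▸ y.2)))))⟩) fun x y e => ?_
    exact Subtype.ext (congrArg (·.1.1.1) e)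
  have nT : normalizer (T : Set G) ≤ normalizer (Z : Set G) := fun g a => by
    rw [ZT, ← cj_eq_self_iff, cj_inf, cj_centralizer, cj_eq_self_iff.2 a]
  have st : Syl 3 T ⊤ := syl_of_syl_normalizer ⟨le_inf le_top le_normalizer, sy.isPGroup, fun U a b c =>
    sy.eq_of_le U a (fun g hg => let ⟨_, e⟩ := isPGroup_iff_mem.1 c g hg; lsp_cen hZ (nT (b hg).2) e) c⟩
  refine ⟨st.toSylowTop, rfl, ZT, by rw [F]; rfl, le_antisymm ?_ (op_le_op MN (normalizer_le_normalizer_centralizer _)), CQ⟩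
  exact op_le_op_of_le MN fun g hg => let ⟨_, e⟩ := isPGroup_iff_mem.1 (op_isPGroup _) g hg; lsp_cen hZ (op_le _ hg) e

theorem lsp_sl {Y : Type*} [Group Y] [Finite Y] (e : generalizedFittingSubgroup Y ≃* LS) :
    Subgroup.closure {y : Y | ∃ k : ℕ, orderOf y = 3 ^ k} = generalizedFittingSubgroup Y := by
  have := Layer.fstar_normal (G := Y)
  refine le_antisymm ((closure_le _).2 fun y ⟨k, hk⟩ => ?_) fun y hy => ?_
  · obtain ⟨g, hg⟩ := ls_inner (MulAut.congr e (MulAut.conjNormal y)) (k := k) (by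
      rw [← map_pow, ← map_pow, ← hk, pow_orderOf_eq_one, map_one, map_one])
    have : (e.symm g : Y)⁻¹ * y ∈ generalizedFittingSubgroup Y := Layer.centralizer_fstar_le fun x hx => by
      have := congrArg (fun a => (e.symm a : Y)) (hg (e ⟨x, hx⟩))
      simp only [MulAut.congr_apply, MulEquiv.trans_apply, MulEquiv.symm_apply_apply, map_mul, map_inv, MulAut.conjNormal_apply,
        coe_mul, coe_inv] at this
      calc x * ((e.symm g : Y)⁻¹ * y) = (e.symm g : Y)⁻¹ * ((e.symm g : Y) * x * (e.symm g : Y)⁻¹) * y := by group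
        _ = _ := by rw [← this]; group
    exact (mul_mem_cancel_left (inv_mem (e.symm g).2)).1 this
  · have : Subgroup.closure {x : LS | ∃ k : ℕ, orderOf x = 3 ^ k} ≤ (Subgroup.closure {y : Y | ∃ k : ℕ, orderOf y = 3 ^ k}).comap
        ((generalizedFittingSubgroup Y).subtype.comp e.symm.toMonoidHom) := (closure_le _).2 fun x ⟨k, hk⟩ =>
      Subgroup.subset_closure ⟨k, by
        rw [← hk, ← e.symm.orderOf_eq x]; exact Subgroup.orderOf_coe (e.symm x)⟩
    have := this (ls_three.ge (mem_top (e ⟨y, hy⟩)))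
    simpa using this

theorem lsp_extra {p : ℕ} {G H : Type*} [Group G] [Group H] (e : G ≃* H) (h : IsExtraspecial p G) : IsExtraspecial p H := by
  obtain ⟨⟨h1, h2, h3⟩, h4⟩ := h
  have c : (center G).map (e : G →* H) = center H := by
    ext y
    obtain ⟨x, rfl⟩ := e.surjective y
    refine (mem_map_iff_mem (f := (e : G →* H)) e.injective).trans ?_
    simp only [mem_center_iff, e.surjective.forall, ← map_mul, e.injective.eq_iff]
  refine ⟨⟨h1.of_equiv e, ?_, ?_⟩, (Nat.card_congr (centerCongr e).toEquiv).symm.trans h4⟩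
  · rw [← map_frattini_equiv e, h2, c]
  · rw [← c, ← h3, map_commutator_eq, MonoidHom.range_eq_top.mpr e.surjective]; rfl

/-- The hypotheses with `F*` give the hypotheses of the 3-local recognition theorem. -/
theorem lsp_red {G : Type*} [Group G] [Finite G] {C : Prop}
    (H : ∀ (S : Sylow 3 G) (Z : Subgroup G) (_ : Z = (S : Subgroup G) ⊓ Subgroup.centralizer ((S : Subgroup G) : Set G))
    (J : Subgroup G) (_ : J ≤ S) (_ : IsMulCommutative J) (_ : ∀ a ∈ J, a ^ 3 = 1) (_ : Nat.card J = 3 ^ 4)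
    (M₀ : Subgroup G) (_ : M₀ = Subgroup.closure {g : G | g ∈ Subgroup.normalizer (J : Set G) ∧ ∃ k : ℕ, orderOf g = 3 ^ k})
    (_ : J ≤ M₀) [(J.subgroupOf M₀).Normal] (_ : M₀ ⧸ J.subgroupOf M₀ ≃* alternatingGroup (Fin 6))
    (L₀ : Subgroup G) (_ : L₀ = Subgroup.closure {g : G | g ∈ Subgroup.normalizer (Z : Set G) ∧ ∃ k : ℕ, orderOf g = 3 ^ k})
    (Q : Subgroup G) (_ : Q = (Cfsg.pCore 3 (Subgroup.normalizer (Z : Set G))).map (Subgroup.normalizer (Z : Set G)).subtype)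
    (_ : Cfsg.IsExtraspecial 3 Q) (_ : Nat.card Q = 3 ^ 5) (_ : ∀ a ∈ Q, a ^ 3 = 1)
    (_ : Q ≤ L₀) [(Q.subgroupOf L₀).Normal] (_ : L₀ ⧸ Q.subgroupOf L₀ ≃* Matrix.SpecialLinearGroup (Fin 2) (ZMod 5))
    (_ : Subgroup.centralizer (((Cfsg.pCore 3 (Subgroup.centralizer (Z : Set G))).map (Subgroup.centralizer (Z : Set G)).subtype : Subgroup G) : Set G)
        ≤ (Cfsg.pCore 3 (Subgroup.centralizer (Z : Set G))).map (Subgroup.centralizer (Z : Set G)).subtype), C)
    (Z : Subgroup G) (hZ : Nat.card ↥Z = 3) (S : Sylow 3 ↥(Subgroup.centralizer (Z : Set G))) (J : Subgroup G)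
    (hJS : J ≤ ((S : Subgroup ↥(Subgroup.centralizer (Z : Set G))).map (Subgroup.centralizer (Z : Set G)).subtype))
    (hJ : Cfsg.IsElementaryAbelian 3 J) (hJcard : Nat.card ↥J = 3 ^ 4)
    (hQ : Cfsg.IsExtraspecial 3 ↥(Cfsg.generalizedFittingSubgroup ↥(Subgroup.centralizer (Z : Set G))))
    (hQcard : Nat.card ↥(Cfsg.generalizedFittingSubgroup ↥(Subgroup.centralizer (Z : Set G))) = 3 ^ 5)
    [hQn : (Cfsg.generalizedFittingSubgroup ↥(Subgroup.centralizer (Z : Set G))).Normal]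
    (hexp : ∀ x ∈ Cfsg.generalizedFittingSubgroup ↥(Subgroup.centralizer (Z : Set G)), x ^ 3 = 1)
    (hFMQ : Nonempty (↥(Cfsg.generalizedFittingSubgroup (↥(Subgroup.centralizer (Z : Set G)) ⧸ Cfsg.generalizedFittingSubgroup ↥(Subgroup.centralizer (Z : Set G)))) ≃* Matrix.SpecialLinearGroup (Fin 2) (ZMod 5)))
    [hJn : (J.subgroupOf (Subgroup.normalizer (J : Set G))).Normal]
    (hA6 : Nonempty (↥(Subgroup.closure {x : ↥(Subgroup.normalizer (J : Set G)) ⧸ J.subgroupOf (Subgroup.normalizer (J : Set G)) | ∃ k : ℕ, orderOf x = 3 ^ k}) ≃* ↥(alternatingGroup (Fin 6)))) : C := by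
  obtain ⟨T, hT, ZT, FQ, NQ, CQ⟩ := lsp Z hZ S hQ
  obtain ⟨e5⟩ := hFMQ
  obtain ⟨e6⟩ := hA6
  have MN : centralizer (Z : Set G) ≤ normalizer (Z : Set G) := centralizer_le_normalizer _
  have o3 : ∀ {x : G}, x ^ 3 = 1 → ∃ k, orderOf x = 3 ^ k := fun h => lsp_ord Nat.prime_three (k := 1) h
  have lM : Subgroup.closure {g : G | g ∈ normalizer (J : Set G) ∧ ∃ k : ℕ, orderOf g = 3 ^ k} ≤ normalizer (J : Set G) :=
    (closure_le _).2 fun g hg => hg.1
  have lL : Subgroup.closure {g : G | g ∈ normalizer (Z : Set G) ∧ ∃ k : ℕ, orderOf g = 3 ^ k} ≤ normalizer (Z : Set G) :=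
    (closure_le _).2 fun g hg => hg.1
  have Q3 : ∀ a ∈ pCoreOf 3 (normalizer (Z : Set G)), a ^ 3 = 1 := fun a ha => by
    rw [NQ, ← FQ] at ha
    obtain ⟨b, hb, rfl⟩ := ha
    exact congrArg Subtype.val (hexp b hb)
  haveI := normal_subgroupOf_of_le_normalizer lM
  haveI := normal_subgroupOf_of_le_normalizer (lL.trans (le_norm_op (p := 3) _))
  obtain ⟨eM⟩ := lsp_quot Nat.prime_three (K := J) (QuotientGroup.mk' (J.subgroupOf (normalizer (J : Set G))))
    (QuotientGroup.mk'_surjective _) (QuotientGroup.ker_mk' _) hJ.2 rfl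
  obtain ⟨eL⟩ := lsp_quot Nat.prime_three (K := pCoreOf 3 (normalizer (Z : Set G)))
    (X := Subgroup.closure {g : G | g ∈ normalizer (Z : Set G) ∧ ∃ k : ℕ, orderOf g = 3 ^ k})
    (QuotientGroup.mk' (generalizedFittingSubgroup ↥(centralizer (Z : Set G)))) (QuotientGroup.mk'_surjective _)
    (by rw [QuotientGroup.ker_mk', NQ, ← FQ]; exact (comap_map_eq_self_of_injective (subtype_injective _) _).symm) Q3
    (congrArg _ (Set.ext fun g => ⟨fun ⟨a, k, e⟩ => ⟨lsp_cen hZ a (k := k) (e ▸ pow_orderOf_eq_one g), k, e⟩, fun ⟨a, b⟩ => ⟨MN a, b⟩⟩))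
  have eQ : generalizedFittingSubgroup ↥(centralizer (Z : Set G)) ≃* pCoreOf 3 (normalizer (Z : Set G)) :=
    (equivMapOfInjective _ _ (subtype_injective _)).trans (MulEquiv.subgroupCongr (FQ.trans NQ.symm))
  refine H T Z ZT J (hT ▸ hJS) hJ.1 hJ.2 hJcard _ rfl (fun x hx => Subgroup.subset_closure ⟨le_normalizer hx, o3 (hJ.2 x hx)⟩)
    (eM.trans e6) _ rfl (pCoreOf 3 (normalizer (Z : Set G))) rfl ?_ ((Nat.card_congr eQ.toEquiv).symm.trans hQcard) Q3
    (fun x hx => Subgroup.subset_closure ⟨op_le _ hx, o3 (Q3 x hx)⟩) ((eL.trans (MulEquiv.subgroupCongr (lsp_sl e5))).trans e5) CQ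
  exact lsp_extra eQ hQ

end Cfsg.Lib.Mc3
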