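import Cfsg.Agent.Lib.Mc3.L1

/-! The involution inverting `J` is not conjugate to `t`. -/

set_option autoImplicit false

namespace Cfsg.Lib.Mc3

open Subgroup Cfsg.Lib.Amalg Cfsg.Lib.Core
open scoped commutatorElement

variable {G : Type*} [Group G]

theorem n_mem {x y : G} (h : x ^ 3 = 1) (hy : y ∈ zpowers x) : y = 1 ∨ y = x ∨ y = x⁻¹ := by
  obtain ⟨n, rfl⟩ := hy
  have h' : x ^ (3 : ℤ) = 1 := by exact_mod_cast h
  have e : x ^ n = x ^ (n % 3) := by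
    conv_lhs => rw [← Int.mul_ediv_add_emod n 3, zpow_add, zpow_mul, h', one_zpow, one_mul]
  beta_reduce
  rw [e]
  obtain k | k | k : n % 3 = 0 ∨ n % 3 = 1 ∨ n % 3 = 2 := by omega
  · simp [k]
  · simp [k]
  · refine Or.inr (Or.inr (eq_inv_of_mul_eq_one_left ?_))
    rw [k, ← zpow_add_one]; exact h'

theorem n_two {x a b : G} (h : x ^ 3 = 1) (ha : a ∈ zpowers x) (hb : b ∈ zpowers x) (a1 : a ≠ 1) (b1 : b ≠ 1) : a = b ∨ a = b⁻¹ := by
  rcases (n_mem h ha).resolve_left a1 with rfl | rfl <;> rcases (n_mem h hb).resolve_left b1 with e | e <;> simp [e]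

theorem n_pig {x w a b c : G} (hx : x ^ 3 = 1) (hw : w ^ 3 = 1) (a1 : a ≠ 1) (b1 : b ≠ 1) (c1 : c ≠ 1)
    (ha : a ∈ zpowers x ∨ a ∈ zpowers w) (hb : b ∈ zpowers x ∨ b ∈ zpowers w) (hc : c ∈ zpowers x ∨ c ∈ zpowers w) :
    (b = a ∨ b = a⁻¹) ∨ (c = a ∨ c = a⁻¹) ∨ (b = c ∨ b = c⁻¹) := by
  rcases ha with ha | ha <;> rcases hb with hb | hb <;> rcases hc with hc | hc <;>
    first
    | exact Or.inl (n_two ‹_› hb ha b1 a1)
    | exact Or.inr (Or.inl (n_two ‹_› hc ha c1 a1))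
    | exact Or.inr (Or.inr (n_two ‹_› hb hc b1 c1))

theorem n_four {z j y : G} (hz : z ^ 3 = 1) (hj : j ^ 3 = 1) (c : Commute z j) (hy : y ∈ closure {z, j}) :
    (y ∈ zpowers z ∨ y ∈ zpowers j) ∨ y ∈ zpowers (z * j) ∨ y ∈ zpowers (z * j⁻¹) := by
  obtain ⟨m, n, rfl⟩ : ∃ m n : ℤ, y = z ^ m * j ^ n := by
    induction hy using closure_induction with
    | mem x hx => rcases hx with rfl | rfl; exacts [⟨1, 0, by simp⟩, ⟨0, 1, by simp⟩]
    | one => exact ⟨0, 0, by simp⟩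
    | mul x y _ _ a b =>
      obtain ⟨m, n, rfl⟩ := a
      obtain ⟨m', n', rfl⟩ := b
      exact ⟨m + m', n + n', by rw [zpow_add, zpow_add, (c.zpow_zpow m' n).mul_mul_mul_comm]⟩
    | inv x _ a =>
      obtain ⟨m, n, rfl⟩ := a
      exact ⟨-m, -n, by rw [mul_inv_rev, ← zpow_neg, ← zpow_neg, (c.zpow_zpow _ _).eq]⟩
  rcases n_mem hz (zpow_mem (mem_zpowers z) m) with e | e | e <;> rcases n_mem hj (zpow_mem (mem_zpowers j) n) with f | f | f <;>
    rw [e, f]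
  · simp
  · simp
  · simp
  · simp
  · simp
  · simp
  · simp
  · refine Or.inr (Or.inr (inv_mem_iff.1 ?_))
    rw [mul_inv_rev, inv_inv, ← c.inv_right.eq]; exact mem_zpowers _
  · refine Or.inr (Or.inl (inv_mem_iff.1 ?_))
    rw [mul_inv_rev, inv_inv, inv_inv, ← c.eq]; exact mem_zpowers _

theorem n_ne {a t r : G} (ht : t * a * t⁻¹ = a⁻¹) (hr : r * r = t) (h2 : a * a ≠ 1) : ¬ (r * a * r⁻¹ = a ∨ r * a * r⁻¹ = a⁻¹) := by
  have e : t * a * t⁻¹ = r * (r * a * r⁻¹) * r⁻¹ := by rw [← hr]; group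
  rintro (k | k)
  · rw [k, k, ht] at e
    exact h2 (by nth_rw 1 [← e]; simp)
  · rw [k, ← conj_inv, k, inv_inv, ht] at e
    exact h2 (by nth_rw 1 [← e]; simp)

theorem H5.nconj [Finite G] {S Q J L M : Subgroup G} {z : G} {θ : G → S25} {π : G → A6} {t j s u v : G}
    (h : H5 S Q J L M z θ π t j s u v) (hc : ⁅s, v * s * v⁻¹⁆ = t) {ι : G} (h1 : ι * t = t * ι) (h2 : ι * ι = 1)
    (h3 : ∀ x ∈ J, ι * x * ι⁻¹ = x⁻¹) (h4 : Commute ι s) (h5 : Commute ι v) : ¬ IsConj t ι := by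
  have : Fact (Nat.Prime 3) := ⟨Nat.prime_three⟩
  intro hconj
  obtain ⟨g, hg⟩ := isConj_iff.1 hconj
  have vi : v⁻¹ = v := inv_eq_of_mul_eq_one_right h.vv
  have jJ : j ∈ J := h.vz ▸ conj_mem_of_mem_normalizer h.vJ h.zJ
  have z3 := h.J3 z h.zJ
  have j3 := h.J3 j jJ
  have zj : Commute z j := h.Jc z h.zJ j jJ
  have SJ : ∀ x ∈ S, x ∈ normalizer (J : Set G) := fun x hx => h.nSJ (le_normalizer hx)
  obtain ⟨s', hs'⟩ : ∃ s', s' = v * s * v⁻¹ := ⟨_, rfl⟩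
  rw [← hs'] at hc
  have s'z : s' * z * s'⁻¹ = z⁻¹ := by
    have e1 : v⁻¹ * z * v = j := by rw [← h.vz, vi]
    have e2 : v * j * v⁻¹ = z := by rw [← e1]; group
    calc _ = v * (s * (v⁻¹ * z * v) * s⁻¹) * v⁻¹ := by rw [hs']; group
      _ = (v * j * v⁻¹)⁻¹ := by rw [e1, h.sj]; group
      _ = _ := by rw [e2]
  have s'S : s' ∈ normalizer (S : Set G) := h.nJS _ (hs' ▸ mul_mem (mul_mem h.vJ (h.nSJ h.sS)) (inv_mem h.vJ))
    (cj_eq_self_iff.1 (by rw [cj_zpowers, s'z, zpowers_inv]))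
  have s's : s' * s' = t := by rw [hs', conj_mul, h.ss, h.vt, mul_inv_cancel_right]
  have s'ι : Commute ι s' := hs' ▸ (h5.mul_right h4).mul_right h5.inv_right
  have tS : t ∈ normalizer (S : Set G) := h.ss ▸ mul_mem h.sS h.sS
  obtain ⟨q, hq, qJ⟩ : ∃ q ∈ Q, q ∉ J := by
    by_contra! k
    have := h.cV
    rw [inf_eq_right.2 k, h.cQ] at this
    omega
  have qS := h.QS hq
  have yJ : ι * q * ι⁻¹ * q⁻¹ ∈ J := h.CJ fun x hx => by
    have e1 := h3 _ (conj_mem_of_mem_normalizer (inv_mem (SJ q qS)) hx)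
    have e2 := h3 _ (inv_mem hx)
    have ii : ι⁻¹ = ι := inv_eq_of_mul_eq_one_right h2
    rw [ii] at e1 e2 ⊢
    rw [inv_inv] at e2
    calc _ = ι * x⁻¹ * ι * (ι * q * ι * q⁻¹) := by rw [e2]
      _ = ι * x⁻¹ * (ι * ι) * q * ι * q⁻¹ := by group
      _ = ι * q * (q⁻¹ * x * q⁻¹⁻¹)⁻¹ * ι * q⁻¹ := by rw [h2]; group
      _ = ι * q * ι * q⁻¹ * x * q * (ι * ι) * q⁻¹ := by rw [← e1]; group
      _ = _ := by rw [h2]; group
  obtain ⟨y, hy⟩ : ∃ y, y = ι * q * ι⁻¹ * q⁻¹ := ⟨_, rfl⟩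
  rw [← hy] at yJ
  obtain ⟨a, ha⟩ : ∃ a, a = y⁻¹ * q := ⟨_, rfl⟩
  have aE : a ∈ S ⊓ centralizer {ι} := ⟨ha ▸ S.mul_mem (S.inv_mem (h.JS yJ)) qS, mem_centralizer_singleton_iff.2 (by
    have e1 : ι * a * ι⁻¹ = y * y * q := by
      rw [ha, ← conj_mul, h3 _ (inv_mem yJ), inv_inv, mul_assoc y y, hy]; group
    have e2 : y * y = y⁻¹ := eq_inv_of_mul_eq_one_left (by rw [← h.J3 y yJ]; simp [pow_succ])
    rw [e2, ← ha, mul_inv_eq_iff_eq_mul] at e1
    exact e1.symm)⟩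
  have EJ : ∀ x ∈ S ⊓ centralizer {ι}, x ∈ J → x = 1 := fun x hx xJ => by
    have e1 := h3 x xJ
    rw [← mem_centralizer_singleton_iff.1 hx.2, mul_inv_cancel_right] at e1
    have e2 := h.J3 x xJ
    rw [pow_succ, sq] at e2
    nth_rw 1 [e1] at e2
    simpa using e2
  have nE : ∀ r ∈ normalizer (S : Set G), Commute ι r → ∀ x ∈ S ⊓ centralizer {ι}, r * x * r⁻¹ ∈ S ⊓ centralizer {ι} :=
    fun r hr c x hx => ⟨conj_mem_of_mem_normalizer hr hx.1, mem_centralizer_singleton_iff.2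
      (((c.mul_right (show Commute x ι from mem_centralizer_singleton_iff.1 hx.2).symm).mul_right c.inv_right).symm :)⟩
  have ta : t * a * t⁻¹ = a⁻¹ := eq_inv_of_mul_eq_one_right (EJ _ (mul_mem aE (nE t tS h1 a aE)) (by
    have e1 := zpowers_le.2 h.zJ (h.it h.tL h.tθ h.tt hq)
    have e2 := conj_mem_of_mem_normalizer (SJ q qS) (conj_mem_of_mem_normalizer (h.nSJ tS) (inv_mem yJ))
    convert mul_mem (mul_mem (inv_mem yJ) e2) e1 using 1
    rw [ha]; group))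
  have a1 : a ≠ 1 := fun e => qJ (by
    rw [ha, inv_mul_eq_one] at e
    exact e ▸ yJ)
  have a2 : a * a ≠ 1 := fun e => by
    obtain ⟨k, hk⟩ := isPGroup_iff_mem.1 h.syl.isPGroup a aE.1
    refine a1 (orderOf_eq_one_iff.1 (Nat.eq_one_of_dvd_coprimes (Nat.Coprime.pow_right k (by decide : Nat.Coprime 2 3))
      (orderOf_dvd_of_pow_eq_one (by rwa [sq])) (orderOf_dvd_of_pow_eq_one hk)))
  have n1 := n_ne ta h.ss a2
  have n2 := n_ne ta s's a2
  have n3 := n_ne (r := s'⁻¹ * s) ta (by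
    have e1 : s * s' = t * s' * s := by rw [← hc, commutatorElement_def]; group
    have e2 : s'⁻¹ = s' * t := inv_eq_of_mul_eq_one_right (by rw [← mul_assoc, s's, h.tt])
    have e3 : t * s' = s' * t := by rw [← s's, mul_assoc]
    rw [e2]
    calc _ = s' * t * (s * s') * t * s := by group
      _ = s' * (t * t) * s' * (s * t) * s := by rw [e1]; group
      _ = s' * s' * t * (s * s) := by rw [h.tt, h.st]; group
      _ = t := by rw [s's, h.ss, h.tt, one_mul]) a2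
  obtain ⟨k, -, hk⟩ := h.sylD.exists_conj_le (P := cj g⁻¹ (S ⊓ centralizer {ι})) (isPGroup_cj _ (h.syl.isPGroup.to_le inf_le_left))
    (cj_le_iff'.2 fun x hx => mem_centralizer_singleton_iff.2 (by
      have := mem_centralizer_singleton_iff.1 hx.2
      rw [← hg] at this
      calc _ = g⁻¹ * (x * (g * t * g⁻¹)) * g := by group
        _ = _ := by rw [this]; group))
  obtain ⟨φ, hφ⟩ : ∃ φ : MulAut G, φ = MulAut.conj (k * g⁻¹) := ⟨_, rfl⟩
  have φD : ∀ x ∈ S ⊓ centralizer {ι}, φ x ∈ closure {z, j} := fun x hx => by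
    convert hk (conj_mem_cj k (conj_mem_cj g⁻¹ hx)) using 1
    rw [hφ, MulAut.conj_apply]; group
  have φc : ∀ r : G, IsConj (φ a) (φ (r * a * r⁻¹)) := fun r => isConj_iff.2 ⟨φ r, by simp⟩
  have φ1 : ∀ r : G, φ (r * a * r⁻¹) ≠ 1 := fun r => by simpa using a1
  have fin : ∀ x w : G, x ^ 3 = 1 → w ^ 3 = 1 →
      ¬ ∀ r ∈ [1, s, s'], φ (r * a * r⁻¹) ∈ zpowers x ∨ φ (r * a * r⁻¹) ∈ zpowers w := fun x w hx hw e => by
    have := n_pig hx hw (φ1 1) (φ1 s) (φ1 s') (e 1 (by simp)) (e s (by simp)) (e s' (by simp))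
    simp only [← map_inv, φ.injective.eq_iff, one_mul, inv_one, mul_one] at this
    rcases this with e | e | e
    exacts [n1 e, n2 e, n3 (e.imp (fun e => by rw [mul_inv_rev, inv_inv, mul_assoc s'⁻¹, mul_assoc s'⁻¹, ← mul_assoc (s * a), e]; group)
      fun e => by rw [mul_inv_rev, inv_inv, mul_assoc s'⁻¹, mul_assoc s'⁻¹, ← mul_assoc (s * a), e]; group)]
  have mD : ∀ r ∈ [1, s, s'], φ (r * a * r⁻¹) ∈ closure {z, j} := by
    simp only [List.forall_mem_cons, List.not_mem_nil, IsEmpty.forall_iff, implies_true, and_true]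
    exact ⟨φD _ (by simpa using aE), φD _ (nE s h.sS h4 a aE), φD _ (nE s' s'S s'ι a aE)⟩
  have cj1 : IsConj z j := isConj_iff.2 ⟨v, h.vz⟩
  by_cases k : ∃ r ∈ [1, s, s'], φ (r * a * r⁻¹) ∈ zpowers z ∨ φ (r * a * r⁻¹) ∈ zpowers j
  · obtain ⟨r, -, k⟩ := k
    have c0 : IsConj z (φ (r * a * r⁻¹)) := by
      rcases k with k | k
      · rcases (n_mem z3 k).resolve_left (φ1 r) with e | e <;> rw [e]
        exact isConj_iff.2 ⟨s', s'z⟩
      · rcases (n_mem j3 k).resolve_left (φ1 r) with e | e <;> rw [e]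
        exacts [cj1, cj1.trans (isConj_iff.2 ⟨s, h.sj⟩)]
    exact fin z j z3 j3 fun r' hr' => h.pts _ (mD r' hr') ((c0.trans (φc r).symm).trans (φc r'))
  · exact fin (z * j) (z * j⁻¹) (by rw [zj.mul_pow, z3, j3, one_mul]) (by rw [zj.inv_right.mul_pow, z3, inv_pow, j3, inv_one, one_mul])
      fun r hr => (n_four z3 j3 zj (mD r hr)).resolve_left fun e => k ⟨r, hr, e⟩

end Cfsg.Lib.Mc3
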