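import Cfsg.Agent.Lib.Mc3.L1
import Cfsg.Agent.Lib.Mc3.F2

/-! The centraliser of `D` in `C(t)` for a group of McLaughlin 3-local type. -/

set_option autoImplicit false

namespace Cfsg.Lib.Mc3

open Subgroup Cfsg.Lib.Amalg Cfsg.Lib.Core
open scoped commutatorElement

variable {G : Type*} [Group G]

theorem w_sq {x : G} (h3 : x ^ 3 = 1) (e : x * x = 1) : x = 1 := by rwa [pow_succ, sq, e, one_mul] at h3

theorem w_si {x : G} (h3 : x ^ 3 = 1) (e : x = x⁻¹) : x = 1 := w_sq h3 (eq_inv_iff_mul_eq_one.1 e)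

theorem w_four {x : G} (h3 : x ^ 3 = 1) : x * x * (x * x) = x := by
  rw [show x * x * (x * x) = x ^ 3 * x by simp only [pow_succ, pow_zero, one_mul, mul_assoc], h3, one_mul]

theorem w_ci (g x : G) : g * x⁻¹ * g⁻¹ = (g * x * g⁻¹)⁻¹ := by group

theorem w_nz {z g : G} (h : g * z * g⁻¹ = z⁻¹) : g ∈ normalizer (zpowers z : Set G) :=
  cj_eq_self_iff.1 (by rw [cj_zpowers, h, zpowers_inv])

namespace H5
variable {S Q J L M : Subgroup G} {z : G} {θ : G → S25} {π : G → A6} {t j s u v : G}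
  (h : H5 S Q J L M z θ π t j s u v)
include h

theorem w_vi : v⁻¹ = v := inv_eq_of_mul_eq_one_right h.vv
theorem w_ti : t⁻¹ = t := inv_eq_of_mul_eq_one_right h.tt
theorem w_jJ : j ∈ J := h.vz ▸ conj_mem_of_mem_normalizer h.vJ h.zJ
theorem w_vj : v * j * v⁻¹ = z := by
  rw [← h.vz, show v * (v * z * v⁻¹) * v⁻¹ = v * v * z * (v * v)⁻¹ by group, h.vv]; simp
theorem w_DJ : closure {z, j} ≤ J := (closure_le _).2 (Set.pair_subset h.zJ h.w_jJ)
theorem w_Dt {d : G} (a : d ∈ closure {z, j}) : d * t = t * d := mem_centralizer_singleton_iff.1 (h.sylD.le a)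
theorem w_zD : z ∈ closure {z, j} := subset_closure (by simp)
theorem w_jD : j ∈ closure {z, j} := subset_closure (by simp)
theorem w_tS : t ∈ normalizer (S : Set G) := h.uu ▸ mul_mem h.uS h.uS
omit h in
theorem w_cen {x : G} (a : x * z = z * x) (b : x * j = j * x) {d : G} (m : d ∈ closure {z, j}) : x * d = d * x :=
  mem_centralizer_singleton_iff.1 ((closure_le (centralizer {x})).2 (Set.pair_subset
    (mem_centralizer_singleton_iff.2 a.symm) (mem_centralizer_singleton_iff.2 b.symm)) m) |>.symm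
theorem w_inv {x : G} (a : x * z * x⁻¹ = z⁻¹) (b : x * j * x⁻¹ = j⁻¹) {d : G} (m : d ∈ closure {z, j}) :
    x * d * x⁻¹ = d⁻¹ := by
  induction m using closure_induction with
  | mem y hy => rcases hy with rfl | rfl <;> assumption
  | one => simp
  | mul y w hy hw c e => rw [← conj_mul, c, e, h.Jc y (h.w_DJ hy) w (h.w_DJ hw), mul_inv_rev]
  | inv y _ c => rw [← conj_inv, c]

/-- the part of `J` inverted by `t`. -/
def W : Subgroup G where
  carrier := {w | w ∈ J ∧ t * w * t⁻¹ = w⁻¹}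
  one_mem' := ⟨one_mem _, by simp⟩
  mul_mem' {a b} k l := ⟨mul_mem k.1 l.1, by rw [← conj_mul, k.2, l.2, h.Jc a k.1 b l.1, mul_inv_rev]⟩
  inv_mem' {a} k := ⟨inv_mem k.1, by rw [← conj_inv, k.2]⟩

variable [Finite G]

theorem w_dec {x : G} (hx : x ∈ J) :
    ∃ d ∈ closure {z, j}, (x ∈ Q → d ∈ zpowers z) ∧ ∃ w ∈ h.W, x = d * w := by
  have a := conj_mem_of_mem_normalizer (h.nSJ h.w_tS) hx
  have e : t * (t * x * t⁻¹) * t⁻¹ = x := by
    rw [show t * (t * x * t⁻¹) * t⁻¹ = t * t * x * (t * t)⁻¹ by group, h.tt]; simp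
  have d := h.D _ (h.JS (mul_mem hx a)) (mul_inv_eq_iff_eq_mul.1 (by rw [← conj_mul, e, h.Jc _ a _ hx])).symm
  have w : x * (t * x * t⁻¹)⁻¹ ∈ h.W := ⟨mul_mem hx (inv_mem a), by rw [← conj_mul, w_ci, e, mul_inv_rev x, inv_inv]⟩
  refine ⟨_, mul_mem d d, fun q => mul_mem (h.it h.tL h.tθ h.tt q) (h.it h.tL h.tθ h.tt q), _, mul_mem w w, ?_⟩
  have c : Commute x (t * x * t⁻¹) := h.Jc _ hx _ a
  generalize t * x * t⁻¹ = y at c
  have k : x * y * (x * y⁻¹) = x * x := by rw [mul_assoc, ← mul_assoc y, ← c.eq, mul_inv_cancel_right]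
  have c2 : Commute (x * y) (x * y⁻¹) := ((Commute.refl x).mul_left c.symm).mul_right
    (c.mul_left (Commute.refl y)).inv_right
  rw [c2.mul_mul_mul_comm, k, w_four (h.J3 x hx)]

theorem w_WQ {w : G} (a : w ∈ h.W) : w ∈ Q := by
  have l := h.SL (h.JS a.1)
  have e := h.pθ.cn h.tL l
  rw [a.2, h.pθ.inv l, h.tθ] at e
  exact (h.pθ.ker l).1 (w_si (h.θ3 (h.JS a.1)) (by rw [e]; simp))

theorem w_CD {g : G} (a : g ∈ L) (b : g * t = t * g) (c : g * j = j * g) :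
    ∃ d ∈ closure {z, j}, g = d ∨ g = d * t := by
  have jl := h.SL (h.JS h.w_jJ)
  obtain ⟨k, -, e⟩ := (s_three _ (h.θ3 (h.JS h.w_jJ)) (mt (h.pθ.ker jl).1 h.jQ)).2.2 (θ g)
    (by rw [← h.pθ.mul a jl, c, h.pθ.mul jl a])
  have key : ∀ g ∈ L, g * t = t * g → θ g = θ j ^ k → g ∈ closure {z, j} := fun g a b e => by
    have m := pow_mem h.w_jD k
    have := h.ct h.tL h.tθ h.tt ((h.pθ.eq (pow_mem jl k) a).1 (by rw [h.pθ.pow jl, e]))
      ((show Commute (j ^ k) t from h.w_Dt m).inv_left.mul_left b)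
    exact (mul_mem_cancel_left (inv_mem m)).1 (zpowers_le.2 h.w_zD this)
  rcases e with e | e
  · exact ⟨g, key g a b e, .inl rfl⟩
  · exact ⟨g * t, key _ (mul_mem a h.tL) (by rw [mul_assoc, ← mul_assoc, ← mul_assoc, b])
      (by rw [h.pθ.mul a h.tL, e, h.tθ]; simp), .inr (by rw [mul_assoc, h.tt, mul_one])⟩

theorem w_norm {x : G} (a : x ∈ normalizer (zpowers z : Set G)) (b : x * t = t * x)
    (c : x * j * x⁻¹ = j ∨ x * j * x⁻¹ = j⁻¹) :
    ∃ d ∈ closure {z, j}, x * s * x⁻¹ * s⁻¹ = d ∨ x * s * x⁻¹ * s⁻¹ = d * t := by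
  have xt : Commute x t := b
  have st : Commute s t := h.st
  refine h.w_CD (mul_mem (conj_mem_of_mem_normalizer (h.nL a) h.sL) (inv_mem h.sL))
    (((xt.mul_left st).mul_left xt.inv_left).mul_left st.inv_left) (mul_inv_eq_iff_eq_mul.1 ?_)
  have e1 : s⁻¹ * j * s = j⁻¹ := by
    rw [← inv_inv j, ← h.sj]; nth_rw 2 [h.sj]; group
  have e2 : x * s * x⁻¹ * (x * j * x⁻¹) * (x * s * x⁻¹)⁻¹ = (x * j * x⁻¹)⁻¹ := by
    rw [← w_ci x s, conj_mul, conj_mul, h.sj, w_ci]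
  have e3 : x * s * x⁻¹ * j * (x * s * x⁻¹)⁻¹ = j⁻¹ := by
    rcases c with c | c <;> rw [c] at e2
    · exact e2
    · rw [w_ci] at e2; exact inv_injective e2
  calc _ = x * s * x⁻¹ * (s⁻¹ * j * s) * (x * s * x⁻¹)⁻¹ := by group
    _ = j := by rw [e1, w_ci, e3, inv_inv]

theorem w_card : Nat.card h.W = 9 := by
  have e : zpowers z ⊔ h.W = J ⊓ Q := le_antisymm (sup_le (le_inf (zpowers_le.2 h.zJ) h.zQ)
    fun w hw => ⟨hw.1, h.w_WQ hw⟩) fun x hx => by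
      obtain ⟨d, -, d1, w, hw, rfl⟩ := h.w_dec hx.1
      exact mul_mem_sup (d1 hx.2) hw
  have := card_sup_of_disjoint (H := zpowers z) (K := h.W) (le_trans (show _ ≤ centralizer (h.W : Set G) from
    fun x hx w hw => h.cS (h.JS hw.1) hx) (centralizer_le_normalizer _)) (eq_bot_iff.2 fun x hx => w_si (h.J3 x hx.2.1) (by
      rw [← hx.2.2, h.cL h.tL hx.1, mul_inv_cancel_right]))
  rw [e, h.cV, h.cZ] at this
  omega

theorem w_phi : ∃ φ : G → M23, (∀ {x y}, x ∈ normalizer (J : Set G) ⊓ centralizer {t} →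
    y ∈ normalizer (J : Set G) ⊓ centralizer {t} → φ (x * y) = φ x * φ y) ∧
    (∀ {x}, x ∈ normalizer (J : Set G) ⊓ centralizer {t} → (φ x = 1 ↔ ∀ w ∈ h.W, x * w = w * x)) ∧ φ t = -1 := by
  classical
  have := Fact.mk Nat.prime_three
  have l : normalizer (J : Set G) ⊓ centralizer {t} ≤ normalizer (h.W : Set G) :=
    le_normalizer_of_cj_le fun k hk _ ⟨w, hw, e⟩ => e ▸ (⟨conj_mem_of_mem_normalizer hk.1 hw.1, by
      have c : Commute k t := mem_centralizer_singleton_iff.1 hk.2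
      rw [← w_ci, ← hw.2, ← mul_assoc, ← mul_assoc, ← c.eq, mul_assoc _ k⁻¹, c.inv_inv.eq]
      simp only [mul_assoc]⟩ : k * w * k⁻¹ ∈ h.W)
  obtain ⟨e⟩ := PGrp.mulAut_equiv_GL_of_elem (W := h.W) (p := 3) (n := 2)
    (fun a b => Subtype.ext (h.Jc _ a.2.1 _ b.2.1)) (fun a => Subtype.ext (h.J3 _ a.2.1)) h.w_card
  let ψ := h.W.normalizerMonoidHom.comp (inclusion l)
  have one : ∀ x, (e (ψ x) : M23) = 1 ↔ ∀ w ∈ h.W, (x : G) * w = w * x := fun x => by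
    rw [Units.val_eq_one, map_eq_one_iff _ e.injective]
    exact ⟨fun a w hw => mul_inv_eq_iff_eq_mul.1 (congrArg Subtype.val (DFunLike.congr_fun a ⟨w, hw⟩) :),
      fun a => MulEquiv.ext fun w => Subtype.ext (mul_inv_eq_iff_eq_mul.2 (a w w.2))⟩
  have tT : t ∈ normalizer (J : Set G) ⊓ centralizer {t} := ⟨h.nSJ h.w_tS, mem_centralizer_singleton_iff.2 rfl⟩
  refine ⟨fun x => if a : x ∈ normalizer (J : Set G) ⊓ centralizer {t} then (e (ψ ⟨x, a⟩) : M23) else 1,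
    fun {x y} a b => ?_, fun {x} a => ?_, ?_⟩
  · simp only []
    rw [dif_pos a, dif_pos b, dif_pos (mul_mem a b), ← Units.val_mul, ← map_mul, ← map_mul]; rfl
  · simp only []
    rw [dif_pos a]; exact one ⟨x, a⟩
  · simp only []
    rw [dif_pos tT]
    by_contra n
    obtain ⟨m, m1, m2⟩ := m_cen _ (by
      rw [← Units.val_mul, ← map_mul, ← map_mul, show (⟨t, tT⟩ * ⟨t, tT⟩ :
        ↥(normalizer (J : Set G) ⊓ centralizer {t})) = 1 from Subtype.ext h.tt,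
        map_one, map_one, Units.val_one]) (fun a => by
      have : h.W = ⊥ := eq_bot_iff.2 fun w hw => w_si (h.J3 w hw.1) (by
        rw [← hw.2, show t * w = w * t from (one _).1 a w hw, mul_inv_cancel_right])
      have c := h.w_card
      rw [this, card_bot] at c
      omega) n
    obtain ⟨α, hα⟩ := e.surjective ⟨m, m * m, m1, by rw [mul_assoc, m1]⟩
    have i : ∀ w : h.W, ψ ⟨t, tT⟩ w = w⁻¹ := fun w => Subtype.ext w.2.2
    have : α * ψ ⟨t, tT⟩ = ψ ⟨t, tT⟩ * α := MulEquiv.ext fun w => by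
      rw [MulAut.mul_apply, MulAut.mul_apply, i, i, map_inv]
    have := congrArg (fun a => (e a : M23)) this
    simp only [map_mul, Units.val_mul, hα] at this
    exact m2 this

theorem w_dual {x : G} (a : x ∈ normalizer (S : Set G)) (cw : ∀ w ∈ h.W, x * w = w * x)
    (c : (x * z * x⁻¹ = z ∧ x * j * x⁻¹ = j⁻¹) ∨ (x * z * x⁻¹ = z⁻¹ ∧ x * j * x⁻¹ = j)) : False := by
  obtain ⟨q, q1, q2⟩ : ∃ q ∈ Q, q ∉ J := by
    by_contra! k
    have := h.cV
    rw [inf_eq_right.2 k, h.cQ] at this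
    omega
  have q3 := conj_mem_of_mem_normalizer (h.nQ (h.nSz a)) q1
  have jq := conj_mem_of_mem_normalizer (h.nSJ (le_normalizer (h.QS q1))) h.w_jJ
  have yQ : j * q * j⁻¹ * q⁻¹ ∈ Q := mul_mem (h.Ln (h.SL (h.JS h.w_jJ)) q1) (inv_mem q1)
  have yJ : j * q * j⁻¹ * q⁻¹ ∈ J := by
    have := mul_mem h.w_jJ (inv_mem jq)
    rwa [← w_ci, ← mul_assoc, ← mul_assoc] at this
  refine q2 (h.FV j h.w_jJ h.jQ q q1 ?_)
  have cv : ∀ r ∈ Q, (∀ w ∈ h.W, w * r * w⁻¹ = r) → r ∈ J := fun r r1 r2 =>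
    (h.CV.le ⟨r1, fun y hy => by
      obtain ⟨d, -, d1, w, hw, rfl⟩ := h.w_dec hy.1
      rw [mul_assoc, mul_inv_eq_iff_eq_mul.1 (r2 w hw), ← mul_assoc, ← h.cS (h.QS r1) (d1 hy.2), mul_assoc]⟩).1
  have k0 : ∀ w ∈ h.W, w * (x * q * x⁻¹) * w⁻¹ = x * ⁅w, q⁆ * x⁻¹ * (x * q * x⁻¹) := fun w hw => by
    have c : Commute x w := cw w hw
    rw [conj_mul, commutatorElement_def, inv_mul_cancel_right, ← mul_assoc, ← mul_assoc, ← c.eq, mul_assoc _ x⁻¹,
      c.inv_inv.eq]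
    simp only [mul_assoc]
  have k1 : ∀ w : G, w * q * w⁻¹ = ⁅w, q⁆ * q := fun w => by rw [commutatorElement_def, inv_mul_cancel_right]
  obtain ⟨d, -, d1, w, hw, e⟩ := h.w_dec yJ
  replace d1 := d1 yQ
  have z3 : z ^ 3 = 1 := h.J3 z h.zJ
  rcases c with ⟨c1, c2⟩ | ⟨c1, c2⟩
  · have cz : ∀ y ∈ zpowers z, x * y * x⁻¹ = y := fun y ⟨n, e⟩ => by rw [← e, ← conj_zpow, c1]
    have r := cv _ (mul_mem (inv_mem q1) q3) fun w hw => by
      rw [← conj_mul, w_ci, k0 w hw, k1, cz _ (h.Qc w (h.w_WQ hw) q q1)]; group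
    have f : x * (j * q * j⁻¹ * q⁻¹) * x⁻¹ = j * q * j⁻¹ * q⁻¹ := by
      rw [e, ← conj_mul, cz d d1, cw w hw, mul_inv_cancel_right]
    rw [← conj_mul, ← conj_mul, ← conj_mul, w_ci, w_ci, c2, ← mul_inv_cancel_left q (x * q * x⁻¹)] at f
    have cr := h.Jc _ r _ h.w_jJ
    generalize q⁻¹ * (x * q * x⁻¹) = r at f cr
    have f2 : j⁻¹ * (q * j * q⁻¹) = j * (q * j * q⁻¹)⁻¹ := by
      calc _ = j⁻¹ * q * (j * r) * r⁻¹ * q⁻¹ := by group
        _ = j⁻¹ * (q * r) * j⁻¹⁻¹ * (q * r)⁻¹ := by rw [← cr]; group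
        _ = _ := by rw [f]; group
    have f3 : j * (q * j * q⁻¹)⁻¹ = 1 := w_si (h.J3 _ (mul_mem h.w_jJ (inv_mem jq))) (by
      rw [mul_inv_rev j, inv_inv, h.Jc _ jq _ (inv_mem h.w_jJ), f2])
    rw [show j * q * j⁻¹ * q⁻¹ = j * (q * j * q⁻¹)⁻¹ by group, f3]
    exact one_mem _
  · have cz : ∀ y ∈ zpowers z, x * y * x⁻¹ = y⁻¹ := fun y ⟨n, e⟩ => by rw [← e, ← conj_zpow, c1, inv_zpow]
    have r := cv _ (mul_mem q1 q3) fun w hw => by
      rw [← conj_mul, k0 w hw, k1, cz _ (h.Qc w (h.w_WQ hw) q q1), ← h.cS (h.QS q1) (h.Qc w (h.w_WQ hw) q q1)]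
      group
    have f : x * (j * q * j⁻¹ * q⁻¹) * x⁻¹ = d⁻¹ * w := by
      rw [e, ← conj_mul, cz d d1, cw w hw, mul_inv_cancel_right]
    rw [← conj_mul, ← conj_mul, ← conj_mul, w_ci, w_ci, c2, ← inv_mul_cancel_left q (x * q * x⁻¹)] at f
    have cr := h.Jc _ r _ (inv_mem h.w_jJ)
    generalize q * (x * q * x⁻¹) = r at f cr
    have f2 : q⁻¹ * (d * w)⁻¹ * q = d⁻¹ * w := by
      rw [← f, ← e, mul_assoc j (q⁻¹ * r), mul_assoc q⁻¹ r, cr]; group
    have f3 : ⁅q⁻¹, w⁻¹⁆ = w * w := by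
      rw [commutatorElement_def, inv_inv, inv_inv, mul_left_inj, ← mul_right_inj d⁻¹, ← f2, mul_inv_rev,
        h.cS (h.QS (mul_mem (inv_mem q1) (inv_mem (h.w_WQ hw)))) (inv_mem d1) |> fun e => (mul_assoc _ _ _).symm.trans e]
      simp only [mul_assoc]
    have f4 := f3 ▸ h.Qc _ (inv_mem q1) _ (inv_mem (h.w_WQ hw))
    rw [e]
    exact mul_mem d1 (w_four (h.J3 w hw.1) ▸ mul_mem f4 f4)

theorem w_pm {φ : G → M23} (mul : ∀ {x y}, x ∈ normalizer (J : Set G) ⊓ centralizer {t} →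
    y ∈ normalizer (J : Set G) ⊓ centralizer {t} → φ (x * y) = φ x * φ y)
    (one : ∀ {x}, x ∈ normalizer (J : Set G) ⊓ centralizer {t} → (φ x = 1 ↔ ∀ w ∈ h.W, x * w = w * x))
    (neg : φ t = -1) {x : G} (a : x ∈ normalizer (J : Set G) ⊓ centralizer {t}) (e : φ x = 1 ∨ φ x = -1) :
    ∃ τ, (τ = 1 ∨ τ = t) ∧ ∀ w ∈ h.W, x * τ * w = w * (x * τ) := by
  have tT : t ∈ normalizer (J : Set G) ⊓ centralizer {t} := ⟨h.nSJ h.w_tS, mem_centralizer_singleton_iff.2 rfl⟩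
  rcases e with e | e
  · exact ⟨1, .inl rfl, by rw [mul_one]; exact (one a).1 e⟩
  · exact ⟨t, .inr rfl, (one (mul_mem a tT)).1 (by rw [mul a tT, e, neg]; simp)⟩

theorem w_dual' {φ : G → M23} (mul : ∀ {x y}, x ∈ normalizer (J : Set G) ⊓ centralizer {t} →
    y ∈ normalizer (J : Set G) ⊓ centralizer {t} → φ (x * y) = φ x * φ y)
    (one : ∀ {x}, x ∈ normalizer (J : Set G) ⊓ centralizer {t} → (φ x = 1 ↔ ∀ w ∈ h.W, x * w = w * x))
    (neg : φ t = -1) {x : G} (a : x ∈ normalizer (S : Set G)) (b : x * t = t * x) (e : φ x = 1 ∨ φ x = -1)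
    (c : (x * z * x⁻¹ = z ∧ x * j * x⁻¹ = j⁻¹) ∨ (x * z * x⁻¹ = z⁻¹ ∧ x * j * x⁻¹ = j)) : False := by
  obtain ⟨τ, rfl | rfl, k⟩ := h.w_pm mul one neg ⟨h.nSJ a, mem_centralizer_singleton_iff.2 b⟩ e
  · exact h.w_dual a (by simpa using k) c
  · have i : ∀ {d}, d ∈ closure {z, j} → x * τ * d * (x * τ)⁻¹ = x * d * x⁻¹ := fun {d} m => by
      rw [mul_assoc x, ← h.w_Dt m]; group
    exact h.w_dual (mul_mem a h.w_tS) k (by rwa [i h.w_zD, i h.w_jD])

theorem w_pm2 {φ : G → M23} (mul : ∀ {x y}, x ∈ normalizer (J : Set G) ⊓ centralizer {t} →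
    y ∈ normalizer (J : Set G) ⊓ centralizer {t} → φ (x * y) = φ x * φ y)
    (one : ∀ {x}, x ∈ normalizer (J : Set G) ⊓ centralizer {t} → (φ x = 1 ↔ ∀ w ∈ h.W, x * w = w * x))
    (neg : φ t = -1) {x y d : G} (a : x ∈ normalizer (J : Set G) ⊓ centralizer {t})
    (b : y ∈ normalizer (J : Set G) ⊓ centralizer {t}) (m : d ∈ closure {z, j})
    (e : x * y * x⁻¹ * y⁻¹ = d ∨ x * y * x⁻¹ * y⁻¹ = d * t) :
    φ x * φ y = φ y * φ x ∨ φ x * φ y = -(φ y * φ x) := by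
  have tT : t ∈ normalizer (J : Set G) ⊓ centralizer {t} := ⟨h.nSJ h.w_tS, mem_centralizer_singleton_iff.2 rfl⟩
  have dT : d ∈ normalizer (J : Set G) ⊓ centralizer {t} := ⟨le_normalizer (h.w_DJ m), h.sylD.le m⟩
  have d1 : φ d = 1 := (one dT).2 fun w hw => h.Jc _ (h.w_DJ m) _ hw.1
  rw [← mul a b, ← mul b a, show x * y = x * y * x⁻¹ * y⁻¹ * (y * x) by group]
  refine e.imp (fun e => ?_) fun e => ?_
  · rw [e, mul dT (mul_mem b a), d1, one_mul]
  · rw [e, mul (mul_mem dT tT) (mul_mem b a), mul dT tT, d1, neg, one_mul, neg_one_mul]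

omit [Finite G] in
theorem w_s' : v * s * v⁻¹ * z * (v * s * v⁻¹)⁻¹ = z⁻¹ ∧ v * s * v⁻¹ * j * (v * s * v⁻¹)⁻¹ = j ∧
    v * s * v⁻¹ * t = t * (v * s * v⁻¹) ∧ v * s * v⁻¹ * (v * s * v⁻¹) = t ∧ v * s * v⁻¹ ∈ normalizer (S : Set G) := by
  have a : v * s * v⁻¹ * z * (v * s * v⁻¹)⁻¹ = z⁻¹ := by
    rw [← h.w_vj, ← w_ci v s, conj_mul, conj_mul, h.sj, w_ci]
  refine ⟨a, ?_, ((show Commute v t from h.vt).mul_left h.st).mul_left (show Commute v t from h.vt).inv_left, ?_,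
    h.nJS _ (mul_mem (mul_mem h.vJ (h.nSJ h.sS)) (inv_mem h.vJ)) (w_nz a)⟩
  · rw [← h.vz, ← w_ci v s, conj_mul, conj_mul, h.zL h.sL, mul_inv_cancel_right]
  · rw [conj_mul, h.ss, h.vt, mul_inv_cancel_right]

omit [Finite G] in
theorem w_c {d : G} (m : d ∈ closure {z, j}) : s * (v * s * v⁻¹) * d * (s * (v * s * v⁻¹))⁻¹ = d⁻¹ := by
  obtain ⟨a, b, -⟩ := h.w_s'
  generalize v * s * v⁻¹ = r at a b
  refine h.w_inv ?_ ?_ m
  · rw [show s * r * z * (s * r)⁻¹ = s * (r * z * r⁻¹) * s⁻¹ by group, a, w_ci, h.zL h.sL, mul_inv_cancel_right]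
  · rw [show s * r * j * (s * r)⁻¹ = s * (r * j * r⁻¹) * s⁻¹ by group, b, h.sj]

theorem comm : ⁅s, v * s * v⁻¹⁆ = t := by
  obtain ⟨a1, a2, a3, a4, a5⟩ := h.w_s'
  obtain ⟨d, m, e0⟩ := h.w_norm (w_nz a1) a3 (.inl a2)
  obtain ⟨τ, τ1, e⟩ : ∃ τ, (τ = 1 ∨ τ = t) ∧ v * s * v⁻¹ * s * (v * s * v⁻¹)⁻¹ * s⁻¹ = d * τ :=
    e0.elim (fun e => ⟨1, .inl rfl, by rw [e, mul_one]⟩) fun e => ⟨t, .inr rfl, e⟩
  have c : ∀ {g}, g * t = t * g → Commute g τ := fun e => τ1.elim (fun k => k ▸ Commute.one_right _) fun k => k ▸ e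
  have ττ : τ * τ = 1 := τ1.elim (fun k => by rw [k, mul_one]) fun k => by rw [k, h.tt]
  have k1 : s * d * s⁻¹ = d⁻¹ := by
    have : v * s * v⁻¹ * s * (v * s * v⁻¹)⁻¹ * (v * s * v⁻¹ * s * (v * s * v⁻¹)⁻¹) = s * s := by
      rw [conj_mul, h.ss, a3, mul_inv_cancel_right]
    rw [mul_inv_eq_iff_eq_mul.1 e] at this
    refine eq_inv_of_mul_eq_one_right (mul_right_cancel (b := s * s) ?_)
    calc _ = d * s * (τ * τ) * d * s := by rw [ττ]; group
      _ = d * τ * s * (d * τ * s) := by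
        rw [← mul_assoc _ τ τ, mul_assoc d s τ, (c h.st).eq, mul_assoc _ τ d, ← (c (h.w_Dt m)).eq]
        simp only [mul_assoc]
      _ = _ := by rw [this, one_mul]
  have k2 : v * d * v⁻¹ = d⁻¹ := by
    have : v * (d * τ) * v⁻¹ = (d * τ)⁻¹ := by
      rw [← e]
      calc _ = v * v * s * (v * v)⁻¹ * (v * s * v⁻¹) * (v * v * s⁻¹ * (v * v)⁻¹) * (v * s⁻¹ * v⁻¹) := by group
        _ = _ := by rw [h.vv]; group
    rw [← conj_mul, (c h.vt).eq, mul_inv_cancel_right, (c (h.w_Dt m)).eq, mul_inv_rev,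
      inv_eq_of_mul_eq_one_right ττ] at this
    exact mul_right_cancel this
  have k3 : v * s * v⁻¹ * d * (v * s * v⁻¹)⁻¹ = d⁻¹ := by
    have : v * s * v⁻¹ * (v * d * v⁻¹) * (v * s * v⁻¹)⁻¹ = (v * d * v⁻¹)⁻¹ := by
      rw [← w_ci v s, conj_mul, conj_mul, k1, w_ci]
    rw [k2, w_ci _ d] at this
    exact inv_injective this
  have d1 : d = 1 := w_si (h.J3 d (h.w_DJ m)) (by
    conv_rhs => rw [← h.w_c m, show s * (v * s * v⁻¹) * d * (s * (v * s * v⁻¹))⁻¹ =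
      s * (v * s * v⁻¹ * d * (v * s * v⁻¹)⁻¹) * s⁻¹ by group, k3, w_ci, k1, inv_inv])
  rw [d1, one_mul] at e
  rcases τ1 with τ1 | τ1 <;> rw [τ1] at e
  swap
  · rw [← commutatorElement_inv, commutatorElement_def, e, h.w_ti]
  exfalso
  obtain ⟨φ, mul, one, neg⟩ := h.w_phi
  have ut : u * t = t * u := by rw [← h.uu, mul_assoc]
  have T : ∀ {g}, g ∈ normalizer (J : Set G) → g * t = t * g → g ∈ normalizer (J : Set G) ⊓ centralizer {t} :=
    fun a b => ⟨a, mem_centralizer_singleton_iff.2 b⟩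
  have sT := T (h.nSJ h.sS) h.st
  have uT := T (h.nSJ h.uS) ut
  have vT := T h.vJ h.vt
  have z3 := h.J3 z h.zJ
  have j3 := h.J3 j h.w_jJ
  have z1 : z ≠ 1 := fun e => by have := h.z3; rw [e, orderOf_one] at this; omega
  have j1 : j ≠ 1 := fun e => h.jQ (e ▸ one_mem Q)
  have uz : u * z * u⁻¹ = z ∨ u * z * u⁻¹ = z⁻¹ := (mem3 z3 (conj_mem_of_mem_normalizer (h.nSz h.uS)
    (mem_zpowers z))).resolve_left fun e => z1 (conj_eq_one_iff.1 e)
  have uj : u * j * u⁻¹ = j ∨ u * j * u⁻¹ = j⁻¹ := by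
    refine (mem3 j3 ((h.pts _ (h.D _ (h.JS (conj_mem_of_mem_normalizer (h.nSJ h.uS) h.w_jJ))
      (((show Commute u t from ut).mul_left (h.w_Dt h.w_jD)).mul_left (show Commute u t from ut).inv_left))
      ((isConj_iff.2 ⟨v, h.vz⟩).trans (isConj_iff.2 ⟨u, rfl⟩))).resolve_left fun e =>
        h.jQ (h.zQ ((mem_normalizer_iff.1 (h.nSz h.uS) j).2 e)))).resolve_left fun e => j1 (conj_eq_one_iff.1 e)
  have vu : v * (u * (v * (u * z * u⁻¹) * v⁻¹) * u⁻¹) * v⁻¹ = z := by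
    have := mul_inv_eq_iff_eq_mul.2 (h.Jc _ h.vu _ h.zJ)
    calc _ = v * u * v * u * z * u⁻¹ * v⁻¹ * u⁻¹ * v⁻¹ := by group
      _ = v * u * v⁻¹ * u * z * u⁻¹ * v * u⁻¹ * v⁻¹ := by rw [h.w_vi]
      _ = v * u * v⁻¹ * u * z * (v * u * v⁻¹ * u)⁻¹ := by group
      _ = z := this
  have us : ∀ y, u * s * y * (u * s)⁻¹ = u * (s * y * s⁻¹) * u⁻¹ := fun y => by group
  have du : ¬ (φ u * φ s = 1 ∨ φ u * φ s = -1) := fun k => h.w_dual' mul one neg (mul_mem h.uS h.sS)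
    ((show Commute u t from ut).mul_left h.st) (by rwa [mul uT sT]) (by
      rw [us, us, h.sj, h.zL h.sL, mul_inv_cancel_right, w_ci]
      rcases uz with a | a <;> rcases uj with b | b
      · exact .inl ⟨a, by rw [b]⟩
      · rw [a, h.vz, b, w_ci, h.w_vj] at vu; exact absurd (w_si z3 vu.symm) z1
      · rw [a, w_ci v z, h.vz, w_ci, b, w_ci, h.w_vj] at vu; exact absurd (w_si z3 vu.symm) z1
      · exact .inr ⟨a, by rw [b, inv_inv]⟩)
  obtain ⟨d, m, k⟩ := h.w_norm (h.nSz h.uS) ut uj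
  refine m_one (φ s) (by rw [← mul sT sT, h.ss, neg]) (φ u) (by rw [← mul uT uT, h.uu, neg])
    (h.w_pm2 mul one neg uT sT m k) (fun e => du (.inl e)) (fun e => du (.inr e)) (φ v)
    (by rw [← mul vT vT, h.vv]; exact (one (one_mem _)).2 fun w _ => by simp) ?_ ?_
  · rw [← mul vT uT, ← mul (mul_mem vT uT) vT, ← mul (mul_mem (mul_mem vT uT) vT) uT]
    refine (one (mul_mem (mul_mem (mul_mem vT uT) vT) uT)).2 fun w hw => h.Jc _ ?_ _ hw.1
    have := h.vu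
    rwa [h.w_vi] at this
  · have r := mul_mem (mul_mem vT sT) vT
    rw [← mul vT sT, ← mul (mul_mem vT sT) vT, ← mul sT r, ← mul r sT]
    rw [h.w_vi, mul_inv_eq_one, mul_inv_eq_iff_eq_mul] at e
    rw [e]

theorem cases : (∀ x, x * t = t * x → Commute x z → Commute x j → x ∈ closure {z, j} ⊔ zpowers t) ∨
    ∃ ι, ι * t = t * ι ∧ ι * ι = 1 ∧ (∀ x ∈ J, ι * x * ι⁻¹ = x⁻¹) ∧ Commute ι s ∧ Commute ι v ∧
      ∀ x, x * t = t * x → Commute x z → Commute x j →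
        x ∈ closure {z, j} ⊔ zpowers (ι * (s * (v * s * v⁻¹))⁻¹) := by
  obtain ⟨a1, a2, a3, a4, a5⟩ := h.w_s'
  have hc := h.comm
  have cD := @h.w_c
  have vv : v * (v * s * v⁻¹) * v⁻¹ = s := by
    rw [show v * (v * s * v⁻¹) * v⁻¹ = v * v * s * (v * v)⁻¹ by group, h.vv]; simp
  obtain ⟨φ, mul, one, neg⟩ := h.w_phi
  have T : ∀ {g}, g ∈ normalizer (J : Set G) → g * t = t * g → g ∈ normalizer (J : Set G) ⊓ centralizer {t} :=
    fun a b => ⟨a, mem_centralizer_singleton_iff.2 b⟩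
  have sT := T (h.nSJ h.sS) h.st
  have rT := T (h.nSJ a5) a3
  have nz : ∀ {x}, Commute x z → Commute x j → x ∈ normalizer (S : Set G) := fun a b =>
    h.nJS _ (h.Ny _ (nz_of (a.mul_right b))) (nz_of a)
  have JD : ∀ {x}, x * t = t * x → (∀ y ∈ J, x * y = y * x) → x ∈ closure {z, j} := fun a b =>
    h.D _ (h.JS (h.CJ fun y hy => (b y hy).symm)) a
  have key : ∀ x, x * t = t * x → Commute x z → Commute x j → x ∈ closure {z, j} ⊔ zpowers t ∨
      ∃ τ, (τ = 1 ∨ τ = t) ∧ ∀ y ∈ J, x * (s * (v * s * v⁻¹)) * τ * y * (x * (s * (v * s * v⁻¹)) * τ)⁻¹ = y⁻¹ := by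
    intro x xt xz xj
    have xT := T (h.nSJ (nz xz xj)) xt
    obtain ⟨d, m, e⟩ := h.w_norm (nz_of xz) xt (.inl (mul_inv_eq_iff_eq_mul.2 xj))
    have c : ∀ {y w : G}, v * y * v⁻¹ = w → Commute x y → Commute (v * x * v⁻¹) w := fun e c => by
      rw [← e]; exact c.conj v
    obtain ⟨d', m', e'⟩ := h.w_norm (x := v * x * v⁻¹) (nz_of (c h.w_vj xj))
      (c (mul_inv_eq_iff_eq_mul.2 h.vt) xt) (.inl (mul_inv_eq_iff_eq_mul.2 (c h.vz xz)))
    have vd : v * d' * v⁻¹ ∈ closure {z, j} := h.D _ (h.JS (conj_mem_of_mem_normalizer h.vJ (h.w_DJ m')))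
      (((show Commute v t from h.vt).mul_left (h.w_Dt m')).mul_left (show Commute v t from h.vt).inv_left)
    have k : x * (v * s * v⁻¹) * x⁻¹ * (v * s * v⁻¹)⁻¹ = v * (v * x * v⁻¹ * s * (v * x * v⁻¹)⁻¹ * s⁻¹) * v⁻¹ := by
      calc _ = v * v * x * (v * v)⁻¹ * (v * s * v⁻¹) * (v * v * x * (v * v)⁻¹)⁻¹ * (v * s * v⁻¹)⁻¹ := by
            rw [h.vv]; group
        _ = _ := by group
    have p2 := h.w_pm2 mul one neg xT rT vd (e'.imp (fun e => by rw [k, e]) fun e => by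
      rw [k, e, ← conj_mul, h.vt, mul_inv_cancel_right])
    have dt : φ x 0 0 * φ x 1 1 - φ x 0 1 * φ x 1 0 ≠ 0 := fun e => by
      have := congrArg Matrix.det ((mul xT (inv_mem xT)).symm.trans ((one (mul_mem xT (inv_mem xT))).2
        fun w _ => by simp))
      rw [Matrix.det_mul, Matrix.det_fin_two, e, zero_mul, Matrix.det_one] at this
      exact absurd this (by decide)
    have tT : t ∈ normalizer (J : Set G) ⊓ centralizer {t} := T (h.nSJ h.w_tS) rfl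
    obtain ⟨w, hw, k⟩ := m_two (φ s) (by rw [← mul sT sT, h.ss, neg]) (φ (v * s * v⁻¹))
      (by rw [← mul rT rT, a4, neg]) (fun e => by
        have e2 : φ (s * (v * s * v⁻¹)) = φ (t * (v * s * v⁻¹ * s)) := by
          rw [← hc, commutatorElement_def]; congr 1; group
        rw [mul sT rT, mul tT (mul_mem rT sT), mul rT sT, neg, e, neg_one_mul] at e2
        have e3 := congrArg (fun m => φ (v * s * v⁻¹) * m * φ s) e2
        simp only [mul_neg, neg_mul, ← mul_assoc] at e3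
        rw [← mul rT rT, a4, mul_assoc, ← mul sT sT, h.ss, neg] at e3
        exact absurd e3 (by decide))
      (φ x) dt (h.w_pm2 mul one neg xT sT m e) p2
    have τc : ∀ {τ d}, (τ = 1 ∨ τ = t) → d ∈ closure {z, j} → τ * d = d * τ := fun a b =>
      a.elim (fun e => by rw [e, one_mul, mul_one]) fun e => by rw [e, h.w_Dt b]
    have τt : ∀ {τ}, (τ = 1 ∨ τ = t) → Commute τ t := fun a => a.elim (fun e => e ▸ Commute.one_left _) fun e => e ▸ rfl
    have cj2 : ∀ g y : G, x * g * y * (x * g)⁻¹ = x * (g * y * g⁻¹) * x⁻¹ := fun g y => by group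
    simp only [List.mem_cons, List.not_mem_nil, or_false] at hw
    rcases hw with rfl | rfl | rfl | rfl
    · obtain ⟨τ, τ1, k⟩ := h.w_pm mul one neg xT (by simpa using k)
      have := JD ((show Commute x t from xt).mul_left (τt τ1)) fun y hy => by
        obtain ⟨d, m, -, w, hw, rfl⟩ := h.w_dec hy
        exact ((show Commute x d from w_cen xz xj m).mul_left (τc τ1 m)).mul_right (k w hw)
      exact .inl ((mul_mem_cancel_right (mem_sup_right (τ1.elim (fun e => e ▸ one_mem _)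
        fun e => e ▸ mem_zpowers t))).1 (mem_sup_left this))
    · exact (h.w_dual' mul one neg (mul_mem (nz xz xj) h.sS) ((show Commute x t from xt).mul_left h.st)
        (by rwa [mul xT sT]) (.inl ⟨by rw [cj2, h.zL h.sL, mul_inv_cancel_right, xz.eq, mul_inv_cancel_right],
          by rw [cj2, h.sj, w_ci, xj.eq, mul_inv_cancel_right]⟩)).elim
    · exact (h.w_dual' mul one neg (mul_mem (nz xz xj) a5) ((show Commute x t from xt).mul_left a3)
        (by rwa [mul xT rT]) (.inr ⟨by rw [cj2, a1, w_ci, xz.eq, mul_inv_cancel_right],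
          by rw [cj2, a2, xj.eq, mul_inv_cancel_right]⟩)).elim
    · obtain ⟨τ, τ1, k⟩ := h.w_pm mul one neg (mul_mem xT (mul_mem sT rT)) (by rwa [mul xT (mul_mem sT rT), mul sT rT])
      refine .inr ⟨τ * t, τ1.elim (fun e => .inr (by rw [e, one_mul])) fun e => .inl (by rw [e, h.tt]), fun y hy => ?_⟩
      obtain ⟨d, m, -, w, hw, rfl⟩ := h.w_dec hy
      have cd := cD m
      generalize s * (v * s * v⁻¹) = c at k cd
      rw [← conj_mul, h.Jc d (h.w_DJ m) w hw.1, mul_inv_rev w]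
      congr 1
      · calc _ = x * (c * (τ * (t * d * t⁻¹) * τ⁻¹) * c⁻¹) * x⁻¹ := by group
          _ = _ := by
            rw [← h.w_Dt m, mul_inv_cancel_right, τc τ1 m, mul_inv_cancel_right, cd, w_ci, w_cen xz xj m,
              mul_inv_cancel_right]
      · calc _ = x * c * τ * (t * w * t⁻¹) * (x * c * τ)⁻¹ := by group
          _ = _ := by rw [hw.2, w_ci, k w hw, mul_inv_cancel_right]
  by_cases H : ∀ x, x * t = t * x → Commute x z → Commute x j → x ∈ closure {z, j} ⊔ zpowers t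
  · exact .inl H
  right
  push Not at H
  obtain ⟨x, xt, xz, xj, n⟩ := H
  obtain ⟨τ, τ1, k⟩ := (key x xt xz xj).resolve_left n
  have τt : ∀ {τ}, (τ = 1 ∨ τ = t) → Commute τ t := fun a => a.elim (fun e => e ▸ Commute.one_left _) fun e => e ▸ rfl
  have ct : Commute (s * (v * s * v⁻¹)) t := (show Commute s t from h.st).mul_left a3
  have cJ : s * (v * s * v⁻¹) ∈ normalizer (J : Set G) := (mul_mem sT rT).1
  have sw : v * s * v⁻¹ * s = t * (s * (v * s * v⁻¹)) := by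
    rw [← h.w_ti, ← hc, commutatorElement_def]; group
  have sc : s⁻¹ * (s * (v * s * v⁻¹)) * s = t * (s * (v * s * v⁻¹)) := by rw [← sw]; group
  have vc : v⁻¹ * (s * (v * s * v⁻¹)) * v = t * (s * (v * s * v⁻¹)) := by
    rw [← sw]
    calc _ = v⁻¹ * s * v * s := by group
      _ = _ := by rw [h.w_vi]
  have cc : s * (v * s * v⁻¹) * (s * (v * s * v⁻¹)) = t := by
    calc _ = s * (v * s * v⁻¹ * s) * (v * s * v⁻¹) := by group
      _ = s * t * s * (v * s * v⁻¹ * (v * s * v⁻¹)) := by rw [sw]; group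
      _ = t := by rw [a4, h.st, mul_assoc t s s, h.ss, h.tt, one_mul]
  have i0 := ((show Commute x t from xt).mul_left ct).mul_left (τt τ1)
  generalize s * (v * s * v⁻¹) = c at *
  generalize x * c * τ = ι0 at k i0
  have df : ∀ {a b : G}, Commute a t → Commute b t → (∀ y ∈ J, a * y * a⁻¹ = y⁻¹) → (∀ y ∈ J, b * y * b⁻¹ = y⁻¹) →
      a⁻¹ * b ∈ closure {z, j} := fun {a b} a1 b1 a2 b2 => JD (a1.inv_left.mul_left b1) fun y hy =>
    mul_inv_eq_iff_eq_mul.1 (by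
      rw [show a⁻¹ * b * y * (a⁻¹ * b)⁻¹ = a⁻¹ * (b * y * b⁻¹) * a by group, b2 y hy, ← a2 y hy]; group)
  have cn : ∀ {g a : G}, g ∈ normalizer (J : Set G) → (∀ y ∈ J, a * y * a⁻¹ = y⁻¹) →
      ∀ y ∈ J, g * a * g⁻¹ * y * (g * a * g⁻¹)⁻¹ = y⁻¹ := fun {g a} a1 a2 y hy => by
    rw [show g * a * g⁻¹ * y * (g * a * g⁻¹)⁻¹ = g * (a * (g⁻¹ * y * g⁻¹⁻¹) * a⁻¹) * g⁻¹ by group,
      a2 _ (conj_mem_of_mem_normalizer (inv_mem a1) hy)]; group
  have cm : ∀ {g a : G}, Commute g t → Commute a t → Commute (g * a * g⁻¹) t := fun a b =>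
    (a.mul_left b).mul_left a.inv_left
  have m := df i0 (cm ct i0) k (cn cJ k)
  have e0 : c * ι0 * c⁻¹ = ι0 * (ι0⁻¹ * (c * ι0 * c⁻¹)) := by group
  generalize ι0⁻¹ * (c * ι0 * c⁻¹) = d at m e0
  have i1 : Commute (ι0 * d⁻¹) t := i0.mul_left (show Commute d t from h.w_Dt m).inv_left
  have i2 : ∀ y ∈ J, ι0 * d⁻¹ * y * (ι0 * d⁻¹)⁻¹ = y⁻¹ := fun y hy => by
    rw [mul_assoc ι0, h.Jc _ (inv_mem (h.w_DJ m)) y hy, ← k y hy]; group
  have i3 : Commute c (ι0 * d⁻¹) := mul_inv_eq_iff_eq_mul.1 (by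
    rw [← conj_mul, e0, cD (inv_mem m), inv_inv, mul_assoc, mul_right_inj, eq_inv_iff_mul_eq_one,
      ← h.J3 d (h.w_DJ m)]; simp only [pow_succ, pow_zero, one_mul])
  generalize ι0 * d⁻¹ = ι at i1 i2 i3
  have uq : ∀ {g : G}, g ∈ normalizer (J : Set G) → Commute g t → g⁻¹ * c * g = t * c → Commute ι g :=
    fun {g} g1 g2 g3 => by
      have m := df i1 (cm g2 i1) i2 (cn g1 i2)
      have c2 : Commute c (g * ι * g⁻¹) := by
        have := (i1.symm.mul_left i3).conj g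
        rwa [← g3, show g * (g⁻¹ * c * g) * g⁻¹ = c by group] at this
      have := w_si (h.J3 _ (h.w_DJ m)) (by rw [← cD m, (i3.inv_right.mul_right c2).eq, mul_inv_cancel_right])
      exact (mul_inv_eq_iff_eq_mul.1 (inv_mul_eq_one.1 this).symm).symm
  have ii : ι * ι = 1 := by
    have m : ι * ι ∈ J := h.CJ fun y hy => (mul_inv_eq_iff_eq_mul.1 (by
      rw [show ι * ι * y * (ι * ι)⁻¹ = ι * (ι * y * ι⁻¹) * ι⁻¹ by group, i2 y hy, i2 _ (inv_mem hy), inv_inv])).symm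
    exact w_si (h.J3 _ m) (by rw [← i2 _ m]; group)
  refine ⟨ι, i1, ii, i2, uq sT.1 h.st sc, uq h.vJ h.vt vc, fun y yt yz yj => ?_⟩
  have tm : t ∈ zpowers (ι * c⁻¹) := by
    have : ι * c⁻¹ * (ι * c⁻¹) = t := by
      rw [i3.inv_left.mul_mul_mul_comm, ii, one_mul, ← mul_inv_rev, cc, h.w_ti]
    exact this ▸ mul_mem (mem_zpowers _) (mem_zpowers _)
  rcases key y yt yz yj with a | ⟨σ, σ1, a⟩
  · exact sup_le_sup_left (zpowers_le.2 tm) _ a
  have m := df i1 (((show Commute y t from yt).mul_left ct).mul_left (τt σ1)) i2 a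
  have σc : Commute σ c := σ1.elim (fun e => e ▸ Commute.one_left _) fun e => e ▸ ct.symm
  have e : y = (ι⁻¹ * (y * c * σ))⁻¹ * (ι * c⁻¹) * σ⁻¹ := by
    rw [← i2 _ (h.w_DJ m), mul_assoc y, ← σc.eq]
    calc y = y * (σ * (c * c⁻¹) * σ⁻¹) := by group
      _ = _ := by group
  rw [e]
  exact mul_mem (mul_mem_sup (inv_mem m) (mem_zpowers _)) (inv_mem (mem_sup_right
    (σ1.elim (fun e => e ▸ one_mem _) fun e => e ▸ tm)))

end H5

end Cfsg.Lib.Mc3
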