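import Cfsg.Agent.Lib.Mc3.L3
import Cfsg.Agent.Lib.Mc3.W

/-! The configuration around `t` without the condition on `N(⟨z j⟩)`. -/

set_option autoImplicit false

namespace Cfsg.Lib.Mc3

open Subgroup Cfsg.Lib.Amalg Cfsg.Lib.Core
open scoped commutatorElement

variable {G : Type*} [Group G]

/-- `H5` without the last condition. -/
structure H5m (S Q J L M : Subgroup G) (z : G) (θ : G → S25) (π : G → A6) (t j s u v : G) : Prop extends H4 S Q J L M z θ π t u v where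
  nSJ : normalizer (S : Set G) ≤ normalizer (J : Set G)
  nJS : ∀ g ∈ normalizer (J : Set G), g ∈ normalizer (zpowers z : Set G) → g ∈ normalizer (S : Set G)
  CJ : centralizer (J : Set G) ≤ J
  zJ : z ∈ J
  cV : Nat.card ↥(J ⊓ Q) = 27
  CV : Q ⊓ centralizer ((J ⊓ Q : Subgroup G) : Set G) = J ⊓ Q
  JQ : J ⊔ Q = S
  FV : ∀ x ∈ J, x ∉ Q → ∀ q ∈ Q, x * q * x⁻¹ * q⁻¹ ∈ zpowers z → q ∈ J
  vJ : v ∈ normalizer (J : Set G)
  vz : v * z * v⁻¹ = j
  jQ : j ∉ Q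
  D : ∀ x ∈ S, x * t = t * x → x ∈ closure {z, j}
  sL : s ∈ L
  st : s * t = t * s
  ss : s * s = t
  sj : s * j * s⁻¹ = j⁻¹
  sS : s ∈ normalizer (S : Set G)
  pts : ∀ y ∈ closure {z, j}, IsConj z y → y ∈ zpowers z ∨ y ∈ zpowers j
  sylD : Syl 3 (closure {z, j}) (centralizer {t})
  Nd : ∀ g, g * z = z * g → g * j = j * g → g ∈ normalizer (S : Set G)

theorem H4.exists_H5m [Finite G] {S Q J L M : Subgroup G} {z : G} {θ : G → S25} {π : G → A6} {t u v : G} (h : H4 S Q J L M z θ π t u v) :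
    ∃ j s, H5m S Q J L M z θ π t j s u v := by
  haveI : Fact (Nat.Prime 3) := ⟨Nat.prime_three⟩
  have vJ := h.MJ h.vM
  have jJ := conj_mem_of_mem_normalizer vJ h.zJ
  have zt := h.zL h.tL
  have jt : v * z * v⁻¹ * t = t * (v * z * v⁻¹) := (Commute.mul_left (Commute.mul_left h.vt zt.symm) (Commute.inv_left h.vt) :)
  have z3 : z ^ 3 = 1 := h.z3 ▸ pow_orderOf_eq_one z
  have jQ : v * z * v⁻¹ ∉ Q := fun k => h.nc h.zJ (IsConj.refl z) zt (mem_normalizer_of_conj_mem (by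
    rintro _ ⟨n, rfl⟩; rw [← conj_zpow]; exact zpow_mem (h.ct h.tL h.tθ h.tt k jt) n))
  have vj : v * (v * z * v⁻¹) * v⁻¹ = z := by
    rw [show v * (v * z * v⁻¹) * v⁻¹ = v * v * z * (v * v)⁻¹ by group, h.vv]; simp
  have cj0 : IsConj z (v * z * v⁻¹) := isConj_iff.2 ⟨v, rfl⟩
  generalize e : v * z * v⁻¹ = j at jJ jt jQ vj cj0
  have jS := h.JS jJ
  have jL := h.SL jS
  have j3 := h.J3 j jJ
  have nq : zpowers j ≤ normalizer (Q : Set G) := zpowers_le.2 (h.nQ (nz_of (h.Sz jS)))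
  have SQ : zpowers j ⊔ Q = S := eq_of_le_of_card_ge (sup_le (zpowers_le.2 jS) h.QS) (by
    rw [card_sup_of_disjoint nq (eq_bot_iff.2 fun x ⟨a, b⟩ => by
      rcases mem3 j3 a with rfl | rfl | rfl
      exacts [rfl, absurd b jQ, absurd (Q.inv_mem_iff.1 b) jQ]), Nat.card_zpowers, orderOf_eq_prime j3 fun k => jQ (k ▸ one_mem _), h.cQ, h.cardS])
  have De : closure {z, j} = zpowers z ⊔ zpowers j := by rw [Set.insert_eq, Subgroup.closure_union, ← zpowers_eq_closure, ← zpowers_eq_closure]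
  have DJ : closure {z, j} ≤ J := De ▸ sup_le (zpowers_le.2 h.zJ) (zpowers_le.2 jJ)
  have Dt : closure {z, j} ≤ centralizer {t} := De ▸ sup_le (zpowers_le.2 (mem_centralizer_singleton_iff.2 zt.symm))
    (zpowers_le.2 (mem_centralizer_singleton_iff.2 jt))
  have D : ∀ x ∈ S, x * t = t * x → x ∈ closure {z, j} := fun x a b => by
    obtain ⟨_, ⟨n, rfl⟩, q, c, rfl⟩ := (mem_sup_of_le_normalizer nq).1 (SQ.ge a)
    exact De ▸ mul_mem (mem_sup_right ⟨n, rfl⟩) (mem_sup_left (h.ct h.tL h.tθ h.tt c (by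
      simpa using (Commute.mul_left (Commute.inv_left (Commute.zpow_left jt n)) b).eq)))
  have zj := h.Jc z h.zJ j jJ
  have pts : ∀ y ∈ closure {z, j}, IsConj z y → y ∈ zpowers z ∨ y ∈ zpowers j := fun y a b => by
    have k := h.nc (DJ a) b (mem_centralizer_singleton_iff.1 (Dt a)).symm
    have k1 : v * y * v⁻¹ = y → False := fun r => k (nz_of (mul_inv_eq_iff_eq_mul.1 r))
    have k2 : v * y * v⁻¹ = y⁻¹ → False := fun r => k (cj_eq_self_iff.1 (by rw [cj_zpowers, r, zpowers_inv]))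
    obtain ⟨p, c, q, d, rfl⟩ := (mem_sup_of_le_normalizer (zpowers_le.2 (nz_of zj))).1 (De.le a)
    rcases mem3 z3 c with rfl | rfl | rfl
    · exact .inr (by rwa [one_mul])
    all_goals rcases mem3 j3 d with rfl | rfl | rfl
    · exact .inl (by rwa [mul_one])
    · exact (k1 (by rw [← conj_mul, e, vj, zj])).elim
    · exact (k2 (by rw [← conj_mul, ← conj_inv, e, vj, mul_inv_rev, inv_inv])).elim
    · exact .inl (by rwa [mul_one])
    · exact (k2 (by rw [← conj_mul, ← conj_inv, e, vj, mul_inv_rev, inv_inv])).elim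
    · exact (k1 (by rw [← conj_mul, ← conj_inv, ← conj_inv, e, vj, ← mul_inv_rev, ← mul_inv_rev, zj])).elim
  have θ1 : θ j ≠ 1 := mt (h.pθ.ker jL).1 jQ
  obtain ⟨-, ⟨b, b1, b2⟩, -⟩ := s_three _ (h.θ3 jS) θ1
  obtain ⟨l, lL, lt, rfl⟩ := h.cover h.tL h.tθ h.tt b
  have l2 : t⁻¹ * (l * l) ∈ zpowers z := h.ct h.tL h.tθ h.tt ((h.pθ.eq h.tL (mul_mem lL lL)).1 (by rw [h.pθ.mul lL lL, b2, h.tθ]))
    (Commute.mul_left (Commute.refl t).inv_left (Commute.mul_left lt lt) :)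
  have sL := pow_mem lL 9
  have st : l ^ 9 * t = t * l ^ 9 := (Commute.pow_left lt 9 :)
  have sθ : θ (l ^ 9) = θ l := by rw [h.pθ.pow lL, show 9 = 2 * 4 + 1 from rfl, pow_succ, pow_mul, sq, b2, show (-1 : S25) ^ 4 = 1 by decide, one_mul]
  have ss : l ^ 9 * l ^ 9 = t := by
    rw [← (Commute.refl l).mul_pow, ← mul_inv_cancel_left t (l * l), Commute.mul_pow (h.cL h.tL l2), show 9 = 3 * 3 from rfl, pow_mul _ 3 3, pow_mul,
      h.Q3 _ (h.zQ l2), pow_succ t, sq, h.tt, one_mul, pow_succ t, sq, h.tt]; simp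
  rw [← sθ] at b1
  generalize l ^ 9 = s at sL st ss b1
  have sj : s * j * s⁻¹ = j⁻¹ := by
    have m := mul_mem (mul_mem sL jL) (inv_mem sL)
    have a : θ (s * j * s⁻¹) = (θ j)⁻¹ := by rw [h.pθ.cn sL jL, b1]
    have c : j * (s * j * s⁻¹) ∈ zpowers z := h.ct h.tL h.tθ h.tt ((h.pθ.ker (mul_mem jL m)).1 (by rw [h.pθ.mul jL m, a, mul_inv_cancel]))
      (Commute.mul_left jt (Commute.mul_left (Commute.mul_left st jt) (Commute.inv_left st)) :)
    have d : s * j * s⁻¹ ∈ closure {z, j} := De ▸ (mul_mem_cancel_left (mem_sup_right (mem_zpowers j))).1 (mem_sup_left c)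
    rcases pts _ d (cj0.trans (isConj_iff.2 ⟨s, rfl⟩)) with k | k
    · exact absurd (inv_eq_one.1 (a.symm.trans ((h.pθ.ker m).2 (h.zQ k)))) θ1
    rcases mem3 j3 k with r | r | r
    · exact absurd (conj_eq_one_iff.1 r ▸ one_mem _) jQ
    · have := h.θ3 jS
      rw [r] at a
      rw [pow_succ, sq, mul_eq_one_iff_eq_inv.2 a, one_mul] at this
      exact absurd this θ1
    · exact r
  refine ⟨j, s, h, h.nSJ, h.nJS, h.CJ, h.zJ, (h.ab1 h.JS h.Jc h.cJ).1, h.CV, h.JQ, fun x a b q c d => h.fv h.JS h.Jc h.cJ a b c d,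
    vJ, e, jQ, D, sL, st, ss, sj, ?_, pts, ?_, fun g a b => ?_⟩
  · rw [← SQ, ← cj_eq_self_iff, cj_sup, cj_zpowers, sj, zpowers_inv, cj_eq_self_iff.2 (h.nQ (nz_of (h.zL sL)))]
  · refine syl_of_syl_normalizer ⟨le_inf Dt le_normalizer, h.syl.isPGroup.to_le (DJ.trans h.JS), fun U a b p => le_antisymm (fun x c => ?_) a⟩
    obtain ⟨k, r⟩ := isPGroup_iff_mem.1 p x c
    have n := (b c).2
    have zD : z ∈ closure {z, j} := subset_closure (by simp)
    have jD : j ∈ closure {z, j} := subset_closure (by simp)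
    have cz : ∀ {x y : G}, x * z * x⁻¹ ∈ zpowers y → y ^ 3 = 1 → cj x (zpowers z) = zpowers y := fun a b =>
      eq_of_le_of_card_ge (by rw [cj_zpowers]; exact zpowers_le.2 a) (by
        rw [card_cj, h.cZ, Nat.card_zpowers]; exact Nat.le_of_dvd (by norm_num) (orderOf_dvd_of_pow_eq_one b))
    have xz : x ∈ normalizer (zpowers z : Set G) := by
      rcases pts _ (conj_mem_of_mem_normalizer n zD) (isConj_iff.2 ⟨x, rfl⟩) with f | f
      · exact cj_eq_self_iff.1 (cz f z3)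
      have f1 := cz f j3
      refine mem_of_pow_mem_coprime (n := 2) (Nat.Coprime.coprime_dvd_left (orderOf_dvd_of_pow_eq_one r) (Nat.Coprime.pow_left k (by norm_num)))
        (cj_eq_self_iff.1 ?_)
      rw [sq, cj_mul, f1]
      rcases pts _ (conj_mem_of_mem_normalizer n jD) (cj0.trans (isConj_iff.2 ⟨x, rfl⟩)) with f | f
      · exact eq_of_le_of_card_ge (by rw [cj_zpowers]; exact zpowers_le.2 f) (by rw [card_cj, ← f1, card_cj])
      · rw [← f1, conj_mem_cj_iff] at f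
        exact absurd (h.zQ f) jQ
    refine D x (h.syl.mem_of_mem_normalizer r trivial ?_) (mem_centralizer_singleton_iff.1 (b c).1)
    have : closure {z, j} ⊔ Q = S := le_antisymm (sup_le (DJ.trans h.JS) h.QS) (SQ.ge.trans (sup_le_sup_right (zpowers_le.2 jD) _))
    rw [← this, ← cj_eq_self_iff, cj_sup, cj_eq_self_iff.2 n, cj_eq_self_iff.2 (h.nQ xz)]
  · rw [← SQ, ← cj_eq_self_iff, cj_sup, cj_zpowers, b, mul_inv_cancel_right, cj_eq_self_iff.2 (h.nQ (nz_of a))]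

theorem H5m.toH5 [Finite G] {S Q J L M : Subgroup G} {z : G} {θ : G → S25} {π : G → A6} {t j s u v : G} (h : H5m S Q J L M z θ π t j s u v)
    (hN : centralizer {z * j} ≤ normalizer (J : Set G)) : H5 S Q J L M z θ π t j s u v := by
  haveI : Fact (Nat.Prime 3) := ⟨Nat.prime_three⟩
  refine ⟨h.toH3, h.nSJ, h.nJS, h.CJ, h.zJ, h.cV, h.CV, h.JQ, h.FV, h.tL, h.tθ, h.tt, h.uu, h.uS, h.vJ, h.vt, h.vv, h.vu, h.vc, h.vz, h.jQ, h.D,
    h.sL, h.st, h.ss, h.sj, h.sS, h.pts, h.sylD, fun g a => ?_⟩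
  have jJ : j ∈ J := h.vz ▸ conj_mem_of_mem_normalizer h.vJ h.zJ
  have l : J ≤ centralizer {z * j} := fun x c => mem_centralizer_singleton_iff.2 (h.Jc x c _ (mul_mem h.zJ jJ))
  have n := normalizer_le_normalizer_centralizer _ a
  rw [zpowers_eq_closure, centralizer_closure] at n
  have l2 : cj g J ≤ centralizer {z * j} := (cj_mono g l).trans (cj_eq_self_iff.2 n).le
  have p := h.syl.isPGroup.to_le h.JS
  obtain ⟨m, a1, a2⟩ := (h.syl.of_le (h.toH3.SJ) le_top).exists_conj_le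
    (isPGroup_sup_of_le_normalizer (isPGroup_cj g p) p (l2.trans hN)) (sup_le (l2.trans hN) le_normalizer)
  have e : cj (m * g) J ≤ S := by rw [cj_mul]; exact (cj_mono m le_sup_left).trans a2
  exact (mul_mem_cancel_left a1).1 (h.toH3.cjJ e)

namespace H5m
variable {S Q J L M : Subgroup G} {z : G} {θ : G → S25} {π : G → A6} {t j s u v : G}
  (h : H5m S Q J L M z θ π t j s u v)
include h

theorem w_vi : v⁻¹ = v := inv_eq_of_mul_eq_one_right h.vv
theorem w_ti : t⁻¹ = t := inv_eq_of_mul_eq_one_right h.tt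
theorem w_jJ : j ∈ J := h.vz ▸ conj_mem_of_mem_normalizer h.vJ h.zJ
theorem w_vj : v * j * v⁻¹ = z := by
  rw [← h.vz, show v * (v * z * v⁻¹) * v⁻¹ = v * v * z * (v * v)⁻¹ by group, h.vv]; simp
theorem w_DJ : closure {z, j} ≤ J := (closure_le _).2 (Set.pair_subset h.zJ h.w_jJ)
theorem w_Dt {d : G} (a : d ∈ closure {z, j}) : d * t = t * d := mem_centralizer_singleton_iff.1 (h.sylD.le a)
theorem w_zD : z ∈ closure {z, j} := subset_closure (by simp)
theorem w_jD : j ∈ closure {z, j} := subset_closure (by simp)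
theorem w_tS : t ∈ normalizer (S : Set G) := h.uu ▸ mul_mem h.uS h.uS
omit h in
theorem w_cen {x : G} (a : x * z = z * x) (b : x * j = j * x) {d : G} (m : d ∈ closure {z, j}) : x * d = d * x :=
  mem_centralizer_singleton_iff.1 ((closure_le (centralizer {x})).2 (Set.pair_subset
    (mem_centralizer_singleton_iff.2 a.symm) (mem_centralizer_singleton_iff.2 b.symm)) m) |>.symm
theorem w_inv {x : G} (a : x * z * x⁻¹ = z⁻¹) (b : x * j * x⁻¹ = j⁻¹) {d : G} (m : d ∈ closure {z, j}) :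
    x * d * x⁻¹ = d⁻¹ := by
  induction m using closure_induction with
  | mem y hy => rcases hy with rfl | rfl <;> assumption
  | one => simp
  | mul y w hy hw c e => rw [← conj_mul, c, e, h.Jc y (h.w_DJ hy) w (h.w_DJ hw), mul_inv_rev]
  | inv y _ c => rw [← conj_inv, c]

/-- the part of `J` inverted by `t`. -/
def W : Subgroup G where
  carrier := {w | w ∈ J ∧ t * w * t⁻¹ = w⁻¹}
  one_mem' := ⟨one_mem _, by simp⟩
  mul_mem' {a b} k l := ⟨mul_mem k.1 l.1, by rw [← conj_mul, k.2, l.2, h.Jc a k.1 b l.1, mul_inv_rev]⟩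
  inv_mem' {a} k := ⟨inv_mem k.1, by rw [← conj_inv, k.2]⟩

variable [Finite G]

theorem w_dec {x : G} (hx : x ∈ J) :
    ∃ d ∈ closure {z, j}, (x ∈ Q → d ∈ zpowers z) ∧ ∃ w ∈ h.W, x = d * w := by
  have a := conj_mem_of_mem_normalizer (h.nSJ h.w_tS) hx
  have e : t * (t * x * t⁻¹) * t⁻¹ = x := by
    rw [show t * (t * x * t⁻¹) * t⁻¹ = t * t * x * (t * t)⁻¹ by group, h.tt]; simp
  have d := h.D _ (h.JS (mul_mem hx a)) (mul_inv_eq_iff_eq_mul.1 (by rw [← conj_mul, e, h.Jc _ a _ hx])).symm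
  have w : x * (t * x * t⁻¹)⁻¹ ∈ h.W := ⟨mul_mem hx (inv_mem a), by rw [← conj_mul, w_ci, e, mul_inv_rev x, inv_inv]⟩
  refine ⟨_, mul_mem d d, fun q => mul_mem (h.it h.tL h.tθ h.tt q) (h.it h.tL h.tθ h.tt q), _, mul_mem w w, ?_⟩
  have c : Commute x (t * x * t⁻¹) := h.Jc _ hx _ a
  generalize t * x * t⁻¹ = y at c
  have k : x * y * (x * y⁻¹) = x * x := by rw [mul_assoc, ← mul_assoc y, ← c.eq, mul_inv_cancel_right]
  have c2 : Commute (x * y) (x * y⁻¹) := ((Commute.refl x).mul_left c.symm).mul_right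
    (c.mul_left (Commute.refl y)).inv_right
  rw [c2.mul_mul_mul_comm, k, w_four (h.J3 x hx)]

theorem w_WQ {w : G} (a : w ∈ h.W) : w ∈ Q := by
  have l := h.SL (h.JS a.1)
  have e := h.pθ.cn h.tL l
  rw [a.2, h.pθ.inv l, h.tθ] at e
  exact (h.pθ.ker l).1 (w_si (h.θ3 (h.JS a.1)) (by rw [e]; simp))

theorem w_CD {g : G} (a : g ∈ L) (b : g * t = t * g) (c : g * j = j * g) :
    ∃ d ∈ closure {z, j}, g = d ∨ g = d * t := by
  have jl := h.SL (h.JS h.w_jJ)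
  obtain ⟨k, -, e⟩ := (s_three _ (h.θ3 (h.JS h.w_jJ)) (mt (h.pθ.ker jl).1 h.jQ)).2.2 (θ g)
    (by rw [← h.pθ.mul a jl, c, h.pθ.mul jl a])
  have key : ∀ g ∈ L, g * t = t * g → θ g = θ j ^ k → g ∈ closure {z, j} := fun g a b e => by
    have m := pow_mem h.w_jD k
    have := h.ct h.tL h.tθ h.tt ((h.pθ.eq (pow_mem jl k) a).1 (by rw [h.pθ.pow jl, e]))
      ((show Commute (j ^ k) t from h.w_Dt m).inv_left.mul_left b)
    exact (mul_mem_cancel_left (inv_mem m)).1 (zpowers_le.2 h.w_zD this)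
  rcases e with e | e
  · exact ⟨g, key g a b e, .inl rfl⟩
  · exact ⟨g * t, key _ (mul_mem a h.tL) (by rw [mul_assoc, ← mul_assoc, ← mul_assoc, b])
      (by rw [h.pθ.mul a h.tL, e, h.tθ]; simp), .inr (by rw [mul_assoc, h.tt, mul_one])⟩

theorem w_norm {x : G} (a : x ∈ normalizer (zpowers z : Set G)) (b : x * t = t * x)
    (c : x * j * x⁻¹ = j ∨ x * j * x⁻¹ = j⁻¹) :
    ∃ d ∈ closure {z, j}, x * s * x⁻¹ * s⁻¹ = d ∨ x * s * x⁻¹ * s⁻¹ = d * t := by
  have xt : Commute x t := b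
  have st : Commute s t := h.st
  refine h.w_CD (mul_mem (conj_mem_of_mem_normalizer (h.nL a) h.sL) (inv_mem h.sL))
    (((xt.mul_left st).mul_left xt.inv_left).mul_left st.inv_left) (mul_inv_eq_iff_eq_mul.1 ?_)
  have e1 : s⁻¹ * j * s = j⁻¹ := by
    rw [← inv_inv j, ← h.sj]; nth_rw 2 [h.sj]; group
  have e2 : x * s * x⁻¹ * (x * j * x⁻¹) * (x * s * x⁻¹)⁻¹ = (x * j * x⁻¹)⁻¹ := by
    rw [← w_ci x s, conj_mul, conj_mul, h.sj, w_ci]
  have e3 : x * s * x⁻¹ * j * (x * s * x⁻¹)⁻¹ = j⁻¹ := by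
    rcases c with c | c <;> rw [c] at e2
    · exact e2
    · rw [w_ci] at e2; exact inv_injective e2
  calc _ = x * s * x⁻¹ * (s⁻¹ * j * s) * (x * s * x⁻¹)⁻¹ := by group
    _ = j := by rw [e1, w_ci, e3, inv_inv]

theorem w_card : Nat.card h.W = 9 := by
  have e : zpowers z ⊔ h.W = J ⊓ Q := le_antisymm (sup_le (le_inf (zpowers_le.2 h.zJ) h.zQ)
    fun w hw => ⟨hw.1, h.w_WQ hw⟩) fun x hx => by
      obtain ⟨d, -, d1, w, hw, rfl⟩ := h.w_dec hx.1
      exact mul_mem_sup (d1 hx.2) hw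
  have := card_sup_of_disjoint (H := zpowers z) (K := h.W) (le_trans (show _ ≤ centralizer (h.W : Set G) from
    fun x hx w hw => h.cS (h.JS hw.1) hx) (centralizer_le_normalizer _)) (eq_bot_iff.2 fun x hx => w_si (h.J3 x hx.2.1) (by
      rw [← hx.2.2, h.cL h.tL hx.1, mul_inv_cancel_right]))
  rw [e, h.cV, h.cZ] at this
  omega

theorem w_phi : ∃ φ : G → M23, (∀ {x y}, x ∈ normalizer (J : Set G) ⊓ centralizer {t} →
    y ∈ normalizer (J : Set G) ⊓ centralizer {t} → φ (x * y) = φ x * φ y) ∧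
    (∀ {x}, x ∈ normalizer (J : Set G) ⊓ centralizer {t} → (φ x = 1 ↔ ∀ w ∈ h.W, x * w = w * x)) ∧ φ t = -1 := by
  classical
  have := Fact.mk Nat.prime_three
  have l : normalizer (J : Set G) ⊓ centralizer {t} ≤ normalizer (h.W : Set G) :=
    le_normalizer_of_cj_le fun k hk _ ⟨w, hw, e⟩ => e ▸ (⟨conj_mem_of_mem_normalizer hk.1 hw.1, by
      have c : Commute k t := mem_centralizer_singleton_iff.1 hk.2
      rw [← w_ci, ← hw.2, ← mul_assoc, ← mul_assoc, ← c.eq, mul_assoc _ k⁻¹, c.inv_inv.eq]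
      simp only [mul_assoc]⟩ : k * w * k⁻¹ ∈ h.W)
  obtain ⟨e⟩ := PGrp.mulAut_equiv_GL_of_elem (W := h.W) (p := 3) (n := 2)
    (fun a b => Subtype.ext (h.Jc _ a.2.1 _ b.2.1)) (fun a => Subtype.ext (h.J3 _ a.2.1)) h.w_card
  let ψ := h.W.normalizerMonoidHom.comp (inclusion l)
  have one : ∀ x, (e (ψ x) : M23) = 1 ↔ ∀ w ∈ h.W, (x : G) * w = w * x := fun x => by
    rw [Units.val_eq_one, map_eq_one_iff _ e.injective]
    exact ⟨fun a w hw => mul_inv_eq_iff_eq_mul.1 (congrArg Subtype.val (DFunLike.congr_fun a ⟨w, hw⟩) :),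
      fun a => MulEquiv.ext fun w => Subtype.ext (mul_inv_eq_iff_eq_mul.2 (a w w.2))⟩
  have tT : t ∈ normalizer (J : Set G) ⊓ centralizer {t} := ⟨h.nSJ h.w_tS, mem_centralizer_singleton_iff.2 rfl⟩
  refine ⟨fun x => if a : x ∈ normalizer (J : Set G) ⊓ centralizer {t} then (e (ψ ⟨x, a⟩) : M23) else 1,
    fun {x y} a b => ?_, fun {x} a => ?_, ?_⟩
  · simp only []
    rw [dif_pos a, dif_pos b, dif_pos (mul_mem a b), ← Units.val_mul, ← map_mul, ← map_mul]; rfl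
  · simp only []
    rw [dif_pos a]; exact one ⟨x, a⟩
  · simp only []
    rw [dif_pos tT]
    by_contra n
    obtain ⟨m, m1, m2⟩ := m_cen _ (by
      rw [← Units.val_mul, ← map_mul, ← map_mul, show (⟨t, tT⟩ * ⟨t, tT⟩ :
        ↥(normalizer (J : Set G) ⊓ centralizer {t})) = 1 from Subtype.ext h.tt,
        map_one, map_one, Units.val_one]) (fun a => by
      have : h.W = ⊥ := eq_bot_iff.2 fun w hw => w_si (h.J3 w hw.1) (by
        rw [← hw.2, show t * w = w * t from (one _).1 a w hw, mul_inv_cancel_right])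
      have c := h.w_card
      rw [this, card_bot] at c
      omega) n
    obtain ⟨α, hα⟩ := e.surjective ⟨m, m * m, m1, by rw [mul_assoc, m1]⟩
    have i : ∀ w : h.W, ψ ⟨t, tT⟩ w = w⁻¹ := fun w => Subtype.ext w.2.2
    have : α * ψ ⟨t, tT⟩ = ψ ⟨t, tT⟩ * α := MulEquiv.ext fun w => by
      rw [MulAut.mul_apply, MulAut.mul_apply, i, i, map_inv]
    have := congrArg (fun a => (e a : M23)) this
    simp only [map_mul, Units.val_mul, hα] at this
    exact m2 this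

theorem w_dual {x : G} (a : x ∈ normalizer (S : Set G)) (cw : ∀ w ∈ h.W, x * w = w * x)
    (c : (x * z * x⁻¹ = z ∧ x * j * x⁻¹ = j⁻¹) ∨ (x * z * x⁻¹ = z⁻¹ ∧ x * j * x⁻¹ = j)) : False := by
  obtain ⟨q, q1, q2⟩ : ∃ q ∈ Q, q ∉ J := by
    by_contra! k
    have := h.cV
    rw [inf_eq_right.2 k, h.cQ] at this
    omega
  have q3 := conj_mem_of_mem_normalizer (h.nQ (h.nSz a)) q1
  have jq := conj_mem_of_mem_normalizer (h.nSJ (le_normalizer (h.QS q1))) h.w_jJ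
  have yQ : j * q * j⁻¹ * q⁻¹ ∈ Q := mul_mem (h.Ln (h.SL (h.JS h.w_jJ)) q1) (inv_mem q1)
  have yJ : j * q * j⁻¹ * q⁻¹ ∈ J := by
    have := mul_mem h.w_jJ (inv_mem jq)
    rwa [← w_ci, ← mul_assoc, ← mul_assoc] at this
  refine q2 (h.FV j h.w_jJ h.jQ q q1 ?_)
  have cv : ∀ r ∈ Q, (∀ w ∈ h.W, w * r * w⁻¹ = r) → r ∈ J := fun r r1 r2 =>
    (h.CV.le ⟨r1, fun y hy => by
      obtain ⟨d, -, d1, w, hw, rfl⟩ := h.w_dec hy.1
      rw [mul_assoc, mul_inv_eq_iff_eq_mul.1 (r2 w hw), ← mul_assoc, ← h.cS (h.QS r1) (d1 hy.2), mul_assoc]⟩).1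
  have k0 : ∀ w ∈ h.W, w * (x * q * x⁻¹) * w⁻¹ = x * ⁅w, q⁆ * x⁻¹ * (x * q * x⁻¹) := fun w hw => by
    have c : Commute x w := cw w hw
    rw [conj_mul, commutatorElement_def, inv_mul_cancel_right, ← mul_assoc, ← mul_assoc, ← c.eq, mul_assoc _ x⁻¹,
      c.inv_inv.eq]
    simp only [mul_assoc]
  have k1 : ∀ w : G, w * q * w⁻¹ = ⁅w, q⁆ * q := fun w => by rw [commutatorElement_def, inv_mul_cancel_right]
  obtain ⟨d, -, d1, w, hw, e⟩ := h.w_dec yJ
  replace d1 := d1 yQ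
  have z3 : z ^ 3 = 1 := h.J3 z h.zJ
  rcases c with ⟨c1, c2⟩ | ⟨c1, c2⟩
  · have cz : ∀ y ∈ zpowers z, x * y * x⁻¹ = y := fun y ⟨n, e⟩ => by rw [← e, ← conj_zpow, c1]
    have r := cv _ (mul_mem (inv_mem q1) q3) fun w hw => by
      rw [← conj_mul, w_ci, k0 w hw, k1, cz _ (h.Qc w (h.w_WQ hw) q q1)]; group
    have f : x * (j * q * j⁻¹ * q⁻¹) * x⁻¹ = j * q * j⁻¹ * q⁻¹ := by
      rw [e, ← conj_mul, cz d d1, cw w hw, mul_inv_cancel_right]
    rw [← conj_mul, ← conj_mul, ← conj_mul, w_ci, w_ci, c2, ← mul_inv_cancel_left q (x * q * x⁻¹)] at f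
    have cr := h.Jc _ r _ h.w_jJ
    generalize q⁻¹ * (x * q * x⁻¹) = r at f cr
    have f2 : j⁻¹ * (q * j * q⁻¹) = j * (q * j * q⁻¹)⁻¹ := by
      calc _ = j⁻¹ * q * (j * r) * r⁻¹ * q⁻¹ := by group
        _ = j⁻¹ * (q * r) * j⁻¹⁻¹ * (q * r)⁻¹ := by rw [← cr]; group
        _ = _ := by rw [f]; group
    have f3 : j * (q * j * q⁻¹)⁻¹ = 1 := w_si (h.J3 _ (mul_mem h.w_jJ (inv_mem jq))) (by
      rw [mul_inv_rev j, inv_inv, h.Jc _ jq _ (inv_mem h.w_jJ), f2])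
    rw [show j * q * j⁻¹ * q⁻¹ = j * (q * j * q⁻¹)⁻¹ by group, f3]
    exact one_mem _
  · have cz : ∀ y ∈ zpowers z, x * y * x⁻¹ = y⁻¹ := fun y ⟨n, e⟩ => by rw [← e, ← conj_zpow, c1, inv_zpow]
    have r := cv _ (mul_mem q1 q3) fun w hw => by
      rw [← conj_mul, k0 w hw, k1, cz _ (h.Qc w (h.w_WQ hw) q q1), ← h.cS (h.QS q1) (h.Qc w (h.w_WQ hw) q q1)]
      group
    have f : x * (j * q * j⁻¹ * q⁻¹) * x⁻¹ = d⁻¹ * w := by
      rw [e, ← conj_mul, cz d d1, cw w hw, mul_inv_cancel_right]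
    rw [← conj_mul, ← conj_mul, ← conj_mul, w_ci, w_ci, c2, ← inv_mul_cancel_left q (x * q * x⁻¹)] at f
    have cr := h.Jc _ r _ (inv_mem h.w_jJ)
    generalize q * (x * q * x⁻¹) = r at f cr
    have f2 : q⁻¹ * (d * w)⁻¹ * q = d⁻¹ * w := by
      rw [← f, ← e, mul_assoc j (q⁻¹ * r), mul_assoc q⁻¹ r, cr]; group
    have f3 : ⁅q⁻¹, w⁻¹⁆ = w * w := by
      rw [commutatorElement_def, inv_inv, inv_inv, mul_left_inj, ← mul_right_inj d⁻¹, ← f2, mul_inv_rev,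
        h.cS (h.QS (mul_mem (inv_mem q1) (inv_mem (h.w_WQ hw)))) (inv_mem d1) |> fun e => (mul_assoc _ _ _).symm.trans e]
      simp only [mul_assoc]
    have f4 := f3 ▸ h.Qc _ (inv_mem q1) _ (inv_mem (h.w_WQ hw))
    rw [e]
    exact mul_mem d1 (w_four (h.J3 w hw.1) ▸ mul_mem f4 f4)

theorem w_pm {φ : G → M23} (mul : ∀ {x y}, x ∈ normalizer (J : Set G) ⊓ centralizer {t} →
    y ∈ normalizer (J : Set G) ⊓ centralizer {t} → φ (x * y) = φ x * φ y)
    (one : ∀ {x}, x ∈ normalizer (J : Set G) ⊓ centralizer {t} → (φ x = 1 ↔ ∀ w ∈ h.W, x * w = w * x))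
    (neg : φ t = -1) {x : G} (a : x ∈ normalizer (J : Set G) ⊓ centralizer {t}) (e : φ x = 1 ∨ φ x = -1) :
    ∃ τ, (τ = 1 ∨ τ = t) ∧ ∀ w ∈ h.W, x * τ * w = w * (x * τ) := by
  have tT : t ∈ normalizer (J : Set G) ⊓ centralizer {t} := ⟨h.nSJ h.w_tS, mem_centralizer_singleton_iff.2 rfl⟩
  rcases e with e | e
  · exact ⟨1, .inl rfl, by rw [mul_one]; exact (one a).1 e⟩
  · exact ⟨t, .inr rfl, (one (mul_mem a tT)).1 (by rw [mul a tT, e, neg]; simp)⟩

theorem w_dual' {φ : G → M23} (mul : ∀ {x y}, x ∈ normalizer (J : Set G) ⊓ centralizer {t} →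
    y ∈ normalizer (J : Set G) ⊓ centralizer {t} → φ (x * y) = φ x * φ y)
    (one : ∀ {x}, x ∈ normalizer (J : Set G) ⊓ centralizer {t} → (φ x = 1 ↔ ∀ w ∈ h.W, x * w = w * x))
    (neg : φ t = -1) {x : G} (a : x ∈ normalizer (S : Set G)) (b : x * t = t * x) (e : φ x = 1 ∨ φ x = -1)
    (c : (x * z * x⁻¹ = z ∧ x * j * x⁻¹ = j⁻¹) ∨ (x * z * x⁻¹ = z⁻¹ ∧ x * j * x⁻¹ = j)) : False := by
  obtain ⟨τ, rfl | rfl, k⟩ := h.w_pm mul one neg ⟨h.nSJ a, mem_centralizer_singleton_iff.2 b⟩ e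
  · exact h.w_dual a (by simpa using k) c
  · have i : ∀ {d}, d ∈ closure {z, j} → x * τ * d * (x * τ)⁻¹ = x * d * x⁻¹ := fun {d} m => by
      rw [mul_assoc x, ← h.w_Dt m]; group
    exact h.w_dual (mul_mem a h.w_tS) k (by rwa [i h.w_zD, i h.w_jD])

theorem w_pm2 {φ : G → M23} (mul : ∀ {x y}, x ∈ normalizer (J : Set G) ⊓ centralizer {t} →
    y ∈ normalizer (J : Set G) ⊓ centralizer {t} → φ (x * y) = φ x * φ y)
    (one : ∀ {x}, x ∈ normalizer (J : Set G) ⊓ centralizer {t} → (φ x = 1 ↔ ∀ w ∈ h.W, x * w = w * x))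
    (neg : φ t = -1) {x y d : G} (a : x ∈ normalizer (J : Set G) ⊓ centralizer {t})
    (b : y ∈ normalizer (J : Set G) ⊓ centralizer {t}) (m : d ∈ closure {z, j})
    (e : x * y * x⁻¹ * y⁻¹ = d ∨ x * y * x⁻¹ * y⁻¹ = d * t) :
    φ x * φ y = φ y * φ x ∨ φ x * φ y = -(φ y * φ x) := by
  have tT : t ∈ normalizer (J : Set G) ⊓ centralizer {t} := ⟨h.nSJ h.w_tS, mem_centralizer_singleton_iff.2 rfl⟩
  have dT : d ∈ normalizer (J : Set G) ⊓ centralizer {t} := ⟨le_normalizer (h.w_DJ m), h.sylD.le m⟩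
  have d1 : φ d = 1 := (one dT).2 fun w hw => h.Jc _ (h.w_DJ m) _ hw.1
  rw [← mul a b, ← mul b a, show x * y = x * y * x⁻¹ * y⁻¹ * (y * x) by group]
  refine e.imp (fun e => ?_) fun e => ?_
  · rw [e, mul dT (mul_mem b a), d1, one_mul]
  · rw [e, mul (mul_mem dT tT) (mul_mem b a), mul dT tT, d1, neg, one_mul, neg_one_mul]

omit [Finite G] in
theorem w_s' : v * s * v⁻¹ * z * (v * s * v⁻¹)⁻¹ = z⁻¹ ∧ v * s * v⁻¹ * j * (v * s * v⁻¹)⁻¹ = j ∧
    v * s * v⁻¹ * t = t * (v * s * v⁻¹) ∧ v * s * v⁻¹ * (v * s * v⁻¹) = t ∧ v * s * v⁻¹ ∈ normalizer (S : Set G) := by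
  have a : v * s * v⁻¹ * z * (v * s * v⁻¹)⁻¹ = z⁻¹ := by
    rw [← h.w_vj, ← w_ci v s, conj_mul, conj_mul, h.sj, w_ci]
  refine ⟨a, ?_, ((show Commute v t from h.vt).mul_left h.st).mul_left (show Commute v t from h.vt).inv_left, ?_,
    h.nJS _ (mul_mem (mul_mem h.vJ (h.nSJ h.sS)) (inv_mem h.vJ)) (w_nz a)⟩
  · rw [← h.vz, ← w_ci v s, conj_mul, conj_mul, h.zL h.sL, mul_inv_cancel_right]
  · rw [conj_mul, h.ss, h.vt, mul_inv_cancel_right]

omit [Finite G] in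
theorem w_c {d : G} (m : d ∈ closure {z, j}) : s * (v * s * v⁻¹) * d * (s * (v * s * v⁻¹))⁻¹ = d⁻¹ := by
  obtain ⟨a, b, -⟩ := h.w_s'
  generalize v * s * v⁻¹ = r at a b
  refine h.w_inv ?_ ?_ m
  · rw [show s * r * z * (s * r)⁻¹ = s * (r * z * r⁻¹) * s⁻¹ by group, a, w_ci, h.zL h.sL, mul_inv_cancel_right]
  · rw [show s * r * j * (s * r)⁻¹ = s * (r * j * r⁻¹) * s⁻¹ by group, b, h.sj]

theorem comm : ⁅s, v * s * v⁻¹⁆ = t := by
  obtain ⟨a1, a2, a3, a4, a5⟩ := h.w_s'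
  obtain ⟨d, m, e0⟩ := h.w_norm (w_nz a1) a3 (.inl a2)
  obtain ⟨τ, τ1, e⟩ : ∃ τ, (τ = 1 ∨ τ = t) ∧ v * s * v⁻¹ * s * (v * s * v⁻¹)⁻¹ * s⁻¹ = d * τ :=
    e0.elim (fun e => ⟨1, .inl rfl, by rw [e, mul_one]⟩) fun e => ⟨t, .inr rfl, e⟩
  have c : ∀ {g}, g * t = t * g → Commute g τ := fun e => τ1.elim (fun k => k ▸ Commute.one_right _) fun k => k ▸ e
  have ττ : τ * τ = 1 := τ1.elim (fun k => by rw [k, mul_one]) fun k => by rw [k, h.tt]
  have k1 : s * d * s⁻¹ = d⁻¹ := by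
    have : v * s * v⁻¹ * s * (v * s * v⁻¹)⁻¹ * (v * s * v⁻¹ * s * (v * s * v⁻¹)⁻¹) = s * s := by
      rw [conj_mul, h.ss, a3, mul_inv_cancel_right]
    rw [mul_inv_eq_iff_eq_mul.1 e] at this
    refine eq_inv_of_mul_eq_one_right (mul_right_cancel (b := s * s) ?_)
    calc _ = d * s * (τ * τ) * d * s := by rw [ττ]; group
      _ = d * τ * s * (d * τ * s) := by
        rw [← mul_assoc _ τ τ, mul_assoc d s τ, (c h.st).eq, mul_assoc _ τ d, ← (c (h.w_Dt m)).eq]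
        simp only [mul_assoc]
      _ = _ := by rw [this, one_mul]
  have k2 : v * d * v⁻¹ = d⁻¹ := by
    have : v * (d * τ) * v⁻¹ = (d * τ)⁻¹ := by
      rw [← e]
      calc _ = v * v * s * (v * v)⁻¹ * (v * s * v⁻¹) * (v * v * s⁻¹ * (v * v)⁻¹) * (v * s⁻¹ * v⁻¹) := by group
        _ = _ := by rw [h.vv]; group
    rw [← conj_mul, (c h.vt).eq, mul_inv_cancel_right, (c (h.w_Dt m)).eq, mul_inv_rev,
      inv_eq_of_mul_eq_one_right ττ] at this
    exact mul_right_cancel this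
  have k3 : v * s * v⁻¹ * d * (v * s * v⁻¹)⁻¹ = d⁻¹ := by
    have : v * s * v⁻¹ * (v * d * v⁻¹) * (v * s * v⁻¹)⁻¹ = (v * d * v⁻¹)⁻¹ := by
      rw [← w_ci v s, conj_mul, conj_mul, k1, w_ci]
    rw [k2, w_ci _ d] at this
    exact inv_injective this
  have d1 : d = 1 := w_si (h.J3 d (h.w_DJ m)) (by
    conv_rhs => rw [← h.w_c m, show s * (v * s * v⁻¹) * d * (s * (v * s * v⁻¹))⁻¹ =
      s * (v * s * v⁻¹ * d * (v * s * v⁻¹)⁻¹) * s⁻¹ by group, k3, w_ci, k1, inv_inv])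
  rw [d1, one_mul] at e
  rcases τ1 with τ1 | τ1 <;> rw [τ1] at e
  swap
  · rw [← commutatorElement_inv, commutatorElement_def, e, h.w_ti]
  exfalso
  obtain ⟨φ, mul, one, neg⟩ := h.w_phi
  have ut : u * t = t * u := by rw [← h.uu, mul_assoc]
  have T : ∀ {g}, g ∈ normalizer (J : Set G) → g * t = t * g → g ∈ normalizer (J : Set G) ⊓ centralizer {t} :=
    fun a b => ⟨a, mem_centralizer_singleton_iff.2 b⟩
  have sT := T (h.nSJ h.sS) h.st
  have uT := T (h.nSJ h.uS) ut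
  have vT := T h.vJ h.vt
  have z3 := h.J3 z h.zJ
  have j3 := h.J3 j h.w_jJ
  have z1 : z ≠ 1 := fun e => by have := h.z3; rw [e, orderOf_one] at this; omega
  have j1 : j ≠ 1 := fun e => h.jQ (e ▸ one_mem Q)
  have uz : u * z * u⁻¹ = z ∨ u * z * u⁻¹ = z⁻¹ := (mem3 z3 (conj_mem_of_mem_normalizer (h.nSz h.uS)
    (mem_zpowers z))).resolve_left fun e => z1 (conj_eq_one_iff.1 e)
  have uj : u * j * u⁻¹ = j ∨ u * j * u⁻¹ = j⁻¹ := by
    refine (mem3 j3 ((h.pts _ (h.D _ (h.JS (conj_mem_of_mem_normalizer (h.nSJ h.uS) h.w_jJ))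
      (((show Commute u t from ut).mul_left (h.w_Dt h.w_jD)).mul_left (show Commute u t from ut).inv_left))
      ((isConj_iff.2 ⟨v, h.vz⟩).trans (isConj_iff.2 ⟨u, rfl⟩))).resolve_left fun e =>
        h.jQ (h.zQ ((mem_normalizer_iff.1 (h.nSz h.uS) j).2 e)))).resolve_left fun e => j1 (conj_eq_one_iff.1 e)
  have vu : v * (u * (v * (u * z * u⁻¹) * v⁻¹) * u⁻¹) * v⁻¹ = z := by
    have := mul_inv_eq_iff_eq_mul.2 (h.Jc _ h.vu _ h.zJ)
    calc _ = v * u * v * u * z * u⁻¹ * v⁻¹ * u⁻¹ * v⁻¹ := by group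
      _ = v * u * v⁻¹ * u * z * u⁻¹ * v * u⁻¹ * v⁻¹ := by rw [h.w_vi]
      _ = v * u * v⁻¹ * u * z * (v * u * v⁻¹ * u)⁻¹ := by group
      _ = z := this
  have us : ∀ y, u * s * y * (u * s)⁻¹ = u * (s * y * s⁻¹) * u⁻¹ := fun y => by group
  have du : ¬ (φ u * φ s = 1 ∨ φ u * φ s = -1) := fun k => h.w_dual' mul one neg (mul_mem h.uS h.sS)
    ((show Commute u t from ut).mul_left h.st) (by rwa [mul uT sT]) (by
      rw [us, us, h.sj, h.zL h.sL, mul_inv_cancel_right, w_ci]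
      rcases uz with a | a <;> rcases uj with b | b
      · exact .inl ⟨a, by rw [b]⟩
      · rw [a, h.vz, b, w_ci, h.w_vj] at vu; exact absurd (w_si z3 vu.symm) z1
      · rw [a, w_ci v z, h.vz, w_ci, b, w_ci, h.w_vj] at vu; exact absurd (w_si z3 vu.symm) z1
      · exact .inr ⟨a, by rw [b, inv_inv]⟩)
  obtain ⟨d, m, k⟩ := h.w_norm (h.nSz h.uS) ut uj
  refine m_one (φ s) (by rw [← mul sT sT, h.ss, neg]) (φ u) (by rw [← mul uT uT, h.uu, neg])
    (h.w_pm2 mul one neg uT sT m k) (fun e => du (.inl e)) (fun e => du (.inr e)) (φ v)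
    (by rw [← mul vT vT, h.vv]; exact (one (one_mem _)).2 fun w _ => by simp) ?_ ?_
  · rw [← mul vT uT, ← mul (mul_mem vT uT) vT, ← mul (mul_mem (mul_mem vT uT) vT) uT]
    refine (one (mul_mem (mul_mem (mul_mem vT uT) vT) uT)).2 fun w hw => h.Jc _ ?_ _ hw.1
    have := h.vu
    rwa [h.w_vi] at this
  · have r := mul_mem (mul_mem vT sT) vT
    rw [← mul vT sT, ← mul (mul_mem vT sT) vT, ← mul sT r, ← mul r sT]
    rw [h.w_vi, mul_inv_eq_one, mul_inv_eq_iff_eq_mul] at e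
    rw [e]

theorem cases : (∀ x, x * t = t * x → Commute x z → Commute x j → x ∈ closure {z, j} ⊔ zpowers t) ∨
    ∃ ι, ι * t = t * ι ∧ ι * ι = 1 ∧ (∀ x ∈ J, ι * x * ι⁻¹ = x⁻¹) ∧ Commute ι s ∧ Commute ι v ∧
      ∀ x, x * t = t * x → Commute x z → Commute x j →
        x ∈ closure {z, j} ⊔ zpowers (ι * (s * (v * s * v⁻¹))⁻¹) := by
  obtain ⟨a1, a2, a3, a4, a5⟩ := h.w_s'
  have hc := h.comm
  have cD := @h.w_c
  have vv : v * (v * s * v⁻¹) * v⁻¹ = s := by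
    rw [show v * (v * s * v⁻¹) * v⁻¹ = v * v * s * (v * v)⁻¹ by group, h.vv]; simp
  obtain ⟨φ, mul, one, neg⟩ := h.w_phi
  have T : ∀ {g}, g ∈ normalizer (J : Set G) → g * t = t * g → g ∈ normalizer (J : Set G) ⊓ centralizer {t} :=
    fun a b => ⟨a, mem_centralizer_singleton_iff.2 b⟩
  have sT := T (h.nSJ h.sS) h.st
  have rT := T (h.nSJ a5) a3
  have nz : ∀ {x}, Commute x z → Commute x j → x ∈ normalizer (S : Set G) := fun a b =>
    h.Nd _ a b
  have JD : ∀ {x}, x * t = t * x → (∀ y ∈ J, x * y = y * x) → x ∈ closure {z, j} := fun a b =>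
    h.D _ (h.JS (h.CJ fun y hy => (b y hy).symm)) a
  have key : ∀ x, x * t = t * x → Commute x z → Commute x j → x ∈ closure {z, j} ⊔ zpowers t ∨
      ∃ τ, (τ = 1 ∨ τ = t) ∧ ∀ y ∈ J, x * (s * (v * s * v⁻¹)) * τ * y * (x * (s * (v * s * v⁻¹)) * τ)⁻¹ = y⁻¹ := by
    intro x xt xz xj
    have xT := T (h.nSJ (nz xz xj)) xt
    obtain ⟨d, m, e⟩ := h.w_norm (nz_of xz) xt (.inl (mul_inv_eq_iff_eq_mul.2 xj))
    have c : ∀ {y w : G}, v * y * v⁻¹ = w → Commute x y → Commute (v * x * v⁻¹) w := fun e c => by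
      rw [← e]; exact c.conj v
    obtain ⟨d', m', e'⟩ := h.w_norm (x := v * x * v⁻¹) (nz_of (c h.w_vj xj))
      (c (mul_inv_eq_iff_eq_mul.2 h.vt) xt) (.inl (mul_inv_eq_iff_eq_mul.2 (c h.vz xz)))
    have vd : v * d' * v⁻¹ ∈ closure {z, j} := h.D _ (h.JS (conj_mem_of_mem_normalizer h.vJ (h.w_DJ m')))
      (((show Commute v t from h.vt).mul_left (h.w_Dt m')).mul_left (show Commute v t from h.vt).inv_left)
    have k : x * (v * s * v⁻¹) * x⁻¹ * (v * s * v⁻¹)⁻¹ = v * (v * x * v⁻¹ * s * (v * x * v⁻¹)⁻¹ * s⁻¹) * v⁻¹ := by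
      calc _ = v * v * x * (v * v)⁻¹ * (v * s * v⁻¹) * (v * v * x * (v * v)⁻¹)⁻¹ * (v * s * v⁻¹)⁻¹ := by
            rw [h.vv]; group
        _ = _ := by group
    have p2 := h.w_pm2 mul one neg xT rT vd (e'.imp (fun e => by rw [k, e]) fun e => by
      rw [k, e, ← conj_mul, h.vt, mul_inv_cancel_right])
    have dt : φ x 0 0 * φ x 1 1 - φ x 0 1 * φ x 1 0 ≠ 0 := fun e => by
      have := congrArg Matrix.det ((mul xT (inv_mem xT)).symm.trans ((one (mul_mem xT (inv_mem xT))).2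
        fun w _ => by simp))
      rw [Matrix.det_mul, Matrix.det_fin_two, e, zero_mul, Matrix.det_one] at this
      exact absurd this (by decide)
    have tT : t ∈ normalizer (J : Set G) ⊓ centralizer {t} := T (h.nSJ h.w_tS) rfl
    obtain ⟨w, hw, k⟩ := m_two (φ s) (by rw [← mul sT sT, h.ss, neg]) (φ (v * s * v⁻¹))
      (by rw [← mul rT rT, a4, neg]) (fun e => by
        have e2 : φ (s * (v * s * v⁻¹)) = φ (t * (v * s * v⁻¹ * s)) := by
          rw [← hc, commutatorElement_def]; congr 1; group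
        rw [mul sT rT, mul tT (mul_mem rT sT), mul rT sT, neg, e, neg_one_mul] at e2
        have e3 := congrArg (fun m => φ (v * s * v⁻¹) * m * φ s) e2
        simp only [mul_neg, neg_mul, ← mul_assoc] at e3
        rw [← mul rT rT, a4, mul_assoc, ← mul sT sT, h.ss, neg] at e3
        exact absurd e3 (by decide))
      (φ x) dt (h.w_pm2 mul one neg xT sT m e) p2
    have τc : ∀ {τ d}, (τ = 1 ∨ τ = t) → d ∈ closure {z, j} → τ * d = d * τ := fun a b =>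
      a.elim (fun e => by rw [e, one_mul, mul_one]) fun e => by rw [e, h.w_Dt b]
    have τt : ∀ {τ}, (τ = 1 ∨ τ = t) → Commute τ t := fun a => a.elim (fun e => e ▸ Commute.one_left _) fun e => e ▸ rfl
    have cj2 : ∀ g y : G, x * g * y * (x * g)⁻¹ = x * (g * y * g⁻¹) * x⁻¹ := fun g y => by group
    simp only [List.mem_cons, List.not_mem_nil, or_false] at hw
    rcases hw with rfl | rfl | rfl | rfl
    · obtain ⟨τ, τ1, k⟩ := h.w_pm mul one neg xT (by simpa using k)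
      have := JD ((show Commute x t from xt).mul_left (τt τ1)) fun y hy => by
        obtain ⟨d, m, -, w, hw, rfl⟩ := h.w_dec hy
        exact ((show Commute x d from w_cen xz xj m).mul_left (τc τ1 m)).mul_right (k w hw)
      exact .inl ((mul_mem_cancel_right (mem_sup_right (τ1.elim (fun e => e ▸ one_mem _)
        fun e => e ▸ mem_zpowers t))).1 (mem_sup_left this))
    · exact (h.w_dual' mul one neg (mul_mem (nz xz xj) h.sS) ((show Commute x t from xt).mul_left h.st)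
        (by rwa [mul xT sT]) (.inl ⟨by rw [cj2, h.zL h.sL, mul_inv_cancel_right, xz.eq, mul_inv_cancel_right],
          by rw [cj2, h.sj, w_ci, xj.eq, mul_inv_cancel_right]⟩)).elim
    · exact (h.w_dual' mul one neg (mul_mem (nz xz xj) a5) ((show Commute x t from xt).mul_left a3)
        (by rwa [mul xT rT]) (.inr ⟨by rw [cj2, a1, w_ci, xz.eq, mul_inv_cancel_right],
          by rw [cj2, a2, xj.eq, mul_inv_cancel_right]⟩)).elim
    · obtain ⟨τ, τ1, k⟩ := h.w_pm mul one neg (mul_mem xT (mul_mem sT rT)) (by rwa [mul xT (mul_mem sT rT), mul sT rT])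
      refine .inr ⟨τ * t, τ1.elim (fun e => .inr (by rw [e, one_mul])) fun e => .inl (by rw [e, h.tt]), fun y hy => ?_⟩
      obtain ⟨d, m, -, w, hw, rfl⟩ := h.w_dec hy
      have cd := cD m
      generalize s * (v * s * v⁻¹) = c at k cd
      rw [← conj_mul, h.Jc d (h.w_DJ m) w hw.1, mul_inv_rev w]
      congr 1
      · calc _ = x * (c * (τ * (t * d * t⁻¹) * τ⁻¹) * c⁻¹) * x⁻¹ := by group
          _ = _ := by
            rw [← h.w_Dt m, mul_inv_cancel_right, τc τ1 m, mul_inv_cancel_right, cd, w_ci, w_cen xz xj m,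
              mul_inv_cancel_right]
      · calc _ = x * c * τ * (t * w * t⁻¹) * (x * c * τ)⁻¹ := by group
          _ = _ := by rw [hw.2, w_ci, k w hw, mul_inv_cancel_right]
  by_cases H : ∀ x, x * t = t * x → Commute x z → Commute x j → x ∈ closure {z, j} ⊔ zpowers t
  · exact .inl H
  right
  push Not at H
  obtain ⟨x, xt, xz, xj, n⟩ := H
  obtain ⟨τ, τ1, k⟩ := (key x xt xz xj).resolve_left n
  have τt : ∀ {τ}, (τ = 1 ∨ τ = t) → Commute τ t := fun a => a.elim (fun e => e ▸ Commute.one_left _) fun e => e ▸ rfl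
  have ct : Commute (s * (v * s * v⁻¹)) t := (show Commute s t from h.st).mul_left a3
  have cJ : s * (v * s * v⁻¹) ∈ normalizer (J : Set G) := (mul_mem sT rT).1
  have sw : v * s * v⁻¹ * s = t * (s * (v * s * v⁻¹)) := by
    rw [← h.w_ti, ← hc, commutatorElement_def]; group
  have sc : s⁻¹ * (s * (v * s * v⁻¹)) * s = t * (s * (v * s * v⁻¹)) := by rw [← sw]; group
  have vc : v⁻¹ * (s * (v * s * v⁻¹)) * v = t * (s * (v * s * v⁻¹)) := by
    rw [← sw]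
    calc _ = v⁻¹ * s * v * s := by group
      _ = _ := by rw [h.w_vi]
  have cc : s * (v * s * v⁻¹) * (s * (v * s * v⁻¹)) = t := by
    calc _ = s * (v * s * v⁻¹ * s) * (v * s * v⁻¹) := by group
      _ = s * t * s * (v * s * v⁻¹ * (v * s * v⁻¹)) := by rw [sw]; group
      _ = t := by rw [a4, h.st, mul_assoc t s s, h.ss, h.tt, one_mul]
  have i0 := ((show Commute x t from xt).mul_left ct).mul_left (τt τ1)
  generalize s * (v * s * v⁻¹) = c at *
  generalize x * c * τ = ι0 at k i0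
  have df : ∀ {a b : G}, Commute a t → Commute b t → (∀ y ∈ J, a * y * a⁻¹ = y⁻¹) → (∀ y ∈ J, b * y * b⁻¹ = y⁻¹) →
      a⁻¹ * b ∈ closure {z, j} := fun {a b} a1 b1 a2 b2 => JD (a1.inv_left.mul_left b1) fun y hy =>
    mul_inv_eq_iff_eq_mul.1 (by
      rw [show a⁻¹ * b * y * (a⁻¹ * b)⁻¹ = a⁻¹ * (b * y * b⁻¹) * a by group, b2 y hy, ← a2 y hy]; group)
  have cn : ∀ {g a : G}, g ∈ normalizer (J : Set G) → (∀ y ∈ J, a * y * a⁻¹ = y⁻¹) →
      ∀ y ∈ J, g * a * g⁻¹ * y * (g * a * g⁻¹)⁻¹ = y⁻¹ := fun {g a} a1 a2 y hy => by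
    rw [show g * a * g⁻¹ * y * (g * a * g⁻¹)⁻¹ = g * (a * (g⁻¹ * y * g⁻¹⁻¹) * a⁻¹) * g⁻¹ by group,
      a2 _ (conj_mem_of_mem_normalizer (inv_mem a1) hy)]; group
  have cm : ∀ {g a : G}, Commute g t → Commute a t → Commute (g * a * g⁻¹) t := fun a b =>
    (a.mul_left b).mul_left a.inv_left
  have m := df i0 (cm ct i0) k (cn cJ k)
  have e0 : c * ι0 * c⁻¹ = ι0 * (ι0⁻¹ * (c * ι0 * c⁻¹)) := by group
  generalize ι0⁻¹ * (c * ι0 * c⁻¹) = d at m e0
  have i1 : Commute (ι0 * d⁻¹) t := i0.mul_left (show Commute d t from h.w_Dt m).inv_left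
  have i2 : ∀ y ∈ J, ι0 * d⁻¹ * y * (ι0 * d⁻¹)⁻¹ = y⁻¹ := fun y hy => by
    rw [mul_assoc ι0, h.Jc _ (inv_mem (h.w_DJ m)) y hy, ← k y hy]; group
  have i3 : Commute c (ι0 * d⁻¹) := mul_inv_eq_iff_eq_mul.1 (by
    rw [← conj_mul, e0, cD (inv_mem m), inv_inv, mul_assoc, mul_right_inj, eq_inv_iff_mul_eq_one,
      ← h.J3 d (h.w_DJ m)]; simp only [pow_succ, pow_zero, one_mul])
  generalize ι0 * d⁻¹ = ι at i1 i2 i3
  have uq : ∀ {g : G}, g ∈ normalizer (J : Set G) → Commute g t → g⁻¹ * c * g = t * c → Commute ι g :=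
    fun {g} g1 g2 g3 => by
      have m := df i1 (cm g2 i1) i2 (cn g1 i2)
      have c2 : Commute c (g * ι * g⁻¹) := by
        have := (i1.symm.mul_left i3).conj g
        rwa [← g3, show g * (g⁻¹ * c * g) * g⁻¹ = c by group] at this
      have := w_si (h.J3 _ (h.w_DJ m)) (by rw [← cD m, (i3.inv_right.mul_right c2).eq, mul_inv_cancel_right])
      exact (mul_inv_eq_iff_eq_mul.1 (inv_mul_eq_one.1 this).symm).symm
  have ii : ι * ι = 1 := by
    have m : ι * ι ∈ J := h.CJ fun y hy => (mul_inv_eq_iff_eq_mul.1 (by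
      rw [show ι * ι * y * (ι * ι)⁻¹ = ι * (ι * y * ι⁻¹) * ι⁻¹ by group, i2 y hy, i2 _ (inv_mem hy), inv_inv])).symm
    exact w_si (h.J3 _ m) (by rw [← i2 _ m]; group)
  refine ⟨ι, i1, ii, i2, uq sT.1 h.st sc, uq h.vJ h.vt vc, fun y yt yz yj => ?_⟩
  have tm : t ∈ zpowers (ι * c⁻¹) := by
    have : ι * c⁻¹ * (ι * c⁻¹) = t := by
      rw [i3.inv_left.mul_mul_mul_comm, ii, one_mul, ← mul_inv_rev, cc, h.w_ti]
    exact this ▸ mul_mem (mem_zpowers _) (mem_zpowers _)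
  rcases key y yt yz yj with a | ⟨σ, σ1, a⟩
  · exact sup_le_sup_left (zpowers_le.2 tm) _ a
  have m := df i1 (((show Commute y t from yt).mul_left ct).mul_left (τt σ1)) i2 a
  have σc : Commute σ c := σ1.elim (fun e => e ▸ Commute.one_left _) fun e => e ▸ ct.symm
  have e : y = (ι⁻¹ * (y * c * σ))⁻¹ * (ι * c⁻¹) * σ⁻¹ := by
    rw [← i2 _ (h.w_DJ m), mul_assoc y, ← σc.eq]
    calc y = y * (σ * (c * c⁻¹) * σ⁻¹) := by group
      _ = _ := by group
  rw [e]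
  exact mul_mem (mul_mem_sup (inv_mem m) (mem_zpowers _)) (inv_mem (mem_sup_right
    (σ1.elim (fun e => e ▸ one_mem _) fun e => e ▸ tm)))

end H5m

end Cfsg.Lib.Mc3
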