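import Cfsg.Agent.Lib.Mc3.R
import Cfsg.Agent.Lib.Mc3.Wm
import Cfsg.Agent.Lib.Mc3.W
import Cfsg.Agent.Lib.Mc3.N
import Cfsg.Agent.Lib.Mc3.H6

/-! The 3-local recognition of McL with the weak centraliser condition: glue. -/

set_option autoImplicit false

namespace Cfsg.Lib.Mc3

open Subgroup

universe u

/-- The centraliser of the non-central element `z j` normalises `J`. -/
def NY : Prop := ∀ (G : Type u) [Group G] [Finite G] (S Q J L M : Subgroup G) (z : G) (θ : G → S25) (π : G → A6) (t j s u v : G),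
  H5m S Q J L M z θ π t j s u v → centralizer {z * j} ≤ normalizer (J : Set G)

theorem main2 (h34 : S34.{u}) (ny : NY.{u}) {G : Type u} [Group G] [Finite G]
    (S : Sylow 3 G) (Z : Subgroup G) (hZ : Z = (S : Subgroup G) ⊓ Subgroup.centralizer ((S : Subgroup G) : Set G))
    (J : Subgroup G) (hJS : J ≤ S) (hJcomm : IsMulCommutative J) (hJexp : ∀ a ∈ J, a ^ 3 = 1) (hJcard : Nat.card J = 3 ^ 4)
    (M₀ : Subgroup G) (hM₀ : M₀ = Subgroup.closure {g : G | g ∈ Subgroup.normalizer (J : Set G) ∧ ∃ k : ℕ, orderOf g = 3 ^ k})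
    (hJM : J ≤ M₀) [hJn : (J.subgroupOf M₀).Normal] (eM : M₀ ⧸ J.subgroupOf M₀ ≃* alternatingGroup (Fin 6))
    (L₀ : Subgroup G) (hL₀ : L₀ = Subgroup.closure {g : G | g ∈ Subgroup.normalizer (Z : Set G) ∧ ∃ k : ℕ, orderOf g = 3 ^ k})
    (Q : Subgroup G) (hQ : Q = (Cfsg.pCore 3 (Subgroup.normalizer (Z : Set G))).map (Subgroup.normalizer (Z : Set G)).subtype)
    (hQex : Cfsg.IsExtraspecial 3 Q) (hQcard : Nat.card Q = 3 ^ 5) (hQexp : ∀ a ∈ Q, a ^ 3 = 1)
    (hQL : Q ≤ L₀) [hQn : (Q.subgroupOf L₀).Normal] (eL : L₀ ⧸ Q.subgroupOf L₀ ≃* Matrix.SpecialLinearGroup (Fin 2) (ZMod 5))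
    (hiii : Subgroup.centralizer (((Cfsg.pCore 3 (Subgroup.centralizer (Z : Set G))).map (Subgroup.centralizer (Z : Set G)).subtype : Subgroup G) : Set G)
        ≤ (Cfsg.pCore 3 (Subgroup.centralizer (Z : Set G))).map (Subgroup.centralizer (Z : Set G)).subtype) :
    Nonempty (G ≃* Cfsg.Spor.McL) ∨ Nonempty (G ≃* MulAut Cfsg.Spor.McL) := by
  obtain ⟨z, θ, π, h3⟩ := exists_H3 S Z hZ J hJS hJcomm hJexp hJcard M₀ hM₀ hJM eM L₀ hL₀ Q hQ hQex hQcard hQexp hQL eL
    fun z _ e _ => by rwa [e, zpowers_eq_closure, centralizer_closure] at hiii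
  obtain ⟨π', t, u, v, k⟩ := h3.exists_H4
  obtain ⟨j, s, l⟩ := k.exists_H5m
  have h := l.toH5 (ny _ _ _ _ _ _ _ _ _ _ _ _ _ _ l)
  exact h.fin h34 h.comm h.cases fun ι a b c d e => h.nconj h.comm a b c d e

namespace H6
variable {G : Type*} [Group G] [Finite G] {S Q J L M : Subgroup G} {z : G} {θ : G → S25} {π : G → A6} {y e₁ e₂ e₃ t v r c : G}
  (h : H6 S Q J L M z θ π y e₁ e₂ e₃ t v r c)
include h

theorem g_le {K : Subgroup G} (a : y ∈ K) (b : e₁ ∈ K) (d : e₂ ∈ K) (e : e₃ ∈ K) : J ≤ K := fun x hx => by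
  obtain ⟨_, _, _, _, rfl⟩ := h.gen x hx
  exact mul_mem (mul_mem (mul_mem (pow_mem a _) (pow_mem b _)) (pow_mem d _)) (pow_mem e _)

theorem g_hJ : J = closure {y, e₁, e₂, e₃} :=
  le_antisymm (h.g_le (subset_closure (by simp)) (subset_closure (by simp)) (subset_closure (by simp)) (subset_closure (by simp)))
    ((closure_le _).2 (by rintro _ (rfl | rfl | rfl | rfl); exacts [h.yJ, h.J1, h.J2, h.J3']))

theorem g_r3 : r ^ 3 ∈ J := by
  have k : ∀ {a b d : G}, r * a * r⁻¹ = b → r * b * r⁻¹ = d → r * d * r⁻¹ = a → a ∈ centralizer {r ^ 3} := fun {a b d} p q w =>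
    mem_centralizer_singleton_iff.2 (mul_inv_eq_iff_eq_mul.1 (by
      calc _ = r * (r * (r * a * r⁻¹) * r⁻¹) * r⁻¹ := by rw [pow_succ, sq]; group
        _ = a := by rw [p, q, w])).symm
  have e : r * y * r⁻¹ = y := mul_inv_eq_iff_eq_mul.2 h.ry
  exact h.CJ fun x hx => mem_centralizer_singleton_iff.1 (h.g_le (k e e e) (k h.r1 h.r2 h.r3) (k h.r2 h.r3 h.r1) (k h.r3 h.r1 h.r2) hx)

theorem g_N {K : Subgroup G} (a : J ≤ K) (b : c ∈ K) (d : v ∈ K) (e : r ∈ K) : normalizer (J : Set G) ⊓ centralizer {y} ≤ K := fun g hg => by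
  obtain ⟨x, hx, _, _, _, rfl⟩ := h.str g hg.1 (mem_centralizer_singleton_iff.1 hg.2)
  exact mul_mem (mul_mem (mul_mem (a hx) (pow_mem b _)) (pow_mem d _)) (pow_mem e _)

theorem g_N4 : normalizer (J : Set G) ⊓ centralizer {y} ≤ closure {y, e₁, e₂, e₃, t, v, r, c} :=
  h.g_N (h.g_le (subset_closure (by simp)) (subset_closure (by simp)) (subset_closure (by simp)) (subset_closure (by simp)))
    (subset_closure (by simp)) (subset_closure (by simp)) (subset_closure (by simp))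

theorem g_N3 (e : c = t) : normalizer (J : Set G) ⊓ centralizer {y} ≤ closure {y, e₁, e₂, e₃, t, v, r} :=
  h.g_N (h.g_le (subset_closure (by simp)) (subset_closure (by simp)) (subset_closure (by simp)) (subset_closure (by simp)))
    (subset_closure (by simp [e])) (subset_closure (by simp)) (subset_closure (by simp))

theorem g_N1 (e : c = t) : normalizer (J : Set G) ⊓ centralizer {y} ≤ closure {y, e₁, e₂, e₃, t, v, r, 1} :=
  h.g_N (h.g_le (subset_closure (by simp)) (subset_closure (by simp)) (subset_closure (by simp)) (subset_closure (by simp)))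
    (subset_closure (by simp [e])) (subset_closure (by simp)) (subset_closure (by simp))

theorem g_s1 (e : IsConj z z⁻¹) : IsConj z (y * e₁) := by rwa [← inv_inv (y * e₁), ← h.zy]

end H6

theorem H5m.g_zz {G : Type*} [Group G] [Finite G] {S Q J L M : Subgroup G} {z : G} {θ : G → S25} {π : G → A6} {t j s u v : G}
    (h : H5m S Q J L M z θ π t j s u v) : IsConj z z⁻¹ := isConj_iff.2 ⟨_, h.w_s'.1⟩

end Cfsg.Lib.Mc3
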