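import Cfsg.Agent.Lib.Mc3.Main2
import Cfsg.Agent.Lib.Mc3.Qc
import Cfsg.Agent.Lib.Mc3.Ell

set_option autoImplicit false

namespace Cfsg.Lib.Mc3

open Subgroup

universe u

/-- The plane property of the frame. -/
def PL : Prop := ∀ (G : Type u) [Group G] [Finite G] (S Q J L M : Subgroup G) (z : G) (θ : G → S25) (π : G → A6) (y e₁ e₂ e₃ t v r c : G),
  H6 S Q J L M z θ π y e₁ e₂ e₃ t v r c → IsConj z z⁻¹ →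
    ∀ x ∈ J, x ∉ zpowers y → ∀ g, g * y = y * g → g * x * g⁻¹ * x⁻¹ ∈ zpowers y → g ∈ normalizer (J : Set G)

/-- Existence of the frame. -/
def FR : Prop := ∀ (G : Type u) [Group G] [Finite G] (S Q J L M : Subgroup G) (z : G) (θ : G → S25) (π : G → A6) (t j s u v : G),
  H5m S Q J L M z θ π t j s u v → ∃ e₂ e₃ r c, H6 S Q J L M z θ π (z * j) (z * j⁻¹) e₂ e₃ t v r c

theorem ny_of (fr : FR.{u}) (pl : PL.{u}) (a4 : A4C.{u}) (s4 : S4C.{u}) : NY.{u} := by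
  intro G _ _ S Q J L M z θ π t j s u v k
  obtain ⟨e₂, e₃, r, c, h⟩ := fr _ _ _ _ _ _ _ _ _ _ _ _ _ _ k
  have p := pl _ _ _ _ _ _ _ _ _ _ _ _ _ _ _ _ _ h k.g_zz
  rcases h.cc with e | ⟨-, e⟩
  · exact qc3 a4 h.g_hJ h.cJ h.Jc h.J3 h.y1 h.CJ ⟨h.t1, h.t2, h.t3⟩ ⟨h.v1, h.v2, h.v3⟩ ⟨h.r1, h.r2, h.r3⟩ h.ty h.vy h.ry (h.g_N3 e) p
  · exact qc4 s4 h.g_hJ h.cJ h.Jc h.J3 h.y1 h.CJ ⟨h.t1, h.t2, h.t3⟩ ⟨h.v1, h.v2, h.v3⟩ ⟨h.r1, h.r2, h.r3⟩ e h.ty h.vy h.ry h.cy h.g_N4 p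

end Cfsg.Lib.Mc3
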