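import Cfsg.Agent.Lib.Mc3.L3

/-! Centralisers of planes of `J` through a conjugate of `z`. -/

set_option autoImplicit false

namespace Cfsg.Lib.Mc3

open Subgroup Cfsg.Lib.Amalg Cfsg.Lib.Core

theorem pa_s : ∀ a : S25, a ^ 3 = 1 → a ≠ 1 → ∀ b : S25, b ^ 3 = 1 →
    b = 1 ∨ b = a ∨ b = a * a ∨ (a * b) ^ 2 = -1 ∨ (a * b) ^ 3 = -1 ∨ (a * b) ^ 5 = -1 := by decide +kernel

variable {G : Type*} [Group G] [Finite G]

namespace H3
variable {S Q J L M : Subgroup G} {z : G} {θ : G → S25} {π : G → A6} (h : H3 S Q J L M z θ π)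
include h

theorem pa_T {w y : G} (a : w ∈ J) (q : w ∈ Q) (n : w ∉ zpowers z) (yL : y ∈ L) (y3 : y ^ 3 = 1) (e : y ∈ Tq z w) :
    y ∈ S := by
  obtain ⟨j, jJ, jQ⟩ := h.exJ
  have jS := h.JS jJ
  have jL := h.SL jS
  have jT : j ∈ Tq z w := ⟨h.Sz jS, by rw [h.Jc j jJ w a]; simp⟩
  have k : ∀ x ∈ S, θ y = θ x → y ∈ S := fun x b c =>
    (mul_mem_cancel_left (inv_mem b)).1 (h.QS ((h.pθ.eq (h.SL b) yL).1 c.symm))
  have k2 : ∀ m : ℕ, (θ j * θ y) ^ m ≠ -1 := fun m c => by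
    obtain ⟨t, t1, t2, t3⟩ := h.exists_t
    have l := pow_mem (mul_mem jL yL) m
    have i := h.QT q ((h.pθ.eq l t1).1 (by rw [h.pθ.pow (mul_mem jL yL), h.pθ.mul jL yL, c, t2]))
    have r := ((mul_mem_cancel_left (inv_mem (pow_mem (mul_mem jT e) m))).1 i).2
    have s := h.it t1 t2 t3 q
    refine n ?_
    have : w = (w * (t * w * t⁻¹))⁻¹ * (t * w * t⁻¹ * w⁻¹) := by
      rw [mul_inv_rev, mul_assoc, h.cS (h.QS (inv_mem q)) r, ← mul_assoc, ← mul_assoc, inv_mul_cancel, one_mul, ← mul_inv_rev,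
        eq_inv_iff_mul_eq_one, ← h.Q3 w q]; simp [pow_succ, mul_assoc]
    exact this ▸ mul_mem (inv_mem s) r
  have o : θ 1 = 1 := (h.pθ.ker (one_mem _)).2 (one_mem _)
  rcases pa_s _ (h.θ3 jS) (mt (h.pθ.ker jL).1 jQ) (θ y) (by rw [← h.pθ.pow yL, y3, o]) with c | c | c | c | c | c
  · exact k 1 (one_mem _) (c.trans o.symm)
  · exact k j jS c
  · exact k _ (mul_mem jS jS) (c.trans (h.pθ.mul jL jL).symm)
  all_goals exact absurd c (k2 _)

theorem pa_nor {w g : G} (a : w ∈ J) (n : w ∉ zpowers z) (b : g ∈ 𝐍 (zpowers z)) (c : g * w * g⁻¹ ∈ J) : g ∈ 𝐍 J := by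
  have gQ := h.nQ b
  have z3 : z ^ 3 = 1 := h.z3 ▸ pow_orderOf_eq_one z
  by_cases q : w ∈ Q
  · refine h.cjJ (cj_le_iff'.2 fun x hx => ?_)
    have x3 : (g * x * g⁻¹) ^ 3 = 1 := by rw [conj_pow, h.J3 x hx]; simp
    have xL : g * x * g⁻¹ ∈ L := conj_mem_of_mem_normalizer (h.nL b) (h.SL (h.JS hx))
    refine h.pa_T c (conj_mem_of_mem_normalizer gQ q) (fun k => n ((mem_normalizer_iff.1 b w).2 k)) xL x3 ⟨h.zL xL, ?_⟩
    rw [conj_mul, h.Jc x hx w a, ← conj_mul, mul_inv_cancel_right, mul_inv_cancel]; exact one_mem _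
  · have nq : zpowers w ≤ 𝐍 Q := zpowers_le.2 (h.nQ (nz_of (h.Sz (h.JS a))))
    have SQ : zpowers w ⊔ Q = S := eq_of_le_of_card_ge (sup_le (zpowers_le.2 (h.JS a)) h.QS) (by
      rw [card_sup_of_disjoint nq (eq_bot_iff.2 fun x ⟨a', b⟩ => by
        rcases mem3 (h.J3 w a) a' with rfl | rfl | rfl
        exacts [rfl, absurd b q, absurd (Q.inv_mem_iff.1 b) q]), Nat.card_zpowers,
        orderOf_eq_prime (h.J3 w a) fun k => q (k ▸ one_mem _), h.cQ, h.cardS])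
    refine h.cjJ ((cj_mono g h.JS).trans ?_)
    conv_lhs => rw [← SQ, cj_sup, cj_zpowers, cj_eq_self_iff.2 gQ]
    exact sup_le (zpowers_le.2 (h.JS c)) h.QS

theorem pa_cen {w g : G} (a : w ∈ J) (n : w ∉ zpowers z) (b : g * z = z * g) (c : g * w = w * g) : g ∈ 𝐍 J :=
  h.pa_nor a n (nz_of b) (by rw [c, mul_inv_cancel_right]; exact a)

/-- The same for a conjugate `m z m⁻¹` of `z` under `N(J)`. -/
theorem pa_nor' {m w g : G} (hm : m ∈ 𝐍 J) (a : w ∈ J) (n : w ∉ zpowers (m * z * m⁻¹))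
    (b : g ∈ 𝐍 (zpowers (m * z * m⁻¹))) (c : g * w * g⁻¹ ∈ J) : g ∈ 𝐍 J := by
  have k := h.pa_nor (w := m⁻¹ * w * m⁻¹⁻¹) (g := m⁻¹ * g * m⁻¹⁻¹) (conj_mem_of_mem_normalizer (inv_mem hm) a)
    (fun k => n (by rw [← cj_zpowers]; exact mem_cj.2 (by simpa using k)))
    (by rw [← cj_zpowers, ← cj_normalizer] at b; simpa using mem_cj.1 b)
    (by have := conj_mem_of_mem_normalizer (inv_mem hm) c; convert this using 1; group)
  have := mul_mem (mul_mem hm k) (inv_mem hm)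
  simpa [mul_assoc] using this

theorem pa_cen' {m w g : G} (hm : m ∈ 𝐍 J) (a : w ∈ J) (n : w ∉ zpowers (m * z * m⁻¹))
    (b : g * (m * z * m⁻¹) = m * z * m⁻¹ * g) (c : g * w = w * g) : g ∈ 𝐍 J :=
  h.pa_nor' hm a n (nz_of b) (by rw [c, mul_inv_cancel_right]; exact a)

end H3

end Cfsg.Lib.Mc3
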