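import Cfsg.Agent.Lib.Mc3.L1
import Cfsg.Agent.Lib.Mc3.KA
import Cfsg.Agent.Lib.Mc3.KB
import Cfsg.Agent.Lib.Mc3.KC
import Cfsg.Agent.Lib.Transfer.Apps
import Cfsg.Agent.Lib.Linear.Simple

/-! From the hypotheses to `H3`, and from `H5` to the involution centraliser data. -/

set_option autoImplicit false
set_option linter.unusedSectionVars false

namespace Cfsg.Lib.Mc3

open Subgroup Cfsg.Lib.Amalg Cfsg.Lib.Core
open scoped commutatorElement

universe u

theorem exists_H3 {G : Type*} [Group G] [Finite G]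
    (S : Sylow 3 G) (Z : Subgroup G) (hZ : Z = (S : Subgroup G) ⊓ centralizer ((S : Subgroup G) : Set G))
    (J : Subgroup G) (hJS : J ≤ S) (hJcomm : IsMulCommutative J) (hJexp : ∀ a ∈ J, a ^ 3 = 1) (hJcard : Nat.card J = 3 ^ 4)
    (M₀ : Subgroup G) (hM₀ : M₀ = closure {g : G | g ∈ normalizer (J : Set G) ∧ ∃ k : ℕ, orderOf g = 3 ^ k})
    (hJM : J ≤ M₀) [hJn : (J.subgroupOf M₀).Normal] (eM : M₀ ⧸ J.subgroupOf M₀ ≃* alternatingGroup (Fin 6))
    (L₀ : Subgroup G) (hL₀ : L₀ = closure {g : G | g ∈ normalizer (Z : Set G) ∧ ∃ k : ℕ, orderOf g = 3 ^ k})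
    (Q : Subgroup G) (hQ : Q = (pCore 3 (normalizer (Z : Set G))).map (normalizer (Z : Set G)).subtype)
    (hQex : IsExtraspecial 3 Q) (hQcard : Nat.card Q = 3 ^ 5) (hQexp : ∀ a ∈ Q, a ^ 3 = 1)
    (hQL : Q ≤ L₀) [hQn : (Q.subgroupOf L₀).Normal] (eL : L₀ ⧸ Q.subgroupOf L₀ ≃* Matrix.SpecialLinearGroup (Fin 2) (ZMod 5))
    (hiii : ∀ z ∈ J, Z = zpowers z → z ≠ 1 → centralizer (pCoreOf 3 (centralizer {z}) : Set G) ≤ pCoreOf 3 (centralizer {z})) :
    ∃ z θ π, H3 S Q J L₀ M₀ z θ π := by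
  obtain ⟨θ, pθ⟩ := exists_PH hQL eL
  obtain ⟨π, pπ⟩ := exists_PH hJM eM
  have ZS : Z ≤ S := hZ ▸ inf_le_left
  have SZ : (S : Subgroup G) ≤ centralizer (Z : Set G) := fun x hx y hy => ((hZ.le hy).2 x hx).symm
  have QS : Q ≤ S := hQ ▸ pCoreOf_le_sylow_of_le S (SZ.trans (centralizer_le_normalizer _))
  have ZQ : Z ≤ Q := hQ ▸ le_pCoreOf le_normalizer le_rfl (S.2.to_le ZS)
  have eQ : Q ⊓ centralizer (Q : Set G) = (center Q).map Q.subtype := by
    ext x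
    exact ⟨fun ⟨a, b⟩ => ⟨⟨x, a⟩, mem_center_iff.2 fun y => Subtype.ext (b y y.2), rfl⟩, by
      rintro ⟨x, a, rfl⟩; exact ⟨x.2, fun y hy => congrArg Subtype.val (mem_center_iff.1 a ⟨y, hy⟩)⟩⟩
  have c3 : Nat.card ↥(Q ⊓ centralizer (Q : Set G)) = 3 := by rw [eQ, card_map_of_injective (subtype_injective _), hQex.2]
  obtain ⟨z, zZ, z1⟩ : ∃ z ∈ Z, z ≠ 1 := by
    have : Nontrivial (S : Subgroup G) := Finite.one_lt_card_iff_nontrivial.1 (lt_of_lt_of_le (by rw [hJcard]; norm_num) (card_le_of_le hJS))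
    obtain ⟨⟨z, hz⟩, n⟩ := @exists_ne _ S.2.center_nontrivial 1
    exact ⟨z, hZ.ge ⟨z.2, fun y hy => congrArg Subtype.val (mem_center_iff.1 hz ⟨y, hy⟩)⟩, fun e => n (Subtype.ext (Subtype.ext e))⟩
  have z3 : orderOf z = 3 := orderOf_eq_prime (hQexp z (ZQ zZ)) z1
  have l1 : Z ≤ Q ⊓ centralizer (Q : Set G) := le_inf ZQ fun x hx y hy => (hZ.le hx).2 y (QS hy)
  have e1 : zpowers z = Q ⊓ centralizer (Q : Set G) := eq_of_le_of_card_ge ((zpowers_le.2 zZ).trans l1) (by rw [c3, Nat.card_zpowers, z3])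
  have e2 : Z = zpowers z := le_antisymm (e1 ▸ l1) (zpowers_le.2 zZ)
  have eC : centralizer (Z : Set G) = centralizer {z} := by rw [e2, zpowers_eq_closure, centralizer_closure]
  have Qc : ∀ x ∈ Q, ∀ y ∈ Q, ⁅x, y⁆ ∈ zpowers z := fun x a y b => by
    rw [e1, eQ, ← hQex.1.2.2, map_subtype_commutator]; exact commutator_mem_commutator a b
  have o3 : ∀ (g : G) k, g ^ 3 ^ k = 1 → ∃ k, orderOf g = 3 ^ k := fun g k e =>
    ((Nat.dvd_prime_pow Nat.prime_three).1 (orderOf_dvd_of_pow_eq_one e)).imp fun _ h => h.2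
  have Jc : ∀ x ∈ J, ∀ y ∈ J, x * y = y * x := fun x a y b => congrArg Subtype.val (hJcomm.is_comm.comm ⟨x, a⟩ ⟨y, b⟩)
  have SL : (S : Subgroup G) ≤ L₀ := fun x hx => hL₀.ge (subset_closure ⟨centralizer_le_normalizer _ (SZ hx),
    let ⟨k, e⟩ := isPGroup_iff_mem.1 S.2 x hx; o3 x k e⟩)
  have zJ : z ∈ J := by
    by_contra n
    have cB := PGrp.card_sup_zpowers_of_mem_normalizer (p := 3) (centralizer_le_normalizer _ fun y hy => (hZ.le zZ).2 y (hJS hy)) n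
      (by rw [hQexp z (ZQ zZ)]; exact one_mem _)
    have BS : J ⊔ zpowers z ≤ S := sup_le hJS (zpowers_le.2 (ZS zZ))
    have k := pθ.card_im (BS.trans SL)
    have k2 : Nat.card (pθ.im (J ⊔ zpowers z)) ≤ 3 := Nat.le_of_dvd (by norm_num) (by
      have := Nat.dvd_gcd (Dvd.intro _ k.symm) (card_subgroup_dvd_card (pθ.im (J ⊔ zpowers z)))
      rwa [cB, hJcard, s_card] at this)
    have l : (J ⊔ zpowers z) ⊓ Q ≤ Q := inf_le_right
    have cm : J ⊔ zpowers z ≤ centralizer ((J ⊔ zpowers z : Subgroup G) : Set G) := by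
      refine sup_le (le_centralizer_iff.1 (sup_le (fun x a y b => Jc y b x a) (zpowers_le.2 fun y hy => (hZ.le zZ).2 y (hJS hy))))
        (zpowers_le.2 fun y hy => (hZ.le zZ).2 y (BS hy))
    rw [cB, hJcard] at k
    generalize hA : (J ⊔ zpowers z) ⊓ Q = A at k l
    have c : ∀ x ∈ A, ∀ y ∈ A, x * y = y * x := fun x a y b => cm (hA.ge b).1 x (hA.ge a).1
    have a := PGrp.relIndex_centralizer_mul_le (p := 3) (A := A) (S.2.to_le QS) (Z := zpowers z) (by rw [Nat.card_zpowers, z3])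
      fun a b c d => Qc a (l b) c d
    have b := card_inf_mul_relIndex (centralizer (Q : Set G)) A
    have d := card_le_of_le (le_trans (le_inf (inf_le_right.trans l) inf_le_left) e1.ge : centralizer (Q : Set G) ⊓ A ≤ _)
    have f := card_le_of_le (le_inf l fun x hx y hy => c y hy x hx : A ≤ Q ⊓ centralizer (A : Set G))
    rw [Nat.card_zpowers, z3] at d
    rw [hQcard] at a
    have n : 81 ≤ Nat.card A := by nlinarith
    have : Nat.card ↥(Q ⊓ centralizer (A : Set G)) ≤ 27 := by nlinarith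
    omega
  have eO : pCoreOf 3 (centralizer {z}) = Q := by
    rw [← eC]
    refine le_antisymm (hQ ▸ pCoreOf_le_pCoreOf (centralizer_le_normalizer _) (normalizer_le_normalizer_centralizer _)) ?_
    exact (le_inf hQ.le (QS.trans SZ)).trans (pCoreOf_inf_le (centralizer_le_normalizer _))
  refine ⟨z, θ, π, syl_top S, z3, hZ.symm.trans e2, e1.symm, Qc, hQexp, hQcard, eO ▸ hiii z zJ e2 z1, QS, hL₀.le.trans ((closure_le _).2 ?_),
    e2 ▸ hQ ▸ le_normalizer_pCoreOf _, fun g hg => ?_, fun g hg k e => hL₀.ge (subset_closure ⟨e2 ▸ hg, o3 g k e⟩), pθ, hJS, Jc, hJexp, hJcard,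
    fun g hg k e => hM₀.ge (subset_closure ⟨hg, o3 g k e⟩), hM₀.le.trans ((closure_le _).2 fun _ h => h.1), pπ⟩
  · rintro g ⟨hg, k, e⟩
    rw [e2] at hg
    refine mem_centralizer_singleton_iff.2 (mul_inv_eq_iff_eq_mul.1 (((zp3 z3 ((mem_normalizer_iff.1 hg z).1 (mem_zpowers z))).resolve_left
      (mt conj_eq_one_iff.1 z1)).resolve_right fun e' => ni3 z3 ?_))
    have c : g ^ 2 ∈ centralizer {z} := mem_centralizer_singleton_iff.2 (mul_inv_eq_iff_eq_mul.1 (by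
      calc _ = g * (g * z * g⁻¹) * g⁻¹ := by rw [sq]; group
        _ = _ := by rw [e', ← cinv, e', inv_inv]))
    have : g ∈ centralizer {z} := zpowers_le.2 c (mem_zpowers_pow_iff.2 (by rw [e]; exact Nat.Coprime.pow_right _ (by norm_num)))
    rw [← e', mem_centralizer_singleton_iff.1 this, mul_inv_cancel_right]
  · rw [← e2] at hg
    subst hL₀
    refine mem_normalizer_fintype fun x hx => (closure_le (Subgroup.comap (MulAut.conj g).toMonoidHom
      (closure {g : G | g ∈ normalizer (Z : Set G) ∧ ∃ k : ℕ, orderOf g = 3 ^ k}))).2 ?_ hx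
    rintro y ⟨a, k, e⟩
    exact subset_closure ⟨mul_mem (mul_mem hg a) (inv_mem hg), k, (oc g y).trans e⟩

namespace H5
variable {G : Type u} [Group G] [Finite G] {S Q J L M : Subgroup G} {z : G} {θ : G → S25} {π : G → A6} {t j s u v : G}
  (h : H5 S Q J L M z θ π t j s u v)
include h

theorem r_t : t ∈ centralizer {t} := mem_centralizer_singleton_iff.2 rfl
theorem r_z : z ∈ centralizer {t} := mem_centralizer_singleton_iff.2 (h.zL h.tL).symm
theorem r_s : s ∈ centralizer {t} := mem_centralizer_singleton_iff.2 h.st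
theorem r_v : v ∈ centralizer {t} := mem_centralizer_singleton_iff.2 h.vt
theorem r_j : j ∈ centralizer {t} := h.vz ▸ mul_mem (mul_mem h.r_v h.r_z) (inv_mem h.r_v)
theorem r_jJ : j ∈ J := h.vz ▸ conj_mem_of_mem_normalizer h.vJ h.zJ
theorem r_map (c x : centralizer ({t} : Set G)) (e : x.1 ∈ closure {z, j} ⊔ zpowers c.1) :
    x ∈ closure {(⟨z, h.r_z⟩ : centralizer ({t} : Set G)), ⟨j, h.r_j⟩} ⊔ zpowers c := by
  rw [← mem_map_iff_mem (subtype_injective _), Subgroup.map_sup, MonoidHom.map_closure, Set.image_pair, MonoidHom.map_zpowers]; exact e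

theorem toKD (hc : ⁅s, v * s * v⁻¹⁆ = t) :
    ∃ A, KD (⟨t, h.r_t⟩ : centralizer ({t} : Set G)) ⟨z, h.r_z⟩ ⟨j, h.r_j⟩ ⟨s, h.r_s⟩ ⟨v, h.r_v⟩ A := by
  have := Fact.mk Nat.prime_five
  have j3 : orderOf j = 3 := by rw [← h.vz, oc, h.z3]
  have jz : j ∉ zpowers z := fun e => h.jQ (h.zQ e)
  have zj : z * j = j * z := h.Jc _ h.zJ _ h.r_jJ
  have cD : Nat.card (closure {z, j} : Subgroup G) = 9 := by
    rw [PGrp.closure_pair_eq_sup, PGrp.card_sup_zpowers_of_mem_normalizer (p := 3) (nz_of zj.symm) jz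
      (by rw [pow_three', p3 j3]; exact one_mem _), h.cZ]
  have DJ : closure {z, j} ≤ J := (closure_le _).2 (by rintro _ (rfl | rfl); exacts [h.zJ, h.r_jJ])
  have jB : j ∈ L ⊓ centralizer {t} := ⟨h.SL (h.JS h.r_jJ), h.r_j⟩
  have sB : s ∈ L ⊓ centralizer {t} := ⟨h.sL, h.r_s⟩
  have DB : closure {z, j} ≤ L ⊓ centralizer {t} := le_inf (DJ.trans (h.JS.trans h.SL)) h.sylD.le
  generalize hB : L ⊓ centralizer {t} = B at jB sB DB
  have BL : B ≤ L := hB ▸ inf_le_left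
  have BK : B ≤ centralizer {t} := hB ▸ inf_le_right
  let f : B →* S25 := h.pθ.hom.comp (inclusion BL)
  have f1 : Function.Surjective f := fun x => let ⟨l, a, b, c⟩ := h.cover h.tL h.tθ h.tt x
    ⟨⟨l, hB.le ⟨a, mem_centralizer_singleton_iff.2 b⟩⟩, c⟩
  have f2 : ∀ x : B, f x = 1 → x.1 ∈ zpowers z := fun x e =>
    h.ct h.tL h.tθ h.tt ((h.pθ.ker (BL x.2)).1 e) (mem_centralizer_singleton_iff.1 (BK x.2))
  have f3 : (commutator B).map f = ⊤ := by
    rw [commutator_def, map_commutator, map_top_of_surjective f f1, ← commutator_def]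
    exact Linear.sl_commutator_eq_top (.inr five_ex)
  have f4 : ∀ x ∈ commutator B, f x = 1 → x = 1 := fun x a e => by
    have k : ⁅(closure {z, j}).subgroupOf B, (closure {z, j}).subgroupOf B⁆ = ⊥ := commutator_eq_bot_iff_le_centralizer.2
      fun a b c d => Subtype.ext (h.Jc _ (DJ d) _ (DJ b))
    have := Transfer.inf_commutator_inf_center_le ((closure {z, j}).subgroupOf B) (by
      rw [k, relIndex_bot_left, Nat.card_congr (subgroupOfEquivOfLe DB).toEquiv, cD]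
      exact Nat.Coprime.pow_right 2 ((Nat.Prime.coprime_iff_not_dvd Nat.prime_three).2 (h.sylD.of_le DB BK).not_dvd_relIndex).symm)
    rw [k] at this
    exact this ⟨⟨zpowers_le.2 zD (f2 x e), a⟩, mem_center_iff.2 fun g => Subtype.ext (h.cL (BL g.2) (f2 x e))⟩
  have eA : ⁅B, B⁆ = (commutator B).map B.subtype := (map_subtype_commutator B).symm
  have AB : ⁅B, B⁆ ≤ B := eA ▸ map_subtype_le _
  have nz : ∀ n x : centralizer ({t} : Set G), n ∈ normalizer (zpowers x : Set (centralizer ({t} : Set G))) → n.1 ∈ normalizer (zpowers x.1 : Set G) :=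
    fun n x hn => nzp (let ⟨k, e⟩ := (mem_normalizer_iff.1 hn _).1 (mem_zpowers _); ⟨k, congrArg Subtype.val e⟩)
  refine ⟨⁅B, B⁆.subgroupOf _, fun g => Subtype.ext (mem_centralizer_singleton_iff.1 g.2), ?_, (Subgroup.orderOf_coe _).symm.trans h.z3,
    Subtype.ext zj, fun ⟨k, e⟩ => jz ⟨k, congrArg Subtype.val e⟩, Subtype.ext h.vz, Subtype.ext h.vv, Subtype.ext (h.zL h.sL), Subtype.ext h.sj,
    Subtype.ext h.ss, Subtype.ext hc, fun e => h.sylD.not_dvd_relIndex ?_, ⟨(subgroupOfEquivOfLe (AB.trans BK)).trans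
      ((MulEquiv.subgroupCongr eA).trans (((commutator B).equivMapOfInjective _ (subtype_injective _)).symm.trans (MulEquiv.ofBijective
        (f.comp (commutator B).subtype) ⟨(injective_iff_map_eq_one _).2 fun x e => Subtype.ext (f4 x x.2 e), fun y =>
          let ⟨x, a, b⟩ := f3.ge (mem_top y); ⟨⟨x, a⟩, b⟩⟩)))⟩, ?_, ?_,
    fun a ha => mem_centralizer_singleton_iff.2 (Subtype.ext (h.zL (BL (AB ha)))), fun n hn => ?_, fun e => ?_, fun n hn => ?_⟩
  · exact orderOf_eq_prime (Subtype.ext ((sq t).trans h.tt)) fun e => absurd (h.tθ.symm.trans ((h.pθ.ker h.tL).2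
      ((show t = 1 from congrArg Subtype.val e).symm ▸ one_mem _))) (by decide)
  · rw [← card_mul_relIndex h.sylD.le, cD] at e
    exact Nat.dvd_of_mul_dvd_mul_left (by norm_num : 0 < 9) e
  · change j ∈ ⁅B, B⁆
    convert commutator_mem_commutator sB jB using 1
    rw [commutatorElement_def, h.sj, ← mul_inv_rev]; exact eq_inv_of_mul_eq_one_right (p3 j3)
  · change s ∈ ⁅B, B⁆
    obtain ⟨a, ha, e⟩ := f3.ge (mem_top (f ⟨s, sB⟩))
    have k := f2 (a⁻¹ * ⟨s, sB⟩) (by rw [map_mul, map_inv, e, inv_mul_cancel])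
    have c : Commute a.1 ((a.1)⁻¹ * s) := h.cL (BL a.2) k
    have k3 : ((a.1)⁻¹ * s) ^ 9 = 1 := by rw [show 9 = 3 * 3 from rfl, pow_mul, h.Q3 ((a.1)⁻¹ * s) (h.zQ k), one_pow]
    have := c.mul_pow 9
    rw [mul_inv_cancel_left, k3, mul_one, show 9 = 2 * 2 * 2 + 1 from rfl, pow_succ, pow_mul, pow_mul, sq s, h.ss, sq t, h.tt, one_pow, one_mul] at this
    rw [this, eA]; exact pow_mem (mem_map_of_mem _ ha) _
  · have : n.1 ∈ normalizer (B : Set G) := hB ▸ le_normalizer_inf (zpowers_le.2 (h.nL (nz n _ hn))) (zpowers_le.2 (le_normalizer n.2)) (mem_zpowers _)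
    have k : n.1 ∈ normalizer ((⁅B, B⁆ : Subgroup G) : Set G) := eA ▸ normalizer_le_normalizer_map_subtype _ this
    exact mem_normalizer_iff.2 fun a => mem_normalizer_iff.1 k a.1
  · rcases h.pts (z * j) (mul_mem zD jD) ((centralizer ({t} : Set G)).subtype.map_isConj e) with k | k
    · exact jz ((mul_mem_cancel_left (mem_zpowers z)).1 k)
    · rcases zp3 j3 ((mul_mem_cancel_right (mem_zpowers j)).1 k) with k | k | k
      exacts [ne3 h.z3 k, jz (k ▸ mem_zpowers z), jz (inv_mem_iff.1 (k ▸ mem_zpowers z))]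
  · have k := h.Ny _ (nz n _ hn)
    have l : ∀ x : centralizer ({t} : Set G), x.1 ∈ J → n * x * n⁻¹ ∈ closure {(⟨z, h.r_z⟩ : centralizer ({t} : Set G)), ⟨j, h.r_j⟩} := fun x hx => by
      simpa using h.r_map 1 (n * x * n⁻¹) (mem_sup_left (h.D _ (h.JS (conj_mem_of_mem_normalizer k hx)) (mem_centralizer_singleton_iff.1 (n * x * n⁻¹).2)))
    exact nD (l _ h.zJ) (l _ h.r_jJ)

theorem fin (h34 : S34.{u}) (hc : ⁅s, v * s * v⁻¹⁆ = t)
    (H : (∀ x, x * t = t * x → Commute x z → Commute x j → x ∈ closure {z, j} ⊔ zpowers t) ∨ ∃ ι, ι * t = t * ι ∧ ι * ι = 1 ∧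
      (∀ x ∈ J, ι * x * ι⁻¹ = x⁻¹) ∧ Commute ι s ∧ Commute ι v ∧
      ∀ x, x * t = t * x → Commute x z → Commute x j → x ∈ closure {z, j} ⊔ zpowers (ι * (s * (v * s * v⁻¹))⁻¹))
    (N : ∀ ι, ι * t = t * ι → ι * ι = 1 → (∀ x ∈ J, ι * x * ι⁻¹ = x⁻¹) → Commute ι s → Commute ι v → ¬ IsConj t ι) :
    Nonempty (G ≃* Spor.McL) ∨ Nonempty (G ≃* MulAut Spor.McL) := by
  obtain ⟨A, k⟩ := h.toKD hc
  have : (zpowers (⟨t, h.r_t⟩ : centralizer ({t} : Set G))).Normal := ⟨by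
    rintro _ ⟨n, rfl⟩ g
    rw [(Commute.zpow_right (k.tc g) n).eq, mul_inv_cancel_right]; exact ⟨n, rfl⟩⟩
  have tr : ∀ c : centralizer ({t} : Set G), (∀ x, x * t = t * x → Commute x z → Commute x j → x ∈ closure {z, j} ⊔ zpowers c.1) →
      centralizer (closure {(⟨z, h.r_z⟩ : centralizer ({t} : Set G)), ⟨j, h.r_j⟩} : Subgroup _) ≤
        closure {(⟨z, h.r_z⟩ : centralizer ({t} : Set G)), ⟨j, h.r_j⟩} ⊔ zpowers c := fun c H x hx =>
    h.r_map c x (H x (mem_centralizer_singleton_iff.1 x.2) (congrArg Subtype.val (hx _ zD)).symm (congrArg Subtype.val (hx _ jD)).symm)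
  rcases H with H | ⟨ι, i1, i2, i3, i4, i5, H⟩
  · exact .inl (fin_a h34 rfl k h.vc (k.a8 (tr _ H)).some)
  have wK : s * (v * s * v⁻¹) ∈ centralizer {t} := mul_mem h.r_s (mul_mem (mul_mem h.r_v h.r_s) (inv_mem h.r_v))
  have ww : s * (v * s * v⁻¹) * (s * (v * s * v⁻¹)) = t := congrArg Subtype.val k.cuu
  have iw : Commute ι (s * (v * s * v⁻¹)) := i4.mul_right ((i5.mul_right i4).mul_right i5.inv_right)
  have vi : v⁻¹ = v := inv_eq_of_mul_eq_one_right h.vv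
  have vj : v * j * v⁻¹ = z := by rw [← h.vz, vi, ← mul_assoc, ← mul_assoc, h.vv, one_mul, mul_assoc, h.vv, mul_one]
  have sz : s * z * s⁻¹ = z := mul_inv_eq_iff_eq_mul.2 (h.zL h.sL)
  have wz : s * (v * s * v⁻¹) * z * (s * (v * s * v⁻¹))⁻¹ = z⁻¹ := by
    calc _ = s * (v * (s * (v⁻¹ * z * v⁻¹⁻¹) * s⁻¹) * v⁻¹) * s⁻¹ := by group
      _ = _ := by nth_rw 1 [vi]; nth_rw 1 [vi]; rw [h.vz, h.sj, ← cinv, vj, ← cinv, sz]
  have wj : s * (v * s * v⁻¹) * j * (s * (v * s * v⁻¹))⁻¹ = j⁻¹ := by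
    calc _ = s * (v * (s * (v⁻¹ * j * v⁻¹⁻¹) * s⁻¹) * v⁻¹) * s⁻¹ := by group
      _ = _ := by nth_rw 1 [vi]; nth_rw 1 [vi]; rw [vj, sz, h.vz, h.sj]
  have n1 : ¬ Commute (ι * (s * (v * s * v⁻¹))⁻¹) s := fun e => k.cT1 (Subtype.ext (hc.symm.trans (commutatorElement_eq_one_iff_commute.2 (by
    have := (Commute.refl s).inv_left.mul_left ((i4.inv_left.mul_left e).inv_left)
    simpa [mul_assoc] using this.symm))))
  generalize hw : s * (v * s * v⁻¹) = w at wK ww iw wz wj n1 H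
  have cm : ∀ x ∈ J, w * x * w⁻¹ = x⁻¹ → ι * w⁻¹ * x = x * (ι * w⁻¹) := fun x hx e => mul_inv_eq_iff_eq_mul.1 (by
    calc _ = w⁻¹ * (ι * x * ι⁻¹) * w := by rw [iw.inv_right.eq]; group
      _ = _ := by rw [i3 x hx, ← e]; group)
  let c : centralizer ({t} : Set G) := ⟨ι * w⁻¹, mul_mem (mem_centralizer_singleton_iff.2 i1) (inv_mem wK)⟩
  have cc : c * c = ⟨t, h.r_t⟩ := Subtype.ext (by
    change ι * w⁻¹ * (ι * w⁻¹) = t
    rw [mul_assoc, ← mul_assoc w⁻¹, ← iw.inv_right.eq, mul_assoc, ← mul_assoc, i2, one_mul, ← mul_inv_rev, ww, inv_eq_of_mul_eq_one_right h.tt])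
  have cz : Commute c ⟨z, h.r_z⟩ := Subtype.ext (cm z h.zJ wz)
  have cJ : Commute c ⟨j, h.r_j⟩ := Subtype.ext (cm j h.r_jJ wj)
  refine .inr (fin_b h34 rfl k h.vc cc cz cJ (Subtype.ext ?_) (k.s8 cc cz cJ (fun e => n1 (congrArg Subtype.val e)) (tr c H)).some ?_
    (h.syl.isPGroup.to_le h.JS) h.CJ)
  · change ι * w⁻¹ * (s * (v * s * v⁻¹)) = s * (v * s * v⁻¹) * (ι * w⁻¹)
    rw [hw, ← mul_assoc, ← iw.eq]; group
  · change ¬ IsConj t (ι * w⁻¹ * (s * (v * s * v⁻¹)))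
    rw [hw, inv_mul_cancel_right]; exact N ι i1 i2 i3 i4 i5

end H5

end Cfsg.Lib.Mc3
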