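import Cfsg.Agent.Lib.Mc3.L1

/-! Coordinates on the Thompson subgroup of a group of McLaughlin 3-local type. -/

set_option autoImplicit false

namespace Cfsg.Lib.Mc3

open Subgroup Cfsg.Lib.Amalg

/-- the coordinate space. -/
abbrev F4 := Fin 4 → ZMod 3

/-- The orthogonal geometry on `J`. -/
structure GE {G : Type*} [Group G] (J : Subgroup G) (z y : G) (β : F4 → G) : Prop where
  add : ∀ a b, β (a + b) = β a * β b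
  inj : Function.Injective β
  mem : ∀ x, x ∈ J ↔ ∃ a, β a = x
  hy : β ![1, 0, 0, 0] = y
  sing : ∀ a, IsConj z (β a) ↔ a ≠ 0 ∧ a 0 ^ 2 = a 1 ^ 2 + a 2 ^ 2 + a 3 ^ 2
  fus : ∀ x ∈ J, IsConj z x → ∃ m ∈ 𝐍 J, m * z * m⁻¹ = x
  CJ : centralizer (J : Set G) ≤ J
  gt : ∃ t, ∀ a, t * β a * t⁻¹ = β ![a 0, a 1, -a 2, -a 3]
  gv : ∃ v, ∀ a, v * β a * v⁻¹ = β ![a 0, -a 1, a 2, -a 3]
  gr : ∃ r, ∀ a, r * β a * r⁻¹ = β ![a 0, a 3, a 1, a 2]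
  mono : ∀ g ∈ 𝐍 J, g * y = y * g → ∃ (σ : Equiv.Perm (Fin 3)) (ε : Fin 3 → ℤˣ),
    Equiv.Perm.sign σ * (ε 0 * ε 1 * ε 2) = 1 ∧
    ∀ a, g * β a * g⁻¹ = β (Fin.cons (a 0) fun i => ((ε i : ℤ) : ZMod 3) * a (σ i).succ)

end Cfsg.Lib.Mc3
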