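import Cfsg.Agent.Lib.Mc3.Pa

/-! Centralisers of the planes of `J` through a non-central element. -/

set_option autoImplicit false
set_option linter.unusedSectionVars false

namespace Cfsg.Lib.Mc3

open Subgroup Cfsg.Lib.Amalg Cfsg.Lib.Core
open scoped commutatorElement

universe u

/-- Groups with a self-centralising `3²` whose automiser has order at most two. -/
def Ell : Prop := ∀ (Y : Type u) [Group Y] [Finite Y] (E : Subgroup Y), Nat.card E = 9 → (∀ x ∈ E, x ^ 3 = 1) →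
  (∀ x ∈ E, x ≠ 1 → centralizer {x} = E) → (∀ g ∈ normalizer (E : Set Y), g ∈ E ∨ ∀ x ∈ E, g * x * g⁻¹ = x⁻¹) → E.Normal

abbrev YV := ZMod 3 × ZMod 3 × ZMod 3

/-- permutation part -/
def yp (p : Fin 6) (v : YV) : YV := ![v, (v.2.2, v.1, v.2.1), (v.2.1, v.2.2, v.1), (-v.1, -v.2.2, -v.2.1),
  (-v.2.1, -v.1, -v.2.2), (-v.2.2, -v.2.1, -v.1)] p
/-- sign part -/
def ys (q : Fin 4) (v : YV) : YV := ![v, (v.1, -v.2.1, -v.2.2), (-v.1, v.2.1, -v.2.2), (-v.1, -v.2.1, v.2.2)] q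

theorem y_mul : ∀ p q p' q', ∃ p'' q'', ∀ v, ys q (yp p (ys q' (yp p' v))) = ys q'' (yp p'' v) := by decide +kernel
theorem y_inv : ∀ p q, ∃ p' q', ∀ v, ys q (yp p (ys q' (yp p' v))) = v := by decide +kernel
theorem y_st : ∀ p q, ys q (yp p (0, 1, 1)) = (0, 1, 1) → (∀ v, ys q (yp p v) = v) ∨
    ∀ v, ∃ m : Fin 3, ys q (yp p v) + v = m.1 • (0, 1, 1) := by decide +kernel
theorem y_orb : ∀ v : YV, v ≠ 0 → ∃ p : Fin 6, p.1 < 3 ∧ ∃ q, ∃ w ∈ [((1, 0, 0) : YV), (1, 1, 1), (0, 1, 1)],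
    v = ys q (yp p w) ∨ v = -ys q (yp p w) := by decide +kernel
theorem y_hyp : ∀ v : YV, (∃ m : Fin 3, v = m.1 • (0, 1, 1)) ∨ ∃ m : Fin 3, ∃ p : Fin 6, p.1 < 3 ∧ ∃ q,
    ∃ w ∈ [((1, 0, 0) : YV), (1, 1, 1)], v + m.1 • (0, 1, 1) = ys q (yp p w) ∨ v + m.1 • (0, 1, 1) = -ys q (yp p w) := by
  decide +kernel

variable {G : Type u} [Group G] [Finite G]

theorem y_pa {e : G} (h : e ^ 3 = 1) (x y : ZMod 3) : e ^ (x + y).val = e ^ x.val * e ^ y.val := by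
  rw [ZMod.val_add, ← pow_add, ← pow_eq_pow_mod _ h]

theorem y_pn {e : G} (h : e ^ 3 = 1) (x : ZMod 3) : e ^ (-x).val = (e ^ x.val)⁻¹ :=
  eq_inv_of_mul_eq_one_left (by rw [← y_pa h, neg_add_cancel, ZMod.val_zero, pow_zero])

namespace H3
variable {S Q J L M : Subgroup G} {z : G} {θ : G → S25} {π : G → A6} (h : H3 S Q J L M z θ π)
include h

theorem ya_fus {g : G} (a : g * z * g⁻¹ ∈ J) : ∃ k ∈ normalizer (J : Set G), k * z * k⁻¹ = g * z * g⁻¹ := by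
  have : Fact (Nat.Prime 3) := ⟨Nat.prime_three⟩
  obtain ⟨k, hk, l⟩ := (h.syl.of_le (K := centralizer {z}) (fun x b => mem_centralizer_singleton_iff.2 (h.Sz b))
    le_top).exists_conj_le (P := cj g⁻¹ J) (isPGroup_cj _ (h.syl.isPGroup.to_le h.JS)) (by
      rintro _ ⟨x, b, rfl⟩
      refine mem_centralizer_singleton_iff.2 ?_
      show g⁻¹ * x * g⁻¹⁻¹ * z = z * (g⁻¹ * x * g⁻¹⁻¹)
      calc _ = g⁻¹ * (x * (g * z * g⁻¹)) * g := by group
        _ = _ := by rw [h.Jc x b _ a]; group)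
  rw [← cj_mul] at l
  refine ⟨_, inv_mem (h.cjJ l), ?_⟩
  calc _ = g * (k⁻¹ * (z * k)) * g⁻¹ := by group
    _ = _ := by rw [← mem_centralizer_singleton_iff.1 hk, inv_mul_cancel_left]

theorem ya_good {W : Subgroup G} (l : W ≤ J) (n : 3 < Nat.card W) {x : G} (hx : x ∈ W) (c : IsConj z x) :
    centralizer (W : Set G) ≤ normalizer (J : Set G) := fun g hg => by
  obtain ⟨k, rfl⟩ := isConj_iff.1 c
  obtain ⟨m, hm, e⟩ := h.ya_fus (l hx)
  rw [← e] at hx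
  obtain ⟨w, a, b⟩ : ∃ w ∈ W, w ∉ zpowers (m * z * m⁻¹) := by
    by_contra! k
    have := card_le_of_le (show W ≤ _ from k)
    rw [← cj_zpowers, card_cj, h.cZ] at this
    omega
  exact h.pa_cen' hm (l a) b (hg _ hx).symm (hg _ a).symm

theorem ya_red {E : Subgroup G} (l : J ≤ E) (n : E ≤ normalizer (J : Set G)) {g : G} (a : g ∈ normalizer (E : Set G)) :
    g ∈ normalizer (J : Set G) := by
  have : Fact (Nat.Prime 3) := ⟨Nat.prime_three⟩
  have p := h.syl.isPGroup.to_le h.JS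
  obtain ⟨k, -, b⟩ := h.syl.exists_conj_le (isPGroup_sup_of_le_normalizer (isPGroup_cj g p) p
    ((cj_le_of_le_of_mem_normalizer l a).trans n)) le_top
  rw [cj_sup, ← cj_mul] at b
  exact (mul_mem_cancel_left (h.cjJ (le_sup_right.trans b))).1 (h.cjJ (le_sup_left.trans b))

theorem ya_sing {W : Subgroup G} (l : W ≤ J) (n : 9 ≤ Nat.card W) {r : G} (a : r ∈ normalizer (J : Set G)) (r3 : r ^ 3 ∈ J)
    (rJ : r ∉ J) (c : ∀ w ∈ W, r * w = w * r) : ∃ x ∈ W, IsConj z x := by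
  have : Fact (Nat.Prime 3) := ⟨Nat.prime_three⟩
  obtain ⟨k, -, b⟩ := h.syl.exists_conj_le (isPGroup_sup_of_le_normalizer (isPGroup_zpowers_of_pow (x := r) (k := 2) (by
    rw [show 3 ^ 2 = 3 * 3 from rfl, pow_mul, h.J3 _ r3])) (h.syl.isPGroup.to_le h.JS) (zpowers_le.2 a)) le_top
  have kJ := h.cjJ ((cj_mono k le_sup_right).trans b)
  obtain ⟨x, hx, q, hq, e⟩ := (mem_sup_of_le_normalizer (h.JS.trans fun _ a => h.nQ (nz_of (h.Sz a)))).1
    (h.JQ.ge (b (conj_mem_cj k (mem_sup_left (mem_zpowers r)))))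
  have l' : cj k W ≤ J := cj_le_of_le_of_mem_normalizer l kJ
  have qJ : q ∉ J := fun m => rJ (by
    have := conj_mem_of_mem_normalizer (inv_mem kJ) (e ▸ mul_mem hx m)
    simpa [mul_assoc] using this)
  have cq : ∀ w ∈ cj k W, w * q = q * w := by
    rintro _ ⟨w, hw, rfl⟩
    have m := l' (conj_mem_cj k hw)
    show k * w * k⁻¹ * q = q * (k * w * k⁻¹)
    refine mul_left_cancel (a := x) ?_
    rw [← mul_assoc x, h.Jc x hx _ m, mul_assoc _ x, e, ← mul_assoc x, e, conj_mul, conj_mul, c w hw]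
  by_cases hz : z ∈ cj k W
  · obtain ⟨w, hw, e⟩ := mem_cj'.1 hz
    exact ⟨w, hw, (isConj_iff.2 ⟨k, e⟩).symm⟩
  exfalso
  have l2 : cj k W ⊔ zpowers z ≤ J ⊓ Q := sup_le (le_inf l' fun w hw => by_contra fun m =>
    qJ (h.fv h.JS h.Jc h.cJ (l' hw) m hq (by rw [cq w hw]; simp))) (zpowers_le.2 ⟨h.zJ, h.zQ (mem_zpowers z)⟩)
  have c1 := card_lt_of_lt' (lt_of_le_of_ne (le_sup_left : cj k W ≤ cj k W ⊔ zpowers z) fun e =>
    hz (e.ge (mem_sup_right (mem_zpowers z))))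
  have c2 := card_dvd_of_le l2
  have c3 := (h.ab1 h.JS h.Jc h.cJ).1
  rw [card_cj] at c1
  rw [c3] at c2
  have := (by decide : ∀ n ≤ 27, n ∣ 27 → 9 < n → n = 27) _ (Nat.le_of_dvd (by norm_num) c2) c2 (by omega)
  have e2 := eq_of_le_of_card_ge l2 (by rw [this, c3])
  refine qJ (h.CV.le ⟨hq, ?_⟩).1
  rw [← e2]
  exact le_centralizer_iff.1 (sup_le (fun w hw => mem_centralizer_iff.2 (by rintro _ ⟨n, rfl⟩; exact ((show Commute w q from cq w hw).zpow_right n).eq.symm))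
    (zpowers_le.2 (mem_centralizer_iff.2 (by rintro _ ⟨n, rfl⟩; exact ((show Commute q z from h.Sz (h.QS hq)).zpow_left n).eq)))) (mem_zpowers q)

theorem ya_two {x y : G} (a : x ∈ J) (b : y ∈ J) (y1 : y ≠ 1) (n : x ∉ zpowers y) :
    Nat.card ↥(zpowers y ⊔ zpowers x) = 9 := by
  have : Fact (Nat.Prime 3) := ⟨Nat.prime_three⟩
  rw [card_sup_of_disjoint (zpowers_le.2 (nz_of (h.Jc y b x a))) (eq_bot_iff.2 fun w ⟨k, l⟩ => by
    rcases mem3 (h.J3 x a) l with rfl | rfl | rfl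
    exacts [rfl, absurd k n, absurd ((zpowers y).inv_mem_iff.1 k) n]), Nat.card_zpowers, Nat.card_zpowers,
    orderOf_eq_prime (h.J3 y b) y1, orderOf_eq_prime (h.J3 x a) fun e => n (e ▸ one_mem _)]

end H3

theorem y_cen {x y g : G} : g ∈ centralizer ((zpowers y ⊔ zpowers x : Subgroup G) : Set G) ↔ g * y = y * g ∧ g * x = x * g := by
  refine ⟨fun k => ⟨(k y (mem_sup_left (mem_zpowers y))).symm, (k x (mem_sup_right (mem_zpowers x))).symm⟩, fun k => ?_⟩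
  exact le_centralizer_iff.1 (sup_le
    (zpowers_le.2 (mem_centralizer_iff.2 (by rintro _ ⟨n, rfl⟩; exact ((show Commute g y from k.1).zpow_left n).eq)))
    (zpowers_le.2 (mem_centralizer_iff.2 (by rintro _ ⟨n, rfl⟩; exact ((show Commute g x from k.2).zpow_left n).eq)))) (mem_zpowers g)

end Cfsg.Lib.Mc3
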