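import Cfsg.Agent.Lib.Mc3.Ya

/-! Centralisers of the planes of `J` through a non-central element: the main result. -/

set_option autoImplicit false
set_option linter.unusedSectionVars false

namespace Cfsg.Lib.Mc3

open Subgroup Cfsg.Lib.Amalg Cfsg.Lib.Core
open scoped commutatorElement

universe u

variable {G : Type u} [Group G] [Finite G]

/-- coordinates -/
def yF (e1 e2 e3 : G) (v : YV) : G := e1 ^ v.1.val * e2 ^ v.2.1.val * e3 ^ v.2.2.val

/-- A frame of `J`. -/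
structure YF (J : Subgroup G) (y e1 e2 e3 a b r : G) : Prop where
  hJ : J = closure {y, e1, e2, e3}
  Jc : ∀ x ∈ J, ∀ y ∈ J, x * y = y * x
  J3 : ∀ x ∈ J, x ^ 3 = 1
  cJ : Nat.card J = 81
  a1 : a * e1 * a⁻¹ = e1
  a2 : a * e2 * a⁻¹ = e2⁻¹
  a3 : a * e3 * a⁻¹ = e3⁻¹
  b1 : b * e1 * b⁻¹ = e1⁻¹
  b2 : b * e2 * b⁻¹ = e2
  b3 : b * e3 * b⁻¹ = e3⁻¹
  r1 : r * e1 * r⁻¹ = e2
  r2 : r * e2 * r⁻¹ = e3
  r3 : r * e3 * r⁻¹ = e1
  ay : a * y = y * a
  by' : b * y = y * b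
  ry : r * y = y * r

namespace YF
variable {J : Subgroup G} {y e1 e2 e3 a b r c g : G} (f : YF J y e1 e2 e3 a b r)
include f

theorem my : y ∈ J := f.hJ ▸ subset_closure (by simp)
theorem m1 : e1 ∈ J := f.hJ ▸ subset_closure (by simp)
theorem m2 : e2 ∈ J := f.hJ ▸ subset_closure (by simp)
theorem m3 : e3 ∈ J := f.hJ ▸ subset_closure (by simp)
theorem mF (v : YV) : yF e1 e2 e3 v ∈ J := mul_mem (mul_mem (pow_mem f.m1 _) (pow_mem f.m2 _)) (pow_mem f.m3 _)

theorem add (v w : YV) : yF e1 e2 e3 (v + w) = yF e1 e2 e3 v * yF e1 e2 e3 w := by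
  simp only [yF, Prod.fst_add, Prod.snd_add, y_pa (f.J3 _ f.m1), y_pa (f.J3 _ f.m2), y_pa (f.J3 _ f.m3)]
  have c : ∀ x ∈ J, ∀ y ∈ J, Commute x y := f.Jc
  rw [(c _ (pow_mem f.m1 _) _ (pow_mem f.m2 _)).mul_mul_mul_comm,
    (c _ (mul_mem (pow_mem f.m1 _) (pow_mem f.m2 _)) _ (pow_mem f.m3 _)).mul_mul_mul_comm]

omit f in
theorem zero : yF e1 e2 e3 0 = 1 := by simp [yF]

theorem neg (v : YV) : yF e1 e2 e3 (-v) = (yF e1 e2 e3 v)⁻¹ :=
  eq_inv_of_mul_eq_one_left (by rw [← f.add, neg_add_cancel, zero])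

theorem smul (m : ℕ) (v : YV) : yF e1 e2 e3 (m • v) = yF e1 e2 e3 v ^ m := by
  induction m with
  | zero => rw [zero_smul, zero, pow_zero]
  | succ n k => rw [succ_nsmul, f.add, k, pow_succ]

theorem dec {x : G} (hx : x ∈ J) : ∃ (l : ZMod 3) (v : YV), x = y ^ l.val * yF e1 e2 e3 v := by
  have c : ∀ x ∈ J, ∀ y ∈ J, Commute x y := f.Jc
  rw [f.hJ] at hx
  induction hx using closure_induction with
  | mem x hx =>
    rcases hx with rfl | rfl | rfl | rfl
    exacts [⟨1, 0, by simp [yF, ZMod.val_one]⟩, ⟨0, (1, 0, 0), by simp [yF, ZMod.val_one]⟩,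
      ⟨0, (0, 1, 0), by simp [yF, ZMod.val_one]⟩, ⟨0, (0, 0, 1), by simp [yF, ZMod.val_one]⟩]
  | one => exact ⟨0, 0, by simp [yF]⟩
  | mul x w _ _ p q =>
    obtain ⟨l, v, rfl⟩ := p
    obtain ⟨l', v', rfl⟩ := q
    exact ⟨l + l', v + v', by rw [y_pa (f.J3 _ f.my), f.add, (c _ (f.mF v) _ (pow_mem f.my _)).mul_mul_mul_comm]⟩
  | inv x _ p =>
    obtain ⟨l, v, rfl⟩ := p
    exact ⟨-l, -v, by rw [y_pn (f.J3 _ f.my), f.neg, mul_inv_rev, (c _ (f.mF v) _ (pow_mem f.my _)).inv_inv.eq]⟩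

theorem ind {l : ZMod 3} {v : YV} (e : y ^ l.val * yF e1 e2 e3 v = 1) : l = 0 ∧ v = 0 := by
  have := ((Nat.bijective_iff_surjective_and_card (fun p : ZMod 3 × YV =>
    (⟨y ^ p.1.val * yF e1 e2 e3 p.2, mul_mem (pow_mem f.my _) (f.mF _)⟩ : J))).2
    ⟨fun x => let ⟨l, v, e⟩ := f.dec x.2; ⟨(l, v), Subtype.ext e.symm⟩, by rw [f.cJ]; simp⟩).1
    (a₁ := (l, v)) (a₂ := (0, 0)) (Subtype.ext (by simp [e, zero]))
  exact Prod.ext_iff.1 this

theorem y1 : y ≠ 1 := fun e => absurd (f.ind (l := 1) (v := 0) (by simp [e, zero])).1 (by decide)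

theorem nz {v : YV} (n : v ≠ 0) : yF e1 e2 e3 v ∉ zpowers y := fun k => by
  rcases mem3 (f.J3 _ f.my) k with e | e | e
  · exact n (f.ind (l := 0) (by simpa using e)).2
  · exact n (f.ind (l := -1) (by rw [y_pn (f.J3 _ f.my), e, ZMod.val_one, pow_one, inv_mul_cancel])).2
  · exact n (f.ind (l := 1) (by rw [e, ZMod.val_one, pow_one, mul_inv_cancel])).2

theorem Ma (v : YV) : a * yF e1 e2 e3 v * a⁻¹ = yF e1 e2 e3 (ys 1 v) := by
  show _ = e1 ^ v.1.val * e2 ^ (-v.2.1).val * e3 ^ (-v.2.2).val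
  rw [yF, ← conj_mul, ← conj_mul, ← conj_pow, ← conj_pow, ← conj_pow, f.a1, f.a2, f.a3, y_pn (f.J3 _ f.m2), y_pn (f.J3 _ f.m3),
    inv_pow, inv_pow]

theorem Mb (v : YV) : b * yF e1 e2 e3 v * b⁻¹ = yF e1 e2 e3 (ys 2 v) := by
  show _ = e1 ^ (-v.1).val * e2 ^ v.2.1.val * e3 ^ (-v.2.2).val
  rw [yF, ← conj_mul, ← conj_mul, ← conj_pow, ← conj_pow, ← conj_pow, f.b1, f.b2, f.b3, y_pn (f.J3 _ f.m1), y_pn (f.J3 _ f.m3),
    inv_pow, inv_pow]

theorem Mr (v : YV) : r * yF e1 e2 e3 v * r⁻¹ = yF e1 e2 e3 (yp 1 v) := by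
  show _ = e1 ^ v.2.2.val * e2 ^ v.1.val * e3 ^ v.2.1.val
  rw [yF, ← conj_mul, ← conj_mul, ← conj_pow, ← conj_pow, ← conj_pow, f.r1, f.r2, f.r3,
    f.Jc _ (mul_mem (pow_mem f.m2 _) (pow_mem f.m3 _)) _ (pow_mem f.m1 _), mul_assoc]

theorem Mc (c1 : c * e1 * c⁻¹ = e1) (c2 : c * e2 * c⁻¹ = e3) (c3 : c * e3 * c⁻¹ = e2⁻¹) (v : YV) :
    c * yF e1 e2 e3 v * c⁻¹ = yF e1 e2 e3 (ys 2 (yp 3 v)) := by
  show _ = e1 ^ (- -v.1).val * e2 ^ (-v.2.2).val * e3 ^ (- -v.2.1).val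
  rw [yF, ← conj_mul, ← conj_mul, ← conj_pow, ← conj_pow, ← conj_pow, c1, c2, c3, neg_neg, neg_neg, y_pn (f.J3 _ f.m2), inv_pow,
    mul_assoc, f.Jc _ (pow_mem f.m3 _) _ (inv_mem (pow_mem f.m2 _)), mul_assoc]

theorem nJ (gy : g * y = y * g) {φ : YV → YV} (m : ∀ v, g * yF e1 e2 e3 v * g⁻¹ = yF e1 e2 e3 (φ v)) :
    g ∈ normalizer (J : Set G) := mem_normalizer_of_conj_mem fun x hx => by
  obtain ⟨l, v, rfl⟩ := f.dec hx
  rw [← conj_mul, m, ← conj_pow, gy, mul_inv_cancel_right]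
  exact mul_mem (pow_mem f.my _) (f.mF _)

theorem mon (hc : c = 1 ∨ c * e1 * c⁻¹ = e1 ∧ c * e2 * c⁻¹ = e3 ∧ c * e3 * c⁻¹ = e2⁻¹)
    (hg : g ∈ closure ({y, e1, e2, e3, a, b, r, c} : Set G)) :
    ∃ p q, ∀ v, g * yF e1 e2 e3 v * g⁻¹ = yF e1 e2 e3 (ys q (yp p v)) := by
  have k : ∀ x ∈ J, ∃ p q, ∀ v, x * yF e1 e2 e3 v * x⁻¹ = yF e1 e2 e3 (ys q (yp p v)) := fun x hx =>
    ⟨0, 0, fun v => by rw [f.Jc x hx _ (f.mF v), mul_inv_cancel_right]; rfl⟩
  induction hg using closure_induction with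
  | mem x hx =>
    rcases hx with rfl | rfl | rfl | rfl | rfl | rfl | rfl | rfl
    exacts [k _ f.my, k _ f.m1, k _ f.m2, k _ f.m3, ⟨0, 1, f.Ma⟩, ⟨0, 2, f.Mb⟩, ⟨1, 0, f.Mr⟩,
      hc.elim (fun e => k _ (e ▸ one_mem _)) fun e => ⟨3, 2, f.Mc e.1 e.2.1 e.2.2⟩]
  | one => exact k _ (one_mem _)
  | mul x w _ _ s t =>
    obtain ⟨p, q, s⟩ := s
    obtain ⟨p', q', t⟩ := t
    obtain ⟨p'', q'', e⟩ := y_mul p q p' q'
    exact ⟨p'', q'', fun v => by rw [← e, ← s, ← t]; group⟩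
  | inv x _ s =>
    obtain ⟨p, q, s⟩ := s
    obtain ⟨p', q', e⟩ := y_inv p q
    exact ⟨p', q', fun v => by conv_lhs => rw [← e v, ← s]
                               group⟩

theorem orb (R : YV → Prop) (hR : ∀ (g : G) (φ : YV → YV), g * y = y * g → (∀ v, g * yF e1 e2 e3 v * g⁻¹ = yF e1 e2 e3 (φ v)) →
    ∀ v, R v → R (φ v)) {p : Fin 6} (hp : p.1 < 3) (q : Fin 4) {w : YV} (hw : R w) : R (ys q (yp p w)) := by
  have h1 : R (yp p w) := by
    fin_cases p
    · exact hw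
    · exact hR r _ f.ry f.Mr _ hw
    · exact hR r _ f.ry f.Mr _ (hR r _ f.ry f.Mr _ hw)
    all_goals simp at hp
  fin_cases q
  · exact h1
  · exact hR a _ f.ay f.Ma _ h1
  · exact hR b _ f.by' f.Mb _ h1
  · have := hR a _ f.ay f.Ma _ (hR b _ f.by' f.Mb _ h1)
    convert this using 1
    simp [ys]

end YF

theorem H3.planes (ell : Ell.{u}) {S Q J L M : Subgroup G} {z : G} {θ : G → S25} {π : G → A6} (h : H3 S Q J L M z θ π)
    {y e1 e2 e3 a b r c : G} (f : YF J y e1 e2 e3 a b r) (r3 : r ^ 3 ∈ J)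
    (hc : c = 1 ∨ c * e1 * c⁻¹ = e1 ∧ c * e2 * c⁻¹ = e3 ∧ c * e3 * c⁻¹ = e2⁻¹) (s1 : IsConj z (y * e1))
    (hN : normalizer (J : Set G) ⊓ centralizer {y} ≤ closure {y, e1, e2, e3, a, b, r, c}) :
    ∀ x ∈ J, x ∉ zpowers y → ∀ g, g * y = y * g → g * x * g⁻¹ * x⁻¹ ∈ zpowers y → g ∈ normalizer (J : Set G) := by
  let R : YV → Prop := fun v => ∀ g : G, g * y = y * g → g * yF e1 e2 e3 v = yF e1 e2 e3 v * g → g ∈ normalizer (J : Set G)
  have hR : ∀ (g : G) (φ : YV → YV), g * y = y * g → (∀ v, g * yF e1 e2 e3 v * g⁻¹ = yF e1 e2 e3 (φ v)) →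
      ∀ v, R v → R (φ v) := fun g φ gy m v k x xy xv => by
    have n := f.nJ gy m
    have := k (g⁻¹ * x * g) (((show Commute g y from gy).inv_left.mul_left xy).mul_left gy) (by
      rw [← m] at xv
      calc _ = g⁻¹ * (x * (g * yF e1 e2 e3 v * g⁻¹)) * g := by group
        _ = _ := by rw [xv]; group)
    exact (mul_mem_cancel_left (inv_mem n)).1 ((mul_mem_cancel_right n).1 this)
  have Rn : ∀ v, R v → R (-v) := fun v k g gy gv => k g gy (by
    rw [f.neg] at gv; simpa using (show Commute g _ from gv).inv_right.eq)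
  have l : ∀ {x : G}, x ∈ J → zpowers y ⊔ zpowers x ≤ J := fun k => sup_le (zpowers_le.2 f.my) (zpowers_le.2 k)
  have F1 : yF e1 e2 e3 (1, 0, 0) = e1 := by simp [yF, ZMod.val_one]
  have R1 : R (1, 0, 0) := fun g gy gv => h.ya_good (l (f.mF (1, 0, 0)))
    (by rw [h.ya_two (f.mF _) f.my f.y1 (f.nz (by decide))]; norm_num)
    (mul_mem (mem_sup_left (mem_zpowers y)) (mem_sup_right (by rw [F1]; exact mem_zpowers _))) s1 (y_cen.2 ⟨gy, gv⟩)
  have R3 : R (1, 1, 1) := fun g gy gv => by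
    have c9 := h.ya_two (f.mF (1, 1, 1)) f.my f.y1 (f.nz (by decide))
    obtain ⟨x, hx, k⟩ := h.ya_sing (l (f.mF (1, 1, 1))) c9.ge (f.nJ f.ry f.Mr) r3 (fun k => by
      have := f.Mr (1, 0, 0)
      rw [f.Jc r k _ (f.mF _), mul_inv_cancel_right, ← mul_inv_eq_one, ← f.neg, ← f.add] at this
      exact absurd (f.ind (l := 0) (by simpa using this)).2 (by decide))
      fun w hw => (y_cen.2 ⟨f.ry, mul_inv_eq_iff_eq_mul.1 (f.Mr (1, 1, 1))⟩ w hw).symm
    exact h.ya_good (l (f.mF _)) (by omega) hx k (y_cen.2 ⟨gy, gv⟩)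
  have R2 : R (0, 1, 1) := by
    have c9 := h.ya_two (f.mF (0, 1, 1)) f.my f.y1 (f.nz (by decide))
    have WJ := l (f.mF (0, 1, 1))
    have xW : yF e1 e2 e3 (0, 1, 1) ∈ zpowers y ⊔ zpowers (yF e1 e2 e3 (0, 1, 1)) := mem_sup_right (mem_zpowers _)
    have yW : y ∈ zpowers y ⊔ zpowers (yF e1 e2 e3 (0, 1, 1)) := mem_sup_left (mem_zpowers _)
    have cW : ∀ g, g ∈ centralizer ((zpowers y ⊔ zpowers (yF e1 e2 e3 (0, 1, 1)) : Subgroup G) : Set G) ↔ _ := fun g => y_cen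
    generalize zpowers y ⊔ zpowers (yF e1 e2 e3 (0, 1, 1)) = W at c9 WJ xW yW cW
    have JE : J ≤ centralizer (W : Set G) := fun x hx w hw => f.Jc w (WJ hw) x hx
    have st : ∀ g ∈ centralizer (W : Set G), g ∈ normalizer (J : Set G) → g ∈ J ∨ ∀ x ∈ J, g * x * g⁻¹ * x ∈ W := fun g k n => by
      obtain ⟨gy, gx⟩ := (cW g).1 k
      obtain ⟨p, q, m⟩ := f.mon hc (hN ⟨n, mem_centralizer_singleton_iff.2 gy⟩)
      have e := m (0, 1, 1)
      rw [gx, mul_inv_cancel_right, eq_comm, ← mul_inv_eq_one, ← f.neg, ← f.add] at e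
      rcases y_st p q (add_neg_eq_zero.1 (f.ind (l := 0) (by simpa using e)).2) with s | s
      · refine Or.inl (h.CJ fun x hx => ?_)
        obtain ⟨l, v, rfl⟩ := f.dec hx
        have := m v
        rw [s] at this
        exact (((show Commute g y from gy).pow_right _).mul_right (mul_inv_eq_iff_eq_mul.1 this)).eq.symm
      · refine Or.inr fun x hx => ?_
        obtain ⟨l, v, rfl⟩ := f.dec hx
        obtain ⟨k, s⟩ := s v
        rw [← conj_mul, m, ← conj_pow, gy, mul_inv_cancel_right,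
          (show Commute _ _ from f.Jc _ (f.mF _) _ (pow_mem f.my _)).mul_mul_mul_comm, ← f.add, s, f.smul]
        exact mul_mem (mul_mem (pow_mem yW _) (pow_mem yW _)) (pow_mem xW _)
    have hy : ∀ x ∈ J, x ∉ W → centralizer (W : Set G) ⊓ centralizer {x} ≤ normalizer (J : Set G) := fun x hx n g k => by
      obtain ⟨gy, gx⟩ := (cW g).1 k.1
      obtain ⟨l, v, rfl⟩ := f.dec hx
      have gv : Commute g (yF e1 e2 e3 v) := by
        simpa using ((show Commute g y from gy).pow_right l.val).inv_right.mul_right (mem_centralizer_singleton_iff.1 k.2)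
      rcases y_hyp v with ⟨m, rfl⟩ | ⟨m, p, hp, q, w, hw, e⟩
      · exact absurd (mul_mem (pow_mem yW _) (f.smul _ _ ▸ pow_mem xW _)) n
      have Rw : R (ys q (yp p w)) := f.orb R hR hp q (by
        simp only [List.mem_cons, List.not_mem_nil, or_false] at hw
        rcases hw with rfl | rfl
        exacts [R1, R3])
      have : R (v + m.1 • (0, 1, 1)) := e.elim (fun e => e ▸ Rw) fun e => e ▸ Rn _ Rw
      exact this g gy (by rw [f.add, f.smul]; exact gv.mul_right ((show Commute g _ from gx).pow_right _))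
    have : (W.subgroupOf (centralizer (W : Set G))).Normal := ⟨fun w hw g => by
      rw [mem_subgroupOf] at hw ⊢
      rw [coe_mul, coe_mul, coe_inv, ← g.2 _ hw, mul_inv_cancel_right]; exact hw⟩
    obtain ⟨ψ, p⟩ := exists_PH (WJ.trans JE) (MulEquiv.refl _)
    have c1 := p.card_im JE
    rw [f.cJ, inf_eq_right.2 WJ, c9] at c1
    have nrm : ∀ g ∈ centralizer (W : Set G), ψ g ∈ normalizer (p.im J : Set _) → g ∈ normalizer (J : Set G) := fun g k n =>
      mem_normalizer_of_conj_mem fun x hx => by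
        obtain ⟨x', a1, a2, e⟩ := p.mem_im.1 (conj_mem_of_mem_normalizer n (p.mem_im.2 ⟨x, hx, JE hx, rfl⟩))
        rw [← p.cn k (JE hx)] at e
        exact (mul_mem_cancel_left (inv_mem a1)).1 (WJ ((p.eq a2 (mul_mem (mul_mem k (JE hx)) (inv_mem k))).1 e))
    have N := ell _ (p.im J) (by omega) (fun x hx => by
      obtain ⟨x, a1, a2, rfl⟩ := p.mem_im.1 hx
      rw [← p.pow a2, f.J3 x a1]; exact (p.ker (one_mem _)).2 (one_mem _)) (fun x hx n => by
      obtain ⟨x, a1, a2, rfl⟩ := p.mem_im.1 hx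
      have xW : x ∉ W := fun k => n ((p.ker a2).2 k)
      refine le_antisymm (fun g hg => ?_) fun g hg => ?_
      · obtain ⟨g, k, rfl⟩ := p.sur g
        have w : x⁻¹ * (g * x * g⁻¹) ∈ W := (p.eq a2 (mul_mem (mul_mem k a2) (inv_mem k))).1 (by
          rw [p.cn k a2, mem_centralizer_singleton_iff.1 hg, mul_inv_cancel_right])
        have gJ := h.ya_red (le_inf JE fun x' hx' => mem_centralizer_singleton_iff.2 (f.Jc x' hx' x a1)) (hy x a1 xW)
          (inv_mem (mem_normalizer_of_conj_mem (g := g⁻¹) fun s hs => mem_inf.2 ⟨mul_mem (mul_mem (inv_mem k) (mem_inf.1 hs).1) (inv_mem (inv_mem k)),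
            mem_centralizer_singleton_iff.2 (by
              have e := ((show Commute s x from mem_centralizer_singleton_iff.1 hs.2).mul_right (hs.1 _ w).symm).eq
              rw [mul_inv_cancel_left] at e
              calc _ = g⁻¹ * (s * (g * x * g⁻¹)) * g := by group
                _ = _ := by rw [e]; group)⟩))
        rw [inv_inv] at gJ
        rcases st g k gJ with s | s
        · exact p.mem_im.2 ⟨g, s, k, rfl⟩
        · exfalso
          have := mul_mem (inv_mem w) (s x a1)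
          have e : (x⁻¹ * (g * x * g⁻¹))⁻¹ * (g * x * g⁻¹ * x) = x⁻¹ := by
            rw [f.Jc _ (inv_mem a1) _ (conj_mem_of_mem_normalizer gJ a1), mul_inv_rev, inv_inv, mul_assoc, inv_mul_cancel_left]
            exact eq_inv_of_mul_eq_one_left (by rw [← f.J3 x a1]; simp [pow_succ])
          exact xW (W.inv_mem_iff.1 (e ▸ this))
      · obtain ⟨g, b1, b2, rfl⟩ := p.mem_im.1 hg
        rw [mem_centralizer_singleton_iff, ← p.mul b2 a2, ← p.mul a2 b2, f.Jc g b1 x a1]) (fun g n => by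
      obtain ⟨g, k, rfl⟩ := p.sur g
      refine (st g k (nrm g k n)).imp (fun s => p.mem_im.2 ⟨g, s, k, rfl⟩) fun s x hx => ?_
      obtain ⟨x, a1, a2, rfl⟩ := p.mem_im.1 hx
      have m := mul_mem (mul_mem k a2) (inv_mem k)
      rw [← p.cn k a2, ← mul_eq_one_iff_eq_inv, ← p.mul m a2]
      exact (p.ker (mul_mem m a2)).2 (s x a1))
    exact fun g gy gx => nrm g ((cW g).2 ⟨gy, gx⟩) (by rw [normalizer_eq_top]; trivial)
  intro x hx n g gy e
  obtain ⟨l, v, rfl⟩ := f.dec hx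
  obtain ⟨p, hp, q, w, hw, ev⟩ := y_orb v fun k => n (by rw [k, YF.zero, mul_one]; exact pow_mem (mem_zpowers y) _)
  have Rw : R (ys q (yp p w)) := f.orb R hR hp q (by
    simp only [List.mem_cons, List.not_mem_nil, or_false] at hw
    rcases hw with rfl | rfl | rfl
    exacts [R1, R3, R2])
  have Rv : R v := ev.elim (fun e => e ▸ Rw) fun e => e ▸ Rn _ Rw
  generalize hX : y ^ l.val * yF e1 e2 e3 v = x at hx e
  have cy : Commute g y := gy
  have := h.ya_red (E := centralizer {y} ⊓ centralizer {x}) (le_inf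
    (fun x' hx' => mem_centralizer_singleton_iff.2 (f.Jc x' hx' y f.my)) fun x' hx' => mem_centralizer_singleton_iff.2 (f.Jc x' hx' x hx))
    (fun s hs => by
      have sy : Commute s y := mem_centralizer_singleton_iff.1 hs.1
      have sx : Commute s x := mem_centralizer_singleton_iff.1 hs.2
      rw [← hX] at sx
      exact Rv s sy (by simpa using ((sy.pow_right l.val).inv_right.mul_right sx).eq))
    (inv_mem (mem_normalizer_of_conj_mem (g := g⁻¹) fun s hs => by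
      have sy : Commute s y := mem_centralizer_singleton_iff.1 hs.1
      have sx : Commute s x := mem_centralizer_singleton_iff.1 hs.2
      refine ⟨mem_centralizer_singleton_iff.2 ((cy.inv_left.mul_left sy).mul_left cy.inv_left.inv_left),
        mem_centralizer_singleton_iff.2 ?_⟩
      obtain ⟨n, en⟩ := e
      have e2 := ((sy.zpow_right n).mul_right sx).eq
      rw [show y ^ n = g * x * g⁻¹ * x⁻¹ from en, inv_mul_cancel_right] at e2
      calc _ = g⁻¹ * (s * (g * x * g⁻¹)) * g := by group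
        _ = _ := by rw [e2]; group))
  rwa [inv_inv] at this

end Cfsg.Lib.Mc3
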