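import Cfsg.Agent.Lib.Mc3.Pa
import Cfsg.Agent.Lib.Mc3.H6

/-! Centralisers of the planes of `J` through `y` normalise `J`. -/

set_option autoImplicit false
set_option synthInstance.maxSize 100000
set_option maxRecDepth 100000

namespace Cfsg.Lib.Mc3

open Subgroup Cfsg.Lib.Amalg Cfsg.Lib.Core

universe u

theorem yp_ellq {G : Type u} [Group G] [Finite G]
    (ell : ∀ (Y : Type u) [Group Y] [Finite Y] (E : Subgroup Y), Nat.card E = 9 → (∀ x ∈ E, x ^ 3 = 1) →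
      (∀ x ∈ E, x ≠ 1 → centralizer {x} = E) → (∀ g ∈ normalizer (E : Set Y), g ∈ E ∨ ∀ x ∈ E, g * x * g⁻¹ = x⁻¹) → E.Normal)
    {C J W : Subgroup G} (WJ : W ≤ J) (JC : J ≤ C) (Wc : ∀ w ∈ W, ∀ g ∈ C, g * w = w * g) (cJ : Nat.card J = 81) (cW : Nat.card W = 9)
    (J3 : ∀ x ∈ J, x ^ 3 = 1) (Jc : ∀ x ∈ J, ∀ y ∈ J, x * y = y * x)
    (hC : ∀ x ∈ J, x ∉ W → ∀ g ∈ C, g * x * g⁻¹ ∈ J → g ∈ normalizer (J : Set G))
    (hN : ∀ g ∈ C, g ∈ normalizer (J : Set G) → g ∈ J ∨ ∀ x ∈ J, g * x * g⁻¹ * x ∈ W) : C ≤ normalizer (J : Set G) := by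
  haveI : (W.subgroupOf C).Normal := ⟨fun w hw g => by
    rw [mem_subgroupOf] at hw ⊢
    simpa [Wc _ hw _ g.2] using hw⟩
  let f := QuotientGroup.mk' (W.subgroupOf C)
  have f1 : ∀ g : C, f g = 1 ↔ (g : G) ∈ W := fun g => (QuotientGroup.eq_one_iff g).trans mem_subgroupOf
  have mE : ∀ g : C, f g ∈ (J.subgroupOf C).map f ↔ (g : G) ∈ J := fun g => ⟨fun ⟨x, hx, e⟩ => by
    have : ((x⁻¹ * g : C) : G) ∈ W := (f1 _).1 (by rw [map_mul, map_inv, e, inv_mul_cancel])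
    simpa using mul_mem (mem_subgroupOf.1 hx) (WJ this), fun h => ⟨g, h, rfl⟩⟩
  have hn := ell _ ((J.subgroupOf C).map f) (by
    have k := (W.subgroupOf J).card_mul_index
    rw [Nat.card_congr (subgroupOfEquivOfLe WJ).toEquiv, cW, cJ] at k
    rw [← relIndex_ker, QuotientGroup.ker_mk', relIndex_subgroupOf JC, relIndex]; omega)
    (by rintro _ ⟨x, hx, rfl⟩; rw [← map_pow, show x ^ 3 = 1 from Subtype.ext (J3 _ hx), map_one]) ?_ ?_
  · intro g hg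
    refine mem_normalizer_fintype fun x hx => ?_
    have := hn.conj_mem _ ((mE ⟨x, JC hx⟩).2 hx) (f ⟨g, hg⟩)
    rw [← map_inv, ← map_mul, ← map_mul] at this
    exact (mE _).1 this
  · rintro _ ⟨x, hx, rfl⟩ x1
    have xW : (x : G) ∉ W := fun h => x1 ((f1 x).2 h)
    have xJ : (x : G) ∈ J := hx
    refine le_antisymm (fun g hg => ?_) ?_
    · obtain ⟨g, rfl⟩ := QuotientGroup.mk'_surjective _ g
      have k : (g : G) * x * (g : G)⁻¹ * (x : G)⁻¹ ∈ W := (f1 (g * x * g⁻¹ * x⁻¹)).1 (by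
        simp only [map_mul, map_inv]
        rw [show f g * f x = f x * f g from mem_centralizer_singleton_iff.1 hg]; group)
      rcases hN g g.2 (hC x xJ xW g g.2 (by simpa using mul_mem (WJ k) xJ)) with h | h
      · exact (mE g).2 h
      · have k2 : (x : G) * x ∈ W := by simpa [mul_assoc] using mul_mem (inv_mem k) (h x xJ)
        refine (xW ?_).elim
        have k3 : (x : G) = ((x : G) * (x : G))⁻¹ := by
          rw [eq_inv_iff_mul_eq_one, ← J3 x xJ, pow_succ', sq]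
        rw [k3]; exact inv_mem k2
    · rintro _ ⟨g, hg, rfl⟩
      rw [mem_centralizer_singleton_iff, ← map_mul, ← map_mul, show g * x = x * g from Subtype.ext (Jc _ hg _ xJ)]
  · intro g hg
    obtain ⟨g, rfl⟩ := QuotientGroup.mk'_surjective _ g
    have k : (g : G) ∈ normalizer (J : Set G) := mem_normalizer_fintype fun x hx => by
      have := (mem_normalizer_iff.1 hg _).1 ((mE ⟨x, JC hx⟩).2 hx)
      rw [← map_inv, ← map_mul, ← map_mul] at this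
      exact (mE _).1 this
    refine (hN g g.2 k).imp (mE g).2 ?_
    rintro h _ ⟨x, hx, rfl⟩
    rw [eq_inv_iff_mul_eq_one, ← map_inv, ← map_mul, ← map_mul, ← map_mul]
    exact (f1 _).2 (h x hx)

abbrev YpC := Multiplicative (ZMod 3)
abbrev YpM := YpC × YpC × YpC × YpC
def ypg : YpC := Multiplicative.ofAdd 1
def ypt : YpM → YpM := fun a => (a.1, a.2.1, a.2.2.1⁻¹, a.2.2.2⁻¹)
def ypv : YpM → YpM := fun a => (a.1, a.2.1⁻¹, a.2.2.1, a.2.2.2⁻¹)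
def ypr : YpM → YpM := fun a => (a.1, a.2.2.2, a.2.1, a.2.2.1)
def ypc : YpM → YpM := fun a => (a.1, a.2.1, a.2.2.2⁻¹, a.2.2.1)
def ypW : Subgroup YpM where
  carrier := {a | a.2.1 = 1 ∧ a.2.2.1 = a.2.2.2}
  one_mem' := ⟨rfl, rfl⟩
  mul_mem' h k := ⟨by simp [h.1, k.1], by simp [h.2, k.2]⟩
  inv_mem' h := ⟨by simp [h.1], by simp [h.2]⟩
instance ypWd : DecidablePred (· ∈ ypW) := fun a => inferInstanceAs (Decidable (a.2.1 = 1 ∧ a.2.2.1 = a.2.2.2))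
def ypS (a : YpM) : Prop := ∃ i k : Fin 2, ∃ l n s : Fin 3, ∃ b ∈ [((1, ypg, 1, 1) : YpM), (1, ypg, ypg, ypg)],
  ypt^[i.1] (ypv^[k.1] (ypr^[l.1] b)) = (ypg, 1, 1, 1) ^ n.1 * a ^ s.1
instance ypSd : DecidablePred ypS := fun a => by unfold ypS; infer_instance

theorem yp_f1 : ∀ a : YpM, ypt a = ypc (ypc a) := by decide +kernel
theorem yp_f2 : (∀ a : YpM, ypc^[4] a = a) ∧ (∀ a : YpM, ypv^[2] a = a) ∧ ∀ a : YpM, ypr^[3] a = a :=
  ⟨by decide +kernel, by decide +kernel, by decide +kernel⟩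
theorem yp_f3 : ∀ u : YpM, ypr u = u → ∃ n s : Fin 3, u = ((ypg, 1, 1, 1) : YpM) ^ n.1 * ((1, ypg, ypg, ypg) : YpM) ^ s.1 := by
  decide +kernel
theorem yp_f4 : ∀ u : YpM, u ∈ ypW → ∃ n s : Fin 3, u = ((ypg, 1, 1, 1) : YpM) ^ n.1 * ((1, 1, ypg, ypg) : YpM) ^ s.1 := by
  decide +kernel
theorem yp_f5 : ∀ u : YpM, u ∉ ypW → ∃ s : Fin 3, ypS (u * ((1, 1, ypg, ypg) : YpM) ^ s.1) := by decide +kernel
theorem yp_f6 : ∀ (i : Fin 4) (k : Fin 2) (l : Fin 3), ((1, 1, ypg, ypg) : YpM) = ypc^[i.1] (ypv^[k.1] (ypr^[l.1] (1, 1, ypg, ypg))) →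
    (∀ a : YpM, ypc^[i.1] (ypv^[k.1] (ypr^[l.1] a)) = a) ∨ ∀ a : YpM, ypc^[i.1] (ypv^[k.1] (ypr^[l.1] a)) * a ∈ ypW := by
  decide +kernel
theorem yp_f7 : ∀ u : YpM, (∃ n : Fin 3, u = ((ypg, 1, 1, 1) : YpM) ^ n.1) ∨ ypS u ∨ ∃ i k : Fin 2, ∃ l n s : Fin 3,
    ypt^[i.1] (ypv^[k.1] (ypr^[l.1] (1, 1, ypg, ypg))) = ((ypg, 1, 1, 1) : YpM) ^ n.1 * u ^ s.1 := by decide +kernel
theorem yp_f8 : Nat.card ypW = 9 := by rw [Nat.card_eq_fintype_card]; decide +kernel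
theorem yp_m : (∀ a b : YpM, ypt (a * b) = ypt a * ypt b) ∧ (∀ a b : YpM, ypv (a * b) = ypv a * ypv b) ∧
    (∀ a b : YpM, ypr (a * b) = ypr a * ypr b) ∧ ∀ a b : YpM, ypc (a * b) = ypc a * ypc b := by
  refine ⟨fun a b => ?_, fun a b => ?_, fun a b => ?_, fun a b => ?_⟩ <;> simp [ypt, ypv, ypr, ypc, mul_comm]

variable {G : Type*} [Group G]

def YpA (β : YpM →* G) (g : G) (f : YpM → YpM) : Prop := ∀ a, g * β a * g⁻¹ = β (f a)

namespace YpA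
variable {β : YpM →* G} {g g' : G} {f f' : YpM → YpM}

theorem of_gen (hf : ∀ a b, f (a * b) = f a * f b) (h0 : g * β (ypg, 1, 1, 1) * g⁻¹ = β (f (ypg, 1, 1, 1)))
    (h1 : g * β (1, ypg, 1, 1) * g⁻¹ = β (f (1, ypg, 1, 1))) (h2 : g * β (1, 1, ypg, 1) * g⁻¹ = β (f (1, 1, ypg, 1)))
    (h3 : g * β (1, 1, 1, ypg) * g⁻¹ = β (f (1, 1, 1, ypg))) : YpA β g f := fun t => by
  change MulAut.conj g (β t) = β (MonoidHom.mk' f hf t)
  change MulAut.conj g (β _) = β (MonoidHom.mk' f hf _) at h0 h1 h2 h3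
  rw [(by decide +kernel : ∀ t : YpM, t = (ypg, 1, 1, 1) ^ t.1.toAdd.val * (1, ypg, 1, 1) ^ t.2.1.toAdd.val *
    (1, 1, ypg, 1) ^ t.2.2.1.toAdd.val * (1, 1, 1, ypg) ^ t.2.2.2.toAdd.val) t]
  simp only [map_mul, map_pow, h0, h1, h2, h3]

theorem mul (h : YpA β g f) (h' : YpA β g' f') : YpA β (g * g') (fun a => f (f' a)) := fun t => by
  show _ = β (f (f' t))
  rw [← h, ← h']; group

theorem pow (h : YpA β g f) (n : ℕ) : YpA β (g ^ n) (f^[n]) := by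
  induction n with
  | zero => intro a; simp
  | succ n ih => rw [pow_succ]; exact ih.mul h

end YpA

theorem yp_c3 {x : G} (h : x ^ 3 = 1) : ∃ f : YpC →* G, ∀ a, f a = x ^ a.toAdd.val :=
  ⟨MonoidHom.mk' (fun a => x ^ a.toAdd.val) fun a b => by
    rw [toAdd_mul, ZMod.val_add, ← pow_eq_pow_mod _ h, pow_add], fun _ => rfl⟩

theorem yp_mod {f : YpM → YpM} {n : ℕ} (h : ∀ a, f^[n] a = a) (i : ℕ) (a : YpM) : f^[i] a = f^[i % n] a :=
  (Function.IsPeriodicPt.iterate_mod_apply (h a) i).symm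

variable [Finite G] {S Q J L M : Subgroup G} {z : G} {θ : G → S25} {π : G → A6} {y e₁ e₂ e₃ t v r c : G}

theorem H3.yp_red (h : H3 S Q J L M z θ π) {x g : G} (yJ : y ∈ J)
    (P : ∀ g, g * y = y * g → g * x = x * g → g ∈ normalizer (J : Set G)) (a : g * y = y * g) (b : g * x * g⁻¹ ∈ J) :
    g ∈ normalizer (J : Set G) := by
  haveI : Fact (Nat.Prime 3) := ⟨Nat.prime_three⟩
  suffices k : cj g⁻¹ J ≤ normalizer (J : Set G) by
    obtain ⟨m, hm, e⟩ := (h.syl.of_le h.SJ le_top).exists_conj_le (isPGroup_cj g⁻¹ (h.syl.isPGroup.to_le h.JS)) k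
    rw [← cj_mul] at e
    exact inv_mem_iff.1 ((mul_mem_cancel_left hm).1 (h.cjJ e))
  refine cj_le_iff'.2 fun j hj => P _ ?_ ?_ <;> rw [inv_inv]
  · calc _ = g⁻¹ * j * (g * y) := by group
      _ = g⁻¹ * (j * y) * g := by rw [a]; group
      _ = g⁻¹ * (y * g) * (g⁻¹ * j * g) := by rw [h.Jc j hj y yJ]; group
      _ = _ := by rw [← a]; group
  · calc _ = g⁻¹ * (j * (g * x * g⁻¹)) * g := by group
      _ = _ := by rw [h.Jc j hj _ b]; group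

theorem H6.yp_beta (h : H6 S Q J L M z θ π y e₁ e₂ e₃ t v r c) : ∃ β : YpM →* G, Function.Injective β ∧ β.range = J ∧
    β (ypg, 1, 1, 1) = y ∧ β (1, ypg, 1, 1) = e₁ ∧ β (1, 1, ypg, 1) = e₂ ∧ β (1, 1, 1, ypg) = e₃ := by
  obtain ⟨f0, k0⟩ := yp_c3 (h.J3 _ h.yJ)
  obtain ⟨f1, k1⟩ := yp_c3 (h.J3 _ h.J1)
  obtain ⟨f2, k2⟩ := yp_c3 (h.J3 _ h.J2)
  obtain ⟨f3, k3⟩ := yp_c3 (h.J3 _ h.J3')
  have m0 : ∀ a, f0 a ∈ J := fun a => k0 a ▸ pow_mem h.yJ _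
  have m1 : ∀ a, f1 a ∈ J := fun a => k1 a ▸ pow_mem h.J1 _
  have m2 : ∀ a, f2 a ∈ J := fun a => k2 a ▸ pow_mem h.J2 _
  have m3 : ∀ a, f3 a ∈ J := fun a => k3 a ▸ pow_mem h.J3' _
  let β : YpM →* G := f0.noncommCoprod (f1.noncommCoprod (f2.noncommCoprod f3 fun a b => h.Jc _ (m2 a) _ (m3 b))
    fun a b => h.Jc _ (m1 a) _ (mul_mem (m2 _) (m3 _))) fun a b => h.Jc _ (m0 a) _ (mul_mem (m1 _) (mul_mem (m2 _) (m3 _)))
  have b : ∀ a, β a = f0 a.1 * (f1 a.2.1 * (f2 a.2.2.1 * f3 a.2.2.2)) := fun _ => rfl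
  have g1 : ypg.toAdd.val = 1 := rfl
  have b0 : β (ypg, 1, 1, 1) = y := by rw [b]; simp only [map_one, mul_one]; rw [k0, g1, pow_one]
  have b1 : β (1, ypg, 1, 1) = e₁ := by rw [b]; simp only [map_one, mul_one, one_mul]; rw [k1, g1, pow_one]
  have b2 : β (1, 1, ypg, 1) = e₂ := by rw [b]; simp only [map_one, mul_one, one_mul]; rw [k2, g1, pow_one]
  have b3 : β (1, 1, 1, ypg) = e₃ := by rw [b]; simp only [map_one, one_mul]; rw [k3, g1, pow_one]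
  have hr : β.range = J := by
    refine le_antisymm ?_ fun x hx => ?_
    · rintro _ ⟨a, rfl⟩
      exact mul_mem (m0 _) (mul_mem (m1 _) (mul_mem (m2 _) (m3 _)))
    · obtain ⟨_, _, _, _, rfl⟩ := h.gen x hx
      have q := fun a => MonoidHom.mem_range.2 (⟨a, rfl⟩ : ∃ b, β b = β a)
      exact mul_mem (mul_mem (mul_mem (pow_mem (b0 ▸ q _) _) (pow_mem (b1 ▸ q _) _)) (pow_mem (b2 ▸ q _) _)) (pow_mem (b3 ▸ q _) _)
  have := ((Nat.bijective_iff_surjective_and_card β.rangeRestrict).2 ⟨β.rangeRestrict_surjective, by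
    rw [hr, h.cJ, Nat.card_eq_fintype_card]; rfl⟩).1
  exact ⟨β, fun x y e => this (Subtype.ext e), hr, b0, b1, b2, b3⟩

set_option maxHeartbeats 1600000 in
theorem H6.yp {G : Type u} [Group G] [Finite G] {S Q J L M : Subgroup G} {z : G} {θ : G → S25} {π : G → A6} {y e₁ e₂ e₃ t v r c : G}
    (h : H6 S Q J L M z θ π y e₁ e₂ e₃ t v r c)
    (ell : ∀ (Y : Type u) [Group Y] [Finite Y] (E : Subgroup Y), Nat.card E = 9 → (∀ x ∈ E, x ^ 3 = 1) →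
      (∀ x ∈ E, x ≠ 1 → centralizer {x} = E) → (∀ g ∈ normalizer (E : Set Y), g ∈ E ∨ ∀ x ∈ E, g * x * g⁻¹ = x⁻¹) → E.Normal)
    (zz : IsConj z z⁻¹) : ∀ x ∈ J, x ∉ zpowers y → ∀ g, g * y = y * g → g * x * g⁻¹ * x⁻¹ ∈ zpowers y →
      g ∈ normalizer (J : Set G) := by
  haveI : Fact (Nat.Prime 3) := ⟨Nat.prime_three⟩
  obtain ⟨β, hi, hr, b0, b1, b2, b3⟩ := h.yp_beta
  have bJ : ∀ a, β a ∈ J := fun a => hr ▸ ⟨a, rfl⟩
  have Jb : ∀ x ∈ J, ∃ a, β a = x := fun x hx => hr.ge hx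
  have j1 : β (1, ypg⁻¹, 1, 1) = e₁⁻¹ := by rw [← b1, ← map_inv]; rfl
  have j2 : β (1, 1, ypg⁻¹, 1) = e₂⁻¹ := by rw [← b2, ← map_inv]; rfl
  have j3 : β (1, 1, 1, ypg⁻¹) = e₃⁻¹ := by rw [← b3, ← map_inv]; rfl
  have cy : ∀ {g}, g * y = y * g → g * β (ypg, 1, 1, 1) * g⁻¹ = β (ypg, 1, 1, 1) := fun e => by rw [b0, e]; simp
  have ht : YpA β t ypt := .of_gen yp_m.1 (cy h.ty) (by rw [b1, h.t1, ← b1]; rfl) (by rw [b2, h.t2, ← j2]; rfl)
    (by rw [b3, h.t3, ← j3]; rfl)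
  have hv : YpA β v ypv := .of_gen yp_m.2.1 (cy h.vy) (by rw [b1, h.v1, ← j1]; rfl) (by rw [b2, h.v2, ← b2]; rfl)
    (by rw [b3, h.v3, ← j3]; rfl)
  have hr' : YpA β r ypr := .of_gen yp_m.2.2.1 (cy h.ry) (by rw [b1, h.r1, ← b2]; rfl) (by rw [b2, h.r2, ← b3]; rfl)
    (by rw [b3, h.r3, ← b1]; rfl)
  obtain ⟨j, hc⟩ : ∃ j, YpA β c (ypc^[j]) := by
    rcases h.cc with e | ⟨-, c1, c2, c3⟩
    · exact ⟨2, fun a => by rw [e, ht a, yp_f1]; rfl⟩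
    · exact ⟨1, .of_gen (f := ypc) yp_m.2.2.2 (cy h.cy) (by rw [b1, c1, ← b1]; rfl) (by rw [b2, c2, ← b3]; rfl)
        (by rw [b3, c3, ← j2]; rfl)⟩
  have cJ : ∀ {g}, (∀ a, g * β a * g⁻¹ = β a) → g ∈ J := fun {g} e => h.CJ fun x hx => by
    obtain ⟨a, rfl⟩ := Jb x hx
    exact (mul_inv_eq_iff_eq_mul.1 (e a)).symm
  have mon : ∀ g ∈ normalizer (J : Set G), g * y = y * g → ∃ (i : Fin 4) (k : Fin 2) (l : Fin 3),
      ∀ a, g * β a * g⁻¹ = β (ypc^[i.1] (ypv^[k.1] (ypr^[l.1] a))) := fun g h1 h2 => by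
    obtain ⟨x, hx, i, k, l, rfl⟩ := h.str g h1 h2
    refine ⟨⟨j * i % 4, by omega⟩, ⟨k % 2, by omega⟩, ⟨l % 3, by omega⟩, fun a => ?_⟩
    have := ((hc.pow i).mul (hv.pow k)).mul (hr'.pow l) a
    dsimp only at this ⊢
    rw [← yp_mod yp_f2.1, ← yp_mod yp_f2.2.1, ← yp_mod yp_f2.2.2, Function.iterate_mul, ← this]
    calc _ = x * (c ^ i * v ^ k * r ^ l * β a * (c ^ i * v ^ k * r ^ l)⁻¹) * x⁻¹ := by group
      _ = _ := by rw [this, h.Jc x hx _ (bJ _)]; simp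
  let P : YpM → Prop := fun a => ∀ g, g * y = y * g → g * β a = β a * g → g ∈ normalizer (J : Set G)
  have z3 : z ^ 3 = 1 := h.z3 ▸ pow_orderOf_eq_one z
  have ny : ∀ m, y ∉ zpowers (m * z * m⁻¹) := fun m ⟨n, e⟩ => by
    dsimp only at e
    rw [conj_zpow, zpow_eq_zpow_emod n (by exact_mod_cast z3 : z ^ (3 : ℤ) = 1)] at e
    have : n % 3 = 0 ∨ n % 3 = 1 ∨ n % 3 = 2 := by omega
    rcases this with k | k | k <;> rw [k] at e
    · exact h.y1 (by simpa using e.symm)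
    · exact h.ny (isConj_iff.2 ⟨m, by simpa using e⟩)
    · refine h.ny (zz.trans (isConj_iff.2 ⟨m, ?_⟩))
      rw [← e, show z ^ (2 : ℤ) = z⁻¹ from eq_inv_of_mul_eq_one_left (by rw [← z3]; group)]
  have P1 : P (1, ypg, 1, 1) := fun g a b => h.pa_cen h.yJ (by simpa using ny 1) (by
    rw [b1] at b
    rw [h.zy]; exact (Commute.mul_right a b).inv_right) a
  have cp : ∀ {g a} (n s : ℕ), g * y = y * g → g * β a = β a * g → Commute g (β ((ypg, 1, 1, 1) ^ n * a ^ s)) := fun n s p q => by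
    rw [map_mul, map_pow, map_pow, b0]; exact (Commute.pow_right p n).mul_right (Commute.pow_right q s)
  have P3 : P (1, ypg, ypg, ypg) := fun g a b => by
    have r3 : r ^ 3 ∈ J := cJ fun a => by rw [hr'.pow 3 a, yp_f2.2.2]
    obtain ⟨m, hm, e⟩ := (h.syl.of_le h.SJ le_top).exists_le_conj (isPGroup_zpowers_of_pow (x := r) (k := 2)
      (by rw [sq, pow_mul, h.J3 _ r3])) (zpowers_le_of_mem h.rN)
    obtain ⟨u, hu⟩ := Jb _ (conj_mem_of_mem_normalizer hm h.zJ)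
    have k := h.Sz (mem_cj.1 (e (mem_zpowers r)))
    have k2 : ypr u = u := hi (by
      rw [← hr' u, hu]
      calc _ = m * (m⁻¹ * r * m * z) * m⁻¹ * r⁻¹ := by group
        _ = _ := by rw [k]; group)
    obtain ⟨n, s, rfl⟩ := yp_f3 u k2
    exact h.pa_cen' hm h.yJ (ny m) (hu ▸ cp _ _ a b) a
  have orb : ∀ {a b} (i k l n s : ℕ), P b → ypt^[i] (ypv^[k] (ypr^[l] b)) = (ypg, 1, 1, 1) ^ n * a ^ s → P a :=
    fun {a b} i k l n s hb e g p q => by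
    have k1 := ((ht.pow i).mul (hv.pow k)).mul (hr'.pow l) b
    have k2 : t ^ i * v ^ k * r ^ l ∈ normalizer (J : Set G) := mul_mem (mul_mem (pow_mem h.tN _) (pow_mem h.vN _)) (pow_mem h.rN _)
    have k3 : Commute (t ^ i * v ^ k * r ^ l) y :=
      ((Commute.pow_left h.ty i).mul_left (Commute.pow_left h.vy k)).mul_left (Commute.pow_left h.ry l)
    dsimp only at k1
    rw [e] at k1
    have k4 := (cp n s p q).eq
    rw [← k1] at k4
    generalize t ^ i * v ^ k * r ^ l = m at *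
    have := hb (m⁻¹ * g * m) ((k3.inv_left.mul_left p).mul_left k3) (by
      calc _ = m⁻¹ * (g * (m * β b * m⁻¹)) * m := by group
        _ = _ := by rw [k4]; group)
    exact (mul_mem_cancel_left (inv_mem k2)).1 ((mul_mem_cancel_right k2).1 this)
  have PS : ∀ a, ypS a → P a := fun a ⟨i, k, l, n, s, b, hb, e⟩ => orb _ _ _ _ _ (by
    simp only [List.mem_cons, List.not_mem_nil, or_false] at hb
    rcases hb with rfl | rfl
    exacts [P1, P3]) e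
  have P2 : P (1, 1, ypg, ypg) := fun g a b => by
    have mc : ∀ {g}, g ∈ centralizer {y} ⊓ centralizer {β (1, 1, ypg, ypg)} →
        g * y = y * g ∧ g * β (1, 1, ypg, ypg) = β (1, 1, ypg, ypg) * g := fun k =>
      ⟨mem_centralizer_singleton_iff.1 k.1, mem_centralizer_singleton_iff.1 k.2⟩
    refine yp_ellq ell (C := centralizer {y} ⊓ centralizer {β (1, 1, ypg, ypg)}) (W := ypW.map β) ?_
      (fun x hx => ⟨mem_centralizer_singleton_iff.2 (h.Jc _ hx _ h.yJ), mem_centralizer_singleton_iff.2 (h.Jc _ hx _ (bJ _))⟩) ?_ h.cJ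
      (by rw [card_map_of_injective hi, yp_f8]) h.J3 h.Jc ?_ ?_
      ⟨mem_centralizer_singleton_iff.2 a, mem_centralizer_singleton_iff.2 b⟩
    · rintro _ ⟨u, -, rfl⟩; exact bJ u
    · rintro _ ⟨u, hu, rfl⟩ g hg
      obtain ⟨n, s, rfl⟩ := yp_f4 u hu
      exact cp _ _ (mc hg).1 (mc hg).2
    · intro x hx xW g hg k
      obtain ⟨u, rfl⟩ := Jb x hx
      obtain ⟨s, hs⟩ := yp_f5 u fun e => xW ⟨u, e, rfl⟩
      refine h.yp_red h.yJ (PS _ hs) (mc hg).1 ?_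
      rw [map_mul, map_pow, ← conj_mul, ← conj_pow, (mc hg).2, mul_inv_cancel_right]
      exact mul_mem k (pow_mem (bJ _) _)
    · intro g hg k
      obtain ⟨i, k, l, e⟩ := mon g k (mc hg).1
      have e1 := e (1, 1, ypg, ypg)
      rw [(mc hg).2, mul_inv_cancel_right] at e1
      rcases yp_f6 i k l (hi e1) with q | q
      · exact .inl (cJ fun a => by rw [e, q])
      · refine .inr fun x hx => ?_
        obtain ⟨u, rfl⟩ := Jb x hx
        rw [e, ← map_mul]; exact mem_map_of_mem β (q u)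
  intro x hx xy g p q
  obtain ⟨u, rfl⟩ := Jb x hx
  refine h.yp_red h.yJ ?_ p (by simpa using mul_mem (zpowers_le_of_mem h.yJ q) hx)
  rcases yp_f7 u with ⟨n, rfl⟩ | e | ⟨i, k, l, n, s, e⟩
  · exact (xy (by rw [map_pow, b0]; exact pow_mem (mem_zpowers y) _)).elim
  · exact PS u e
  · exact orb _ _ _ _ _ P2 e

end Cfsg.Lib.Mc3
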